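import Cfsg.Agent.Lib.BNPair.Parabolic

/-!
Simplicity criterion for groups with a (B,N)-pair.
-/

set_option autoImplicit false

namespace CfsgLib.BNPair.Simple

open CfsgLib.BNPair.Exchange CfsgLib.BNPair.Basic CfsgLib.BNPair.Parabolic

variable {G : Type*} [Group G] (P : Cfsg.BNPair G)

theorem length_le_two_of_reduced {s t : P.S} (hst : s ≠ t) :
    ℓ P (σ P t * σ P s) = 2 := by
  have h1 : ℓ P (σ P t * σ P s) ≠ ℓ P (σ P s) := len_gen_mul_ne P t _
  have hs : ℓ P (σ P s) = 1 := by
    have := len_gen_le (isInvGen P) s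
    have h0 : ℓ P (σ P s) ≠ 0 := fun h => σ_ne_one P s (len_eq_zero (isInvGen P) h)
    simp only [ℓ] at *
    omega
  have h2 := len_gen_mul_le (isInvGen P) t (σ P s)
  have h0 : ℓ P (σ P t * σ P s) ≠ 0 := fun h => hst (σ_inj P (by
    have := eq_inv_of_mul_eq_one_right (len_eq_zero (isInvGen P) h)
    rwa [inv_eq_of_mul_eq_one_left (σ_mul_self P t)] at this))
  simp only [ℓ] at *
  omega

/-- For a normal subgroup `Z` with `Z B = P_J`, `J` commutes with its complement. -/
theorem commute_of_normal (Z : Subgroup G) [Z.Normal] {J : Set G} (hJ : J ⊆ P.S)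
    (hZ : Z ⊔ P.B = P.parabolic J) {s t : P.S} (hs : (s : G) ∈ J) (ht : (t : G) ∉ J) :
    σ P t * σ P s = σ P s * σ P t := by
  have hst : s ≠ t := fun h => ht (h ▸ hs)
  have hts : ℓ P (σ P t * σ P s) = 2 := length_le_two_of_reduced P hst
  have hmem : (s : G) ∈ Z ⊔ P.B := by
    rw [hZ]; exact Subgroup.mem_sup_right (Subgroup.subset_closure hs)
  rw [Subgroup.mem_sup_of_normal_left] at hmem
  obtain ⟨z, hz, b, hb, hzb⟩ := hmem
  have hconj : (t : G) * z * (t : G)⁻¹ ∈ P.parabolic J := by
    rw [← hZ]; exact Subgroup.mem_sup_left (Subgroup.Normal.conj_mem inferInstance z hz _)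
  have htinv : (t : G)⁻¹ = (t : G) * ((t : G) * t)⁻¹ := by group
  -- the element t s b⁻¹ t
  have h1 : (t : G) * (s : G) * b⁻¹ ∈ cell P (σ P t * σ P s) := by
    refine cell_mul P ?_ (P.B.inv_mem hb)
    refine gen_mul_cell_of_le P ?_ (mem_cell_proj P (sN P s))
    show ℓ P (σ P s) ≤ _
    have := len_gen_le (isInvGen P) s
    simp only [ℓ] at *
    omega
  have hel : (t : G) * (s : G) * b⁻¹ * t = (t * z * (t : G)⁻¹) * ((t : G) * t) := by
    rw [← hzb]; group
  have hel' : (t : G) * (s : G) * b⁻¹ * t ∈ P.parabolic J := by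
    rw [hel]; exact mul_mem hconj (Subgroup.mem_sup_left (P.sq_mem _ t.2))
  obtain ⟨w, hw, hwc⟩ := (parabolic_eq P hJ _).mp hel'
  have htJ : σ P t ∉ WJ P J := fun h => ht (mem_of_σ_mem_WJ P h)
  have hsJ : σ P s ∈ WJ P J := Subgroup.subset_closure ⟨s, hs, rfl⟩
  rcases mul_gen_cases P h1 t with h | h
  swap
  · have := cell_inj P h hwc
    exfalso
    apply htJ
    rw [show σ P t = w * σ P s by rw [← this, mul_assoc, σ_mul_self, mul_one]]
    exact mul_mem hw hsJ
  have hw_eq : σ P t * σ P s * σ P t = w := cell_inj P h hwc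
  obtain ⟨l, hl, hle, hlJ⟩ := exists_reduced_WJ P hw
  obtain ⟨l', hl's, hl', hl'e⟩ :=
    exists_reduced_sublist (isInvGen P) (hasExchange P) [t, s, t]
  have hl'e' : (l'.map (σ P)).prod = w := by rw [hl'e, ← hw_eq]; simp [mul_assoc]
  by_cases h3 : ℓ P (σ P t * σ P s * σ P t) ≤ 1
  · -- w is a generator
    have hlen : l'.length ≤ 1 := by
      rw [← hl', hl'e', ← hw_eq]; exact h3
    match l', hlen, hl's, hl'e' with
    | [], _, _, e => 
      exfalso
      apply σ_ne_one P s
      simp only [List.map_nil, List.prod_nil] at e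
      rw [← hw_eq] at e
      have : σ P t * σ P s * σ P t * σ P t = σ P t := by rw [← e, one_mul]
      rw [mul_assoc, σ_mul_self, mul_one] at this
      exact mul_eq_left.mp this
    | [u], _, hsub, e =>
      have hu : u ∈ [t, s, t] := hsub.subset (by simp)
      simp only [List.map_cons, List.map_nil, List.prod_cons, List.prod_nil, mul_one] at e
      rcases List.mem_cons.mp hu with rfl | hu
      · exact absurd (e ▸ hw) htJ
      rcases List.mem_cons.mp hu with rfl | hu
      · rw [← hw_eq] at e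
        calc σ P t * σ P u = σ P t * σ P u * (σ P t * σ P t) := by rw [σ_mul_self, mul_one]
          _ = σ P t * σ P u * σ P t * σ P t := by group
          _ = σ P u * σ P t := by rw [← e]
      · simp at hu; subst hu; exact absurd (e ▸ hw) htJ
    | _ :: _ :: _, hlen, _, _ => simp at hlen
  · exfalso
    have h3' : ℓ P (σ P t * σ P s * σ P t) = 3 := by
      have h4 := len_mul_le (isInvGen P) (σ P t * σ P s) (σ P t)
      have h5 := len_gen_le (isInvGen P) t
      have h6 : ℓ P (σ P t * σ P s * σ P t) ≠ 2 := by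
        intro h2
        have h7 := len_gen_mul_ne P t (σ P s * σ P t)
        rw [← mul_assoc, h2] at h7
        have h8 := len_mul_le (isInvGen P) (σ P s) (σ P t)
        have h9 := len_gen_le (isInvGen P) s
        have h10 : ℓ P (σ P s * σ P t) = 2 := length_le_two_of_reduced P (Ne.symm hst)
        exact h7 h10.symm
      simp only [ℓ] at *
      omega
    have hred : Reduced (isInvGen P) [t, s, t] := by
      show len _ _ = _
      simpa [mul_assoc] using h3'
    obtain ⟨n, hn⟩ := QuotientGroup.mk'_surjective (T P) w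
    have hnP : (n : G) ∈ P.parabolic J :=
      (parabolic_eq P hJ _).mpr ⟨w, hw, hn ▸ mem_cell_proj P n⟩
    have hmem := (letters_mem P (M := P.parabolic J) le_sup_left [t, s, t] n hred
      (by rw [hn, ← hw_eq]; simp [mul_assoc])
      (fun x hx => mul_mem (mul_mem hnP (Subgroup.mem_sup_left hx)) (inv_mem hnP))).1 t (by simp)
    have : (t : G) ∈ P.S ∩ (P.parabolic J : Set G) := ⟨t.2, hmem⟩
    rw [inter_parabolic P hJ] at this
    exact ht this

/-- The simplicity criterion, with an arbitrary solvable `B`. -/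
theorem isSimpleGroup_of_BN [Nontrivial G] (hirr : P.Irreducible) (hsolv : Group.IsSolvable P.B)
    (hperf : commutator G = ⊤) (hcore : P.B.normalCore = ⊥) : IsSimpleGroup G := by
  refine ⟨fun Z hZn => ?_⟩
  have hM := eq_parabolic P (M := Z ⊔ P.B) le_sup_right
  set J := P.S ∩ ((Z ⊔ P.B : Subgroup G) : Set G) with hJdef
  have hJ : J ⊆ P.S := Set.inter_subset_left
  rcases J.eq_empty_or_nonempty with hJe | hJne
  · left
    rw [hJe, Cfsg.BNPair.parabolic, Subgroup.closure_empty, sup_bot_eq] at hM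
    rw [eq_bot_iff, ← hcore]
    exact Subgroup.normal_le_normalCore.mpr (hM ▸ le_sup_left)
  rcases (P.S \ J).eq_empty_or_nonempty with hJc | hJcne
  · right
    have hJS : J = P.S := Set.Subset.antisymm hJ (Set.sdiff_eq_empty.mp hJc)
    rw [hJS, parabolic_S] at hM
    -- G / Z is solvable and perfect
    have hsurj : Function.Surjective ((QuotientGroup.mk' Z).comp P.B.subtype) := by
      intro x
      obtain ⟨g, rfl⟩ := QuotientGroup.mk'_surjective Z x
      have : g ∈ Z ⊔ P.B := by rw [hM]; trivial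
      obtain ⟨z, hz, b, hb, rfl⟩ := (Subgroup.mem_sup_of_normal_left).mp this
      refine ⟨⟨b, hb⟩, ?_⟩
      show QuotientGroup.mk' Z b = QuotientGroup.mk' Z (z * b)
      rw [map_mul, (QuotientGroup.eq_one_iff z).mpr hz |> fun h => (show QuotientGroup.mk' Z z = 1 from h), one_mul]
    haveI : Group.IsSolvable P.B := hsolv
    haveI hQ : Group.IsSolvable (G ⧸ Z) := Group.isSolvable_of_surjective hsurj
    by_contra hne
    haveI : Nontrivial (G ⧸ Z) := by
      refine QuotientGroup.nontrivial_iff.mpr ?_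
      exact hne
    have hlt := Group.IsSolvable.commutator_lt_top_of_nontrivial (G ⧸ Z)
    have : commutator (G ⧸ Z) = ⊤ := by
      rw [commutator_def, ← Subgroup.map_top_of_surjective _ (QuotientGroup.mk'_surjective Z),
        ← Subgroup.map_commutator, ← commutator_def, hperf]
    exact hlt.ne this
  · exfalso
    obtain ⟨x, hx, y, hy, hxy⟩ := hirr J hJ hJne hJcne
    apply hxy
    have hc := commute_of_normal P Z hJ hM (s := ⟨x, hJ hx⟩) (t := ⟨y, hy.1⟩) hx hy.2
    have : proj P (sN P ⟨x, hJ hx⟩ * sN P ⟨y, hy.1⟩ * (sN P ⟨x, hJ hx⟩)⁻¹ * (sN P ⟨y, hy.1⟩)⁻¹) = 1 := by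
      simp only [map_mul, map_inv]
      show σ P _ * σ P _ * (σ P _)⁻¹ * (σ P _)⁻¹ = 1
      rw [← hc]; group
    simpa using (proj_eq_one P).mp this

end CfsgLib.BNPair.Simple
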