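import Mathlib

/-!
Groups generated by involutions satisfying the exchange condition are Coxeter groups.
-/

set_option autoImplicit false

namespace CfsgLib.BNPair.Exchange

variable {ι W : Type*} [Group W]

/-- `σ` is a generating family of involutions. -/
structure IsInvGen (σ : ι → W) : Prop where
  mul_self : ∀ i, σ i * σ i = 1
  gen : ∀ w : W, ∃ l : List ι, (l.map σ).prod = w

/-- The word length. -/
noncomputable def len {σ : ι → W} (hσ : IsInvGen σ) (w : W) : ℕ :=
  sInf {k | ∃ l : List ι, l.length = k ∧ (l.map σ).prod = w}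

/-- A word is reduced. -/
def Reduced {σ : ι → W} (hσ : IsInvGen σ) (l : List ι) : Prop :=
  len hσ (l.map σ).prod = l.length

variable {σ : ι → W} (hσ : IsInvGen σ)
include hσ

theorem inv_eq (i : ι) : (σ i)⁻¹ = σ i := inv_eq_of_mul_eq_one_left (hσ.mul_self i)

theorem mul_mul (i : ι) (w : W) : σ i * (σ i * w) = w := by
  rw [← mul_assoc, hσ.mul_self, one_mul]

theorem prod_reverse (l : List ι) : (l.reverse.map σ).prod = ((l.map σ).prod)⁻¹ := by
  induction l with
  | nil => simp
  | cons a l ih =>
    rw [List.reverse_cons, List.map_append, List.prod_append, ih]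
    simp [inv_eq hσ a]

theorem len_le (l : List ι) : len hσ (l.map σ).prod ≤ l.length :=
  Nat.sInf_le ⟨l, rfl, rfl⟩

theorem exists_reduced (w : W) : ∃ l : List ι, Reduced hσ l ∧ (l.map σ).prod = w := by
  have hne : {k | ∃ l : List ι, l.length = k ∧ (l.map σ).prod = w}.Nonempty := by
    obtain ⟨l, hl⟩ := hσ.gen w
    exact ⟨l.length, l, rfl, hl⟩
  obtain ⟨l, hl, he⟩ := Nat.sInf_mem hne
  refine ⟨l, ?_, he⟩
  show len hσ _ = _
  rw [he, hl]; rfl

theorem len_one : len hσ 1 = 0 := by
  have := len_le hσ []
  simpa using this

theorem len_eq_zero {w : W} (h : len hσ w = 0) : w = 1 := by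
  obtain ⟨l, hl, he⟩ := exists_reduced hσ w
  have : l.length = 0 := by rw [← hl, he, h]
  rw [List.length_eq_zero_iff] at this
  subst this; simpa using he.symm

theorem len_inv (w : W) : len hσ w⁻¹ = len hσ w := by
  have key : ∀ v : W, len hσ v⁻¹ ≤ len hσ v := by
    intro v
    obtain ⟨l, hl, he⟩ := exists_reduced hσ v
    have h1 := len_le hσ l.reverse
    rw [prod_reverse hσ, he, List.length_reverse, ← hl, he] at h1
    exact h1
  refine le_antisymm (key w) ?_
  simpa using key w⁻¹

theorem len_mul_le (v w : W) : len hσ (v * w) ≤ len hσ v + len hσ w := by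
  obtain ⟨l, hl, he⟩ := exists_reduced hσ v
  obtain ⟨l', hl', he'⟩ := exists_reduced hσ w
  have h := len_le hσ (l ++ l')
  rw [List.map_append, List.prod_append, he, he', List.length_append, ← hl, ← hl', he, he'] at h
  exact h

theorem len_gen_le (i : ι) : len hσ (σ i) ≤ 1 := by simpa using len_le hσ [i]

theorem len_gen_mul_le (i : ι) (w : W) : len hσ (σ i * w) ≤ len hσ w + 1 := by
  have := len_mul_le hσ (σ i) w; have := len_gen_le hσ i; omega

theorem len_le_gen_mul (i : ι) (w : W) : len hσ w ≤ len hσ (σ i * w) + 1 := by
  have := len_gen_mul_le hσ i (σ i * w); rwa [mul_mul hσ] at this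

theorem reduced_append {l l' : List ι} (h : Reduced hσ (l ++ l')) :
    Reduced hσ l ∧ Reduced hσ l' := by
  have h1 := len_le hσ l
  have h2 := len_le hσ l'
  have h3 := len_mul_le hσ (l.map σ).prod (l'.map σ).prod
  unfold Reduced at h ⊢
  rw [List.map_append, List.prod_append, List.length_append] at h
  omega

theorem reduced_tail {i : ι} {l : List ι} (h : Reduced hσ (i :: l)) : Reduced hσ l :=
  (reduced_append hσ (l := [i]) (l' := l) h).2

theorem reduced_take {l : List ι} (h : Reduced hσ l) (k : ℕ) : Reduced hσ (l.take k) := by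
  rw [← List.take_append_drop k l] at h
  exact (reduced_append hσ h).1

omit hσ in
theorem prod_eraseIdx_of_exchange (i : ι) (l : List ι) (j : ℕ)
    (h : σ i * ((l.take j).map σ).prod = ((l.take (j + 1)).map σ).prod) :
    (l.map σ).prod = σ i * ((l.eraseIdx j).map σ).prod := by
  rw [List.eraseIdx_eq_take_drop_succ, List.map_append, List.prod_append, ← mul_assoc, h,
    ← List.prod_append, ← List.map_append, List.take_append_drop]

/-- The exchange condition. -/
def HasExchange : Prop :=
  ∀ (i : ι) (l : List ι), Reduced hσ l → len hσ (σ i * (l.map σ).prod) ≤ l.length →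
    ∃ j, j < l.length ∧ σ i * ((l.take j).map σ).prod = ((l.take (j + 1)).map σ).prod

variable (hx : HasExchange hσ)
include hx

theorem len_lt_of_le {i : ι} {w : W} (h : len hσ (σ i * w) ≤ len hσ w) :
    len hσ (σ i * w) + 1 = len hσ w := by
  obtain ⟨l, hl, he⟩ := exists_reduced hσ w
  have hl' : len hσ w = l.length := by rw [← he]; exact hl
  obtain ⟨j, hj, hje⟩ := hx i l hl (by rw [he]; omega)
  have h1 := prod_eraseIdx_of_exchange i l j hje
  rw [he] at h1
  have h2 := len_le hσ (l.eraseIdx j)
  rw [h1, mul_mul hσ] at h ⊢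
  rw [List.length_eraseIdx_of_lt hj] at h2
  have h3 := len_gen_mul_le hσ i ((l.eraseIdx j).map σ).prod
  rw [← h1] at h3 h ⊢
  omega

theorem exists_reduced_sublist (l : List ι) :
    ∃ l' : List ι, l'.Sublist l ∧ Reduced hσ l' ∧ (l'.map σ).prod = (l.map σ).prod := by
  induction l with
  | nil => exact ⟨[], List.Sublist.refl _, by simp [Reduced, len_one hσ], rfl⟩
  | cons a l ih =>
    obtain ⟨l', hs, hr, he⟩ := ih
    by_cases hc : len hσ (σ a * (l'.map σ).prod) ≤ l'.length
    · obtain ⟨j, hj, hje⟩ := hx a l' hr hc
      have h1 : (l'.eraseIdx j |>.map σ).prod = σ a * (l'.map σ).prod := by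
        rw [prod_eraseIdx_of_exchange a l' j hje, mul_mul hσ]
      refine ⟨l'.eraseIdx j, ((List.eraseIdx_sublist _ _).trans hs).cons a, ?_, ?_⟩
      · have h2 := len_le hσ (l'.eraseIdx j)
        rw [List.length_eraseIdx_of_lt hj] at h2
        have h3 := len_le_gen_mul hσ a (l'.map σ).prod
        unfold Reduced at hr ⊢
        rw [h1, List.length_eraseIdx_of_lt hj] at *
        omega
      · rw [h1, he, List.map_cons, List.prod_cons]
    · refine ⟨a :: l', hs.cons_cons a, ?_, by simp [he]⟩
      have h3 := len_gen_mul_le hσ a (l'.map σ).prod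
      unfold Reduced at hr ⊢
      rw [List.map_cons, List.prod_cons, List.length_cons]
      omega

omit hx in
omit hσ in
/-- The alternating word of length `k` starting with `s`. -/
theorem prod_alt_ratio {C : Type*} [Group C] (f : ι → C) (hf : ∀ i, f i * f i = 1)
    (alt : ι → ι → ℕ → List ι) (h0 : ∀ s t, alt s t 0 = [])
    (hsucc : ∀ s t k, alt s t (k + 1) = s :: alt t s k) (s t : ι) (k : ℕ) :
    ((alt s t k).map f).prod * (((alt t s k).map f).prod)⁻¹ = (f s * f t) ^ k := by
  induction k generalizing s t with
  | zero => simp [h0]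
  | succ k ih =>
    have hinv : (f t)⁻¹ = f t := inv_eq_of_mul_eq_one_left (hf t)
    have h := ih t s
    rw [hsucc, hsucc, List.map_cons, List.prod_cons, List.map_cons, List.prod_cons, mul_inv_rev,
      hinv]
    calc f s * ((alt t s k).map f).prod * ((((alt s t k).map f).prod)⁻¹ * f t)
        = f s * (((alt t s k).map f).prod * (((alt s t k).map f).prod)⁻¹) * f t := by group
      _ = f s * (f t * f s) ^ k * f t := by rw [h]
      _ = (f s * f t) ^ (k + 1) := by
        have hc : f s * (f t * f s) ^ k = (f s * f t) ^ k * f s := (mul_pow_mul (f s) (f t) k).symm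
        rw [hc, pow_succ, mul_assoc]

omit hσ hx in
/-- The alternating word. -/
theorem exists_alt : ∃ alt : ι → ι → ℕ → List ι,
    (∀ s t, alt s t 0 = []) ∧ (∀ s t k, alt s t (k + 1) = s :: alt t s k) :=
  ⟨fun s t k => Nat.rec (motive := fun _ => ι → ι → List ι) (fun _ _ => [])
      (fun _ ih a b => a :: ih b a) k s t, fun _ _ => rfl, fun _ _ _ => rfl⟩

/-- Matsumoto: a map on the generators respecting the orders of products of two of them takes
equal values on reduced words of the same element. -/
theorem matsumoto {C : Type*} [Group C] (f : ι → C) (hf : ∀ i, f i * f i = 1)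
    (hbraid : ∀ s t, ∀ k : ℕ, (σ s * σ t) ^ k = 1 → (f s * f t) ^ k = 1)
    (w w' : List ι) (hw : Reduced hσ w) (hw' : Reduced hσ w')
    (he : (w.map σ).prod = (w'.map σ).prod) : (w.map f).prod = (w'.map f).prod := by
  obtain ⟨alt, h0, hsucc⟩ := exists_alt (ι := ι)
  suffices H : ∀ q, ∀ w w' : List ι, w.length = q → Reduced hσ w → Reduced hσ w' →
      (w.map σ).prod = (w'.map σ).prod → (w.map f).prod = (w'.map f).prod from
    H _ w w' rfl hw hw' he
  intro q
  induction q using Nat.strong_induction_on with
  | _ q IH =>
  intro w w' hq hw hw' he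
  have hq' : w'.length = q := by rw [← hq, ← hw, ← hw', he]
  -- same first letter
  have same_head : ∀ (a : ι) (u u' : List ι), (a :: u).length = q → Reduced hσ (a :: u) →
      Reduced hσ (a :: u') → ((a :: u).map σ).prod = ((a :: u').map σ).prod →
      ((a :: u).map f).prod = ((a :: u').map f).prod := by
    intro a u u' hl h h' e
    simp only [List.map_cons, List.prod_cons] at e ⊢
    rw [IH u.length (by simp at hl; omega) u u' rfl (reduced_tail hσ h) (reduced_tail hσ h')
      (mul_left_cancel e)]
  -- same last part
  have same_last : ∀ (a : ι) (u u' : List ι), (u ++ [a]).length = q → Reduced hσ (u ++ [a]) →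
      Reduced hσ (u' ++ [a]) → ((u ++ [a]).map σ).prod = ((u' ++ [a]).map σ).prod →
      ((u ++ [a]).map f).prod = ((u' ++ [a]).map f).prod := by
    intro a u u' hl h h' e
    simp only [List.map_append, List.prod_append] at e ⊢
    rw [IH u.length (by simp at hl; omega) u u' rfl (reduced_append hσ h).1
      (reduced_append hσ h').1 (mul_right_cancel e)]
  -- one exchange step
  have step : ∀ (t : ι) (v v' : List ι), v.length = q → (t :: v').length = q →
      Reduced hσ v → Reduced hσ (t :: v') → ((t :: v').map σ).prod = (v.map σ).prod →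
      (v.map f).prod = ((t :: v').map f).prod ∨
      (Reduced hσ (t :: v.take (q - 1)) ∧
        ((t :: v.take (q - 1)).map σ).prod = (v.map σ).prod ∧
        ((t :: v').map f).prod = ((t :: v.take (q - 1)).map f).prod) := by
    intro t v v' hv hv' hr hr' e
    have hle : len hσ (σ t * (v.map σ).prod) ≤ v.length := by
      rw [← e, List.map_cons, List.prod_cons, mul_mul hσ, reduced_tail hσ hr']
      simp at hv'; omega
    obtain ⟨j, hj, hje⟩ := hx t v hr hle
    have h1 := prod_eraseIdx_of_exchange t v j hje
    have hlen : (t :: v.eraseIdx j).length = q := by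
      rw [List.length_cons, List.length_eraseIdx_of_lt hj]; omega
    have hr'' : Reduced hσ (t :: v.eraseIdx j) := by
      show len hσ _ = _
      rw [List.map_cons, List.prod_cons, ← h1, hr, hlen, hv]
    have e'' : ((t :: v').map σ).prod = ((t :: v.eraseIdx j).map σ).prod := by
      rw [e, h1, List.map_cons, List.prod_cons]
    have k1 := same_head t v' (v.eraseIdx j) hv' hr' hr'' e''
    rcases Nat.lt_or_ge (j + 1) q with hjq | hjq
    · left
      rw [k1]
      have hne : v ≠ [] := by intro h; subst h; simp at hj
      obtain ⟨u, a, rfl⟩ : ∃ u a, v = u ++ [a] :=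
        ⟨_, _, (List.dropLast_append_getLast hne).symm⟩
      have hju : j < u.length := by simp at hv; omega
      rw [List.eraseIdx_append_of_lt_length hju] at hr'' e'' h1 ⊢
      have := same_last a u (t :: u.eraseIdx j) hv hr hr''
        (by rw [h1]; simp [List.cons_append])
      exact this
    · right
      have hjeq : v.eraseIdx j = v.take (q - 1) := by
        rw [List.eraseIdx_eq_take_drop_succ, List.drop_eq_nil_of_le (by omega), List.append_nil]
        congr 1; omega
      rw [hjeq] at hr'' e'' k1
      exact ⟨hr'', by rw [← e'', e], k1⟩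
  -- induction on the length of the alternating prefix
  have main : ∀ (d i : ℕ), i + d = q → ∀ (s t : ι) (v v' : List ι), v.length = q →
      (t :: v').length = q → Reduced hσ v → Reduced hσ (t :: v') →
      ((t :: v').map σ).prod = (v.map σ).prod → v.take i = alt s t i →
      (v.map f).prod = ((t :: v').map f).prod := by
    intro d
    induction d with
    | zero =>
      intro i hi s t v v' hv hv' hr hr' e halt
      rcases step t v v' hv hv' hr hr' e with h | ⟨_, e2, h3⟩
      · exact h
      have hvalt : v = alt s t q := by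
        rw [show i = q by omega, List.take_of_length_le (by omega)] at halt
        exact halt
      have htk : t :: v.take (q - 1) = alt t s q := by
        obtain ⟨p, rfl⟩ : ∃ p, q = p + 1 := ⟨q - 1, by simp at hv'; omega⟩
        rw [hsucc]
        congr 1
        have : ∀ p a b, (alt a b (p + 1)).take p = alt a b p := by
          intro p
          induction p with
          | zero => intro a b; simp [h0]
          | succ p ihp =>
            intro a b
            rw [hsucc, List.take_succ_cons, ihp, ← hsucc]
        rw [hvalt, Nat.add_sub_cancel, this]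
      rw [h3, htk]
      rw [htk] at e2
      conv_lhs => rw [hvalt]
      have hW := prod_alt_ratio σ hσ.mul_self alt h0 hsucc s t q
      rw [e2, ← hvalt, mul_inv_cancel] at hW
      have hC := prod_alt_ratio f hf alt h0 hsucc s t q
      rw [hbraid s t q hW.symm] at hC
      exact mul_inv_eq_one.mp hC
    | succ d ihd =>
      intro i hi s t v v' hv hv' hr hr' e halt
      rcases step t v v' hv hv' hr hr' e with h | ⟨hr2, e2, h3⟩
      · exact h
      rw [h3]
      cases v with
      | nil => simp at hv; omega
      | cons v0 vt =>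
        have halt2 : (t :: (v0 :: vt).take (q - 1)).take (i + 1) = alt t s (i + 1) := by
          rw [hsucc, List.take_succ_cons, List.take_take, Nat.min_eq_left (by omega), halt]
        rcases Nat.eq_zero_or_pos i with rfl | hipos
        · have halt3 : (t :: (v0 :: vt).take (q - 1)).take 1 = alt t v0 1 := by
            rw [hsucc, h0]; simp
          exact (ihd 1 (by omega) t v0 (t :: (v0 :: vt).take (q - 1)) vt
            (by simp at hv ⊢; omega) hv hr2 hr e2.symm halt3).symm
        · obtain ⟨p, rfl⟩ : ∃ p, i = p + 1 := ⟨i - 1, by omega⟩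
          rw [hsucc, List.take_succ_cons, List.cons.injEq] at halt
          obtain ⟨rfl, _⟩ := halt
          exact (ihd (p + 2) (by omega) t v0 (t :: (v0 :: vt).take (q - 1)) vt
            (by simp at hv ⊢; omega) hv hr2 hr e2.symm halt2).symm
  cases hc : w' with
  | nil =>
    subst hc
    have : w = [] := List.length_eq_zero_iff.mp (by simp at hq'; omega)
    subst this; rfl
  | cons t v' =>
    subst hc
    exact main q 0 (by omega) t t w v' hq hq' hw hw' he.symm (by simp [h0])

/-- The matrix of orders of products of two generators. -/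
noncomputable def coxMat (hinj : Function.Injective σ) : CoxeterMatrix ι where
  M := Matrix.of fun s t => orderOf (σ s * σ t)
  isSymm := by
    apply Matrix.ext
    intro s t
    show orderOf (σ t * σ s) = orderOf (σ s * σ t)
    rw [← orderOf_inv (σ t * σ s), mul_inv_rev, inv_eq hσ, inv_eq hσ]
  diagonal s := by show orderOf (σ s * σ s) = 1; rw [hσ.mul_self, orderOf_one]
  off_diagonal s t hst := by
    show orderOf (σ s * σ t) ≠ 1
    rw [Ne, orderOf_eq_one_iff, mul_eq_one_iff_eq_inv, inv_eq hσ]
    exact fun h => hst (hinj h)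

/-- An exchange system with distinct generators is a Coxeter system. -/
theorem exists_coxeterSystem (hinj : Function.Injective σ) :
    ∃ (M : CoxeterMatrix ι) (cs : CoxeterSystem M W),
      (∀ s, cs.simple s = σ s) ∧ ∀ s t, M s t = orderOf (σ s * σ t) := by
  let M := coxMat hσ hinj
  let c₀ := M.toCoxeterSystem
  have hlift : M.IsLiftable σ := fun s t => pow_orderOf_eq_one _
  let φ : M.Group →* W := c₀.lift ⟨σ, hlift⟩
  have hφ : ∀ s, φ (c₀.simple s) = σ s := fun s => c₀.lift_apply_simple hlift s
  have hprod : ∀ l : List ι, φ ((l.map c₀.simple).prod) = (l.map σ).prod := by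
    intro l
    induction l with
    | nil => simp
    | cons a l ih => simp [hφ, ih]
  have hbraid : ∀ s t, ∀ k : ℕ, (σ s * σ t) ^ k = 1 → (c₀.simple s * c₀.simple t) ^ k = 1 := by
    intro s t k hk
    obtain ⟨m, rfl⟩ := orderOf_dvd_of_pow_eq_one hk
    rw [pow_mul, show orderOf (σ s * σ t) = M s t from rfl, c₀.simple_mul_simple_pow, one_pow]
  have hred : ∀ c : M.Group, ∃ l : List ι, Reduced hσ l ∧ (l.map c₀.simple).prod = c := by
    intro c
    obtain ⟨l, rfl⟩ := c₀.wordProd_surjective c
    induction l with
    | nil => exact ⟨[], by simp [Reduced, len_one hσ], by simp [CoxeterSystem.wordProd]⟩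
    | cons a l ih =>
      obtain ⟨l', hr, he⟩ := ih
      rw [CoxeterSystem.wordProd_cons, ← he]
      by_cases hc : len hσ (σ a * (l'.map σ).prod) ≤ l'.length
      · have h1 := len_lt_of_le hσ hx (i := a) (w := (l'.map σ).prod) (by rw [hr]; exact hc)
        obtain ⟨u, hu, hue⟩ := exists_reduced hσ (σ a * (l'.map σ).prod)
        refine ⟨u, hu, ?_⟩
        have hu' : ((a :: u).map σ).prod = (l'.map σ).prod := by
          simp [hue, mul_mul hσ]
        have hau : Reduced hσ (a :: u) := by
          show len hσ _ = _
          rw [hu', hr, List.length_cons, ← hu, hue]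
          rw [hr] at h1; omega
        have := matsumoto hσ hx c₀.simple c₀.simple_mul_simple_self hbraid l' (a :: u) hr hau hu'.symm
        rw [this]
        simp
      · refine ⟨a :: l', ?_, by simp⟩
        have h3 := len_gen_mul_le hσ a (l'.map σ).prod
        unfold Reduced at hr ⊢
        rw [List.map_cons, List.prod_cons, List.length_cons]
        omega
  have hφinj : Function.Injective φ := by
    rw [injective_iff_map_eq_one]
    intro c hc
    obtain ⟨l, hl, rfl⟩ := hred c
    rw [hprod] at hc
    have : l.length = 0 := by rw [← hl, hc, len_one hσ]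
    rw [List.length_eq_zero_iff] at this
    simp [this]
  have hφsurj : Function.Surjective φ := by
    intro w
    obtain ⟨l, hl⟩ := hσ.gen w
    exact ⟨_, (hprod l).trans hl⟩
  let e : M.Group ≃* W := MulEquiv.ofBijective φ ⟨hφinj, hφsurj⟩
  refine ⟨M, ⟨e.symm⟩, fun s => ?_, fun s t => rfl⟩
  exact hφ s

end CfsgLib.BNPair.Exchange
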