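import Cfsg.Agent.Lib.BNPair.Basic

/-!
Overgroups of `B` in a group with a (B,N)-pair.
-/

set_option autoImplicit false

namespace CfsgLib.BNPair.Parabolic

open CfsgLib.BNPair.Exchange CfsgLib.BNPair.Basic

variable {G : Type*} [Group G] (P : Cfsg.BNPair G)

/-- `⟨B, n B n⁻¹⟩`. -/
def conjB (n : G) : Subgroup G := P.B ⊔ P.B.map (MulAut.conj n).toMonoidHom

theorem conjB_le_iff {n : G} {M : Subgroup G} :
    conjB P n ≤ M ↔ P.B ≤ M ∧ ∀ b ∈ P.B, n * b * n⁻¹ ∈ M := by
  rw [conjB, sup_le_iff, Subgroup.map_le_iff_le_comap]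
  rfl

/-- Letters of a reduced word of `n` lie in every overgroup of `B` containing `n B n⁻¹`. -/
theorem letters_mem {M : Subgroup G} (hB : P.B ≤ M) :
    ∀ (l : List P.S) (n : P.N), Reduced (isInvGen P) l → (l.map (σ P)).prod = proj P n →
      (∀ b ∈ P.B, (n : G) * b * (n : G)⁻¹ ∈ M) → (∀ s ∈ l, (s : G) ∈ M) ∧ (n : G) ∈ M := by
  intro l
  induction l with
  | nil =>
    intro n _ he _
    refine ⟨by simp, hB ((proj_eq_one P).mp ?_)⟩
    simpa using he.symm
  | cons s l ih =>
    intro n hr he hM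
    simp only [List.map_cons, List.prod_cons] at he
    have hl := reduced_tail (isInvGen P) hr
    have hle : ℓ P (σ P s * proj P n) ≤ ℓ P (proj P n) := by
      rw [← he, mul_mul (isInvGen P)]
      show len _ _ ≤ len _ _
      rw [hl]
      have := hr
      unfold Reduced at this
      simp only [List.map_cons, List.prod_cons, List.length_cons] at this
      omega
    obtain ⟨g, hg, hsg⟩ := exists_gen_mul_mem P hle
    rw [cell_proj, DoubleCoset.mem_doubleCoset] at hg hsg
    obtain ⟨a, ha, b, hb, rfl⟩ := hg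
    obtain ⟨c, hc, d, hd, hcd⟩ := hsg
    have hsM : (s : G) ∈ M := by
      have : (s : G) = c * ((n : G) * (d * b⁻¹) * (n : G)⁻¹) * a⁻¹ := by
        rw [eq_mul_inv_iff_mul_eq]
        calc (s : G) * a = (s * (a * n * b)) * b⁻¹ * (n : G)⁻¹ := by group
          _ = _ := by rw [hcd]; group
      rw [this]
      exact mul_mem (mul_mem (hB hc) (hM _ (P.B.mul_mem hd (P.B.inv_mem hb)))) (inv_mem (hB ha))
    have he' : (l.map (σ P)).prod = proj P ((sN P s)⁻¹ * n) := by
      rw [map_mul, map_inv, show proj P (sN P s) = σ P s from rfl, ← he, inv_mul_cancel_left]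
    obtain ⟨h1, h2⟩ := ih _ hl he' (fun x hx => by
      rw [Subgroup.coe_mul, InvMemClass.coe_inv,
        show (s : G)⁻¹ * (n : G) * x * ((s : G)⁻¹ * (n : G))⁻¹ =
          (s : G)⁻¹ * ((n : G) * x * (n : G)⁻¹) * s by group]
      exact mul_mem (mul_mem (inv_mem hsM) (hM x hx)) hsM)
    refine ⟨?_, ?_⟩
    · intro t ht
      rcases List.mem_cons.mp ht with rfl | ht
      · exact hsM
      · exact h1 t ht
    · have := mul_mem hsM h2
      rwa [Subgroup.coe_mul, InvMemClass.coe_inv, mul_inv_cancel_left] at this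

theorem mem_conjB (n : P.N) : (n : G) ∈ conjB P n := by
  obtain ⟨l, hl, he⟩ := exists_reduced (isInvGen P) (proj P n)
  exact (letters_mem P le_sup_left l n hl he ((conjB_le_iff P).mp le_rfl).2).2

theorem sup_closure_eq (n : P.N) : P.B ⊔ Subgroup.closure {(n : G)} = conjB P n := by
  refine le_antisymm (sup_le le_sup_left ((Subgroup.closure_le _).mpr ?_)) ?_
  · simpa using mem_conjB P n
  · rw [conjB_le_iff]
    refine ⟨le_sup_left, fun b hb => ?_⟩
    have hn : (n : G) ∈ P.B ⊔ Subgroup.closure {(n : G)} :=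
      Subgroup.mem_sup_right (Subgroup.subset_closure rfl)
    exact mul_mem (mul_mem hn (Subgroup.mem_sup_left hb)) (inv_mem hn)

theorem parabolic_mono {J K : Set G} (h : J ⊆ K) : P.parabolic J ≤ P.parabolic K :=
  sup_le_sup le_rfl (Subgroup.closure_mono h)

/-- Every overgroup of `B` is parabolic. -/
theorem eq_parabolic {M : Subgroup G} (hM : P.B ≤ M) : M = P.parabolic (P.S ∩ M) := by
  refine le_antisymm ?_ (sup_le hM ((Subgroup.closure_le _).mpr fun x hx => hx.2))
  intro g hg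
  obtain ⟨w, hw⟩ := exists_mem_cell P g
  obtain ⟨n, rfl⟩ := QuotientGroup.mk'_surjective (T P) w
  obtain ⟨l, hl, he⟩ := exists_reduced (isInvGen P) (proj P n)
  rw [cell_proj, DoubleCoset.mem_doubleCoset] at hw
  obtain ⟨a, ha, b, hb, rfl⟩ := hw
  have hn : (n : G) ∈ M := by
    have : a⁻¹ * (a * (n : G) * b) * b⁻¹ = n := by group
    rw [← this]
    exact mul_mem (mul_mem (inv_mem (hM ha)) hg) (inv_mem (hM hb))
  have hlet := (letters_mem P hM l n hl he
    (fun x hx => mul_mem (mul_mem hn (hM hx)) (inv_mem hn))).1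
  rw [parabolic_eq P Set.inter_subset_left]
  refine ⟨proj P n, ?_, mul_cell P (cell_mul P (mem_cell_proj P n) hb) ha |> fun h => by
    rwa [mul_assoc]⟩
  rw [← he]
  refine list_prod_mem ?_
  intro x hx
  obtain ⟨s, hs, rfl⟩ := List.mem_map.mp hx
  exact Subgroup.subset_closure ⟨s, ⟨s.2, hlet s hs⟩, rfl⟩

/-- The support of a reduced word of an element of `W_J` can be chosen in `J`. -/
theorem exists_reduced_WJ {J : Set G} {w : W P} (hw : w ∈ WJ P J) :
    ∃ l : List P.S, Reduced (isInvGen P) l ∧ (l.map (σ P)).prod = w ∧ ∀ s ∈ l, (s : G) ∈ J := by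
  have : ∃ l : List P.S, (l.map (σ P)).prod = w ∧ ∀ s ∈ l, (s : G) ∈ J := by
    unfold WJ at hw
    induction hw using Subgroup.closure_induction_left with
    | one => exact ⟨[], rfl, by simp⟩
    | mul_left x hx y hy ih =>
      obtain ⟨s, hs, rfl⟩ := hx
      obtain ⟨l, rfl, hl⟩ := ih
      exact ⟨s :: l, rfl, List.forall_mem_cons.mpr ⟨hs, hl⟩⟩
    | inv_mul_cancel x hx y hy ih =>
      obtain ⟨s, hs, rfl⟩ := hx
      obtain ⟨l, rfl, hl⟩ := ih
      exact ⟨s :: l, by rw [inv_eq_of_mul_eq_one_left (σ_mul_self P s)]; rfl,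
        List.forall_mem_cons.mpr ⟨hs, hl⟩⟩
  obtain ⟨l, rfl, hl⟩ := this
  obtain ⟨l', hs, hr, he⟩ := exists_reduced_sublist (isInvGen P) (hasExchange P) l
  exact ⟨l', hr, he, fun s hs' => hl s (hs.subset hs')⟩

theorem mem_of_σ_mem_WJ {J : Set G} {s : P.S} (h : σ P s ∈ WJ P J) : (s : G) ∈ J := by
  obtain ⟨l, hl, he, hJ⟩ := exists_reduced_WJ P h
  have h1 : l.length ≤ 1 := by
    unfold Reduced at hl; rw [← hl, he]; exact len_gen_le (isInvGen P) s
  match l, he, hJ, h1 with
  | [], he, _, _ => exact absurd (by simpa using he.symm) (σ_ne_one P s)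
  | [t], he, hJ, _ =>
    have : t = s := σ_inj P (by simpa using he)
    exact this ▸ hJ t (by simp)
  | _ :: _ :: _, _, _, h1 => simp at h1

theorem inter_parabolic {J : Set G} (hJ : J ⊆ P.S) : P.S ∩ (P.parabolic J : Set G) = J := by
  refine Set.Subset.antisymm ?_ fun x hx => ⟨hJ hx, Subgroup.mem_sup_right (Subgroup.subset_closure hx)⟩
  rintro x ⟨hxS, hx⟩
  obtain ⟨w, hw, hc⟩ := (parabolic_eq P hJ x).mp hx
  have := cell_inj P hc (mem_cell_proj P (sN P ⟨x, hxS⟩))
  subst this
  exact mem_of_σ_mem_WJ P (s := ⟨x, hxS⟩) hw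

theorem parabolic_injective {J K : Set G} (hJ : J ⊆ P.S) (hK : K ⊆ P.S)
    (h : P.parabolic J = P.parabolic K) : J = K := by
  rw [← inter_parabolic P hJ, h, inter_parabolic P hK]

theorem parabolic_inf {J K : Set G} (hJ : J ⊆ P.S) (hK : K ⊆ P.S) :
    P.parabolic J ⊓ P.parabolic K = P.parabolic (J ∩ K) := by
  rw [eq_parabolic P (M := P.parabolic J ⊓ P.parabolic K) (le_inf le_sup_left le_sup_left)]
  congr 1
  rw [Subgroup.coe_inf, ← Set.inter_self P.S, Set.inter_inter_inter_comm,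
    inter_parabolic P hJ, inter_parabolic P hK]

/-- An element conjugating `B` into an overgroup of `B` lies in it. -/
theorem mem_of_conj_le {M : Subgroup G} (hM : P.B ≤ M) {g : G}
    (h : ∀ b ∈ P.B, g * b * g⁻¹ ∈ M) : g ∈ M := by
  obtain ⟨w, hw⟩ := exists_mem_cell P g
  obtain ⟨n, rfl⟩ := QuotientGroup.mk'_surjective (T P) w
  rw [cell_proj, DoubleCoset.mem_doubleCoset] at hw
  obtain ⟨a, ha, b, hb, rfl⟩ := hw
  have hn : ∀ x ∈ P.B, (n : G) * x * (n : G)⁻¹ ∈ M := by
    intro x hx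
    have h1 := h (b⁻¹ * x * b) (P.B.mul_mem (P.B.mul_mem (P.B.inv_mem hb) hx) hb)
    rw [show a * (n : G) * b * (b⁻¹ * x * b) * (a * (n : G) * b)⁻¹ =
      a * ((n : G) * x * (n : G)⁻¹) * a⁻¹ by group] at h1
    have := mul_mem (mul_mem (inv_mem (hM ha)) h1) (hM ha)
    simpa [mul_assoc] using this
  obtain ⟨l, hl, he⟩ := exists_reduced (isInvGen P) (proj P n)
  exact mul_mem (mul_mem (hM ha) (letters_mem P hM l n hl he hn).2) (hM hb)

theorem normalizer_eq {M : Subgroup G} (hM : P.B ≤ M) : Subgroup.normalizer (M : Set G) = M := by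
  refine le_antisymm (fun g hg => ?_) Subgroup.le_normalizer
  exact mem_of_conj_le P hM fun b hb => (Subgroup.mem_normalizer_iff.mp hg b).mp (hM hb)

theorem eq_of_map_conj {J K : Set G} (g : G)
    (h : (P.parabolic J).map (MulAut.conj g).toMonoidHom = P.parabolic K) :
    P.parabolic J = P.parabolic K := by
  have hg : g ∈ P.parabolic K := mem_of_conj_le P (M := P.parabolic K) le_sup_left fun b hb => by
    rw [← h]; exact ⟨b, Subgroup.mem_sup_left hb, rfl⟩
  ext x
  constructor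
  · intro hx
    have : g * x * g⁻¹ ∈ P.parabolic K := by rw [← h]; exact ⟨x, hx, rfl⟩
    have := mul_mem (mul_mem (inv_mem hg) this) hg
    simpa [mul_assoc] using this
  · intro hx
    have hx' : g * x * g⁻¹ ∈ P.parabolic K := mul_mem (mul_mem hg hx) (inv_mem hg)
    rw [← h] at hx'
    obtain ⟨y, hy, hye⟩ := hx'
    have : y = x := (MulAut.conj g).injective hye
    exact this ▸ hy

end CfsgLib.BNPair.Parabolic
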