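import Cfsg.Prelude.Def_LieExceptional
import Cfsg.Agent.Lib.BNPair.Exchange

/-!
Theory of (B,N)-pairs: Bruhat decomposition, parabolic subgroups, exchange condition.
-/

set_option autoImplicit false

namespace CfsgLib.BNPair.Basic

open CfsgLib.BNPair.Exchange

variable {G : Type*} [Group G] (P : Cfsg.BNPair G)

/-- `B ⊓ N` as a subgroup of `N`. -/
abbrev T : Subgroup P.N := (P.B ⊓ P.N).subgroupOf P.N

theorem mem_T {x : P.N} : x ∈ T P ↔ (x : G) ∈ P.B := by
  simp [T, Subgroup.mem_subgroupOf]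

instance normal_T : (T P).Normal :=
  ⟨fun t ht n => by
    rw [mem_T] at ht ⊢
    exact P.conj_mem n n.2 t ⟨ht, t.2⟩⟩

/-- The Weyl group of the pair. -/
abbrev W : Type _ := P.N ⧸ T P

/-- The projection to the Weyl group. -/
abbrev proj : P.N →* W P := QuotientGroup.mk' (T P)

/-- A distinguished generator as an element of `N`. -/
abbrev sN (s : P.S) : P.N := ⟨(s : G), P.subset s.2⟩

/-- The distinguished involutions of the Weyl group. -/
def σ (s : P.S) : W P := proj P (sN P s)

theorem proj_eq_iff {n n' : P.N} : proj P n = proj P n' ↔ (n : G)⁻¹ * (n' : G) ∈ P.B := by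
  rw [QuotientGroup.mk'_apply, QuotientGroup.mk'_apply, QuotientGroup.eq, mem_T]
  simp

theorem proj_eq_one {n : P.N} : proj P n = 1 ↔ (n : G) ∈ P.B := by
  rw [QuotientGroup.mk'_apply, QuotientGroup.eq_one_iff, mem_T]

theorem σ_inj : Function.Injective (σ P) := by
  intro s t h
  exact Subtype.ext (P.inj _ s.2 _ t.2 ((proj_eq_iff P).mp h))

theorem σ_mul_self (s : P.S) : σ P s * σ P s = 1 := by
  rw [σ, ← map_mul, proj_eq_one]
  exact P.sq_mem _ s.2

theorem notMem_B_of_mem_S {s : G} (hs : s ∈ P.S) : s ∉ P.B := by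
  intro h
  apply P.conj_ne s hs
  ext x
  constructor
  · rintro ⟨b, hb, rfl⟩
    exact P.B.mul_mem (P.B.mul_mem h hb) h
  · intro hx
    exact ⟨s⁻¹ * x * s⁻¹, P.B.mul_mem (P.B.mul_mem (P.B.inv_mem h) hx) (P.B.inv_mem h), by group⟩

theorem σ_ne_one (s : P.S) : σ P s ≠ 1 := fun h =>
  notMem_B_of_mem_S P s.2 ((proj_eq_one P).mp h)

/-- `B n B`. -/
def cell (w : W P) : Set G := DoubleCoset.doubleCoset (w.out : G) (P.B : Set G) P.B

theorem mem_cell {w : W P} {g : G} :
    g ∈ cell P w ↔ ∃ a ∈ P.B, ∃ b ∈ P.B, g = a * (w.out : G) * b := DoubleCoset.mem_doubleCoset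

theorem cell_proj (n : P.N) :
    cell P (proj P n) = DoubleCoset.doubleCoset (n : G) (P.B : Set G) P.B := by
  symm
  apply DoubleCoset.doubleCoset_eq_of_mem
  rw [DoubleCoset.mem_doubleCoset]
  have h : ((proj P n).out : G)⁻¹ * (n : G) ∈ P.B :=
    (proj_eq_iff P).mp (by rw [QuotientGroup.mk'_apply, QuotientGroup.out_eq'])
  exact ⟨1, P.B.one_mem, _, h, by group⟩

theorem mem_cell_proj (n : P.N) : (n : G) ∈ cell P (proj P n) := by
  rw [cell_proj]; exact DoubleCoset.mem_doubleCoset_self _ _ _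

theorem mul_cell {w : W P} {g : G} (hg : g ∈ cell P w) {b : G} (hb : b ∈ P.B) :
    b * g ∈ cell P w := by
  rw [mem_cell] at hg ⊢
  obtain ⟨a, ha, c, hc, rfl⟩ := hg
  exact ⟨b * a, P.B.mul_mem hb ha, c, hc, by group⟩

theorem cell_mul {w : W P} {g : G} (hg : g ∈ cell P w) {b : G} (hb : b ∈ P.B) :
    g * b ∈ cell P w := by
  rw [mem_cell] at hg ⊢
  obtain ⟨a, ha, c, hc, rfl⟩ := hg
  exact ⟨a, ha, c * b, P.B.mul_mem hc hb, by group⟩

theorem cell_eq_of_mem {g : G} {v w : W P} (h : g ∈ cell P v) (h' : g ∈ cell P w) :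
    cell P v = cell P w := by
  unfold cell at *
  rw [← DoubleCoset.doubleCoset_eq_of_mem h, ← DoubleCoset.doubleCoset_eq_of_mem h']

theorem inv_mem_cell {w : W P} {g : G} (hg : g ∈ cell P w) : g⁻¹ ∈ cell P w⁻¹ := by
  obtain ⟨n, rfl⟩ := QuotientGroup.mk'_surjective (T P) w
  rw [← map_inv, cell_proj, DoubleCoset.mem_doubleCoset]
  rw [cell_proj, DoubleCoset.mem_doubleCoset] at hg
  obtain ⟨a, ha, b, hb, rfl⟩ := hg
  exact ⟨b⁻¹, P.B.inv_mem hb, a⁻¹, P.B.inv_mem ha, by simp [mul_assoc]⟩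

theorem mem_cell_one {g : G} : g ∈ cell P 1 ↔ g ∈ P.B := by
  rw [← map_one (proj P), cell_proj, DoubleCoset.mem_doubleCoset]
  constructor
  · rintro ⟨a, ha, b, hb, rfl⟩
    simpa using P.B.mul_mem ha hb
  · intro h; exact ⟨g, h, 1, P.B.one_mem, by simp⟩

/-- The axiom, for a product with a cell. -/
theorem gen_mul_cell (s : P.S) {w : W P} {g : G} (hg : g ∈ cell P w) :
    (s : G) * g ∈ cell P (σ P s * w) ∪ cell P w := by
  obtain ⟨n, rfl⟩ := QuotientGroup.mk'_surjective (T P) w
  rw [cell_proj, DoubleCoset.mem_doubleCoset] at hg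
  obtain ⟨a, ha, b, hb, rfl⟩ := hg
  have h := P.mul_mem_union s s.2 n n.2 a ha
  rw [σ, ← map_mul]
  rcases h with h | h
  · left
    rw [show (s : G) * (a * n * b) = (s * a * n) * b by group]
    refine cell_mul P ?_ hb
    rw [cell_proj]
    exact h
  · right
    rw [show (s : G) * (a * n * b) = (s * a * n) * b by group]
    refine cell_mul P ?_ hb
    rw [cell_proj]
    exact h

theorem gen_inv_mul_cell (s : P.S) {w : W P} {g : G} (hg : g ∈ cell P w) :
    (s : G)⁻¹ * g ∈ cell P (σ P s * w) ∪ cell P w := by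
  have hb : ((s : G) * s)⁻¹ ∈ P.B := P.B.inv_mem (P.sq_mem _ s.2)
  rw [show (s : G)⁻¹ * g = ((s : G) * s)⁻¹ * ((s : G) * g) by group]
  rcases gen_mul_cell P s hg with h | h
  · exact .inl (mul_cell P h hb)
  · exact .inr (mul_cell P h hb)

/-- The part of the Weyl group generated by `J`. -/
def WJ (J : Set G) : Subgroup (W P) := Subgroup.closure (σ P '' {s | (s : G) ∈ J})

theorem closure_le_N {J : Set G} (hJ : J ⊆ P.S) : Subgroup.closure J ≤ P.N :=
  (Subgroup.closure_le _).mpr (hJ.trans P.subset)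

theorem mem_WJ_iff {J : Set G} (hJ : J ⊆ P.S) {w : W P} :
    w ∈ WJ P J ↔ ∃ n : P.N, (n : G) ∈ Subgroup.closure J ∧ proj P n = w := by
  have h : WJ P J = ((Subgroup.closure J).subgroupOf P.N).map (proj P) := by
    refine le_antisymm ((Subgroup.closure_le _).mpr ?_) ?_
    · rintro _ ⟨s, hs, rfl⟩
      exact ⟨sN P s, Subgroup.subset_closure hs, rfl⟩
    · have hc : (Subgroup.closure J).subgroupOf P.N =
          Subgroup.closure (P.N.subtype ⁻¹' J) := by
        refine le_antisymm ?_ ((Subgroup.closure_le _).mpr fun x hx => Subgroup.subset_closure hx)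
        intro x hx
        have : (x : G) ∈ (Subgroup.closure (P.N.subtype ⁻¹' J)).map P.N.subtype := by
          rw [MonoidHom.map_closure, Set.image_preimage_eq_of_subset]
          · exact hx
          · intro y hy; exact ⟨⟨y, P.subset (hJ hy)⟩, rfl⟩
        obtain ⟨y, hy, hye⟩ := this
        rwa [← Subtype.ext hye]
      rw [hc, MonoidHom.map_closure, Subgroup.closure_le]
      rintro _ ⟨x, hx, rfl⟩
      exact Subgroup.subset_closure ⟨⟨(x : G), hJ hx⟩, hx, rfl⟩
  rw [h]
  exact Subgroup.mem_map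

theorem WJ_S : WJ P P.S = ⊤ := by
  rw [eq_top_iff]
  intro w _
  obtain ⟨n, rfl⟩ := QuotientGroup.mk'_surjective (T P) w
  have hn : (n : G) ∈ Subgroup.closure P.S ⊔ (P.B ⊓ P.N) := by rw [P.closure_sup]; exact n.2
  suffices H : ∀ g (hg : g ∈ Subgroup.closure P.S ⊔ (P.B ⊓ P.N)), ∀ hgN : g ∈ P.N,
      proj P ⟨g, hgN⟩ ∈ WJ P P.S from H _ hn n.2
  intro g hg
  rw [Subgroup.sup_eq_closure] at hg
  induction hg using Subgroup.closure_induction with
  | mem x hx =>
    intro hgN
    rcases hx with hx | hx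
    · exact (mem_WJ_iff P subset_rfl).mpr ⟨⟨x, hgN⟩, hx, rfl⟩
    · rw [(proj_eq_one P).mpr hx.1]; exact one_mem _
  | one =>
    intro hgN
    rw [(proj_eq_one P).mpr P.B.one_mem]; exact one_mem _
  | mul x y hx hy ihx ihy =>
    intro hgN
    have key : ∀ z, z ∈ Subgroup.closure ((Subgroup.closure P.S : Set G) ∪ (P.B ⊓ P.N : Subgroup G)) →
        z ∈ P.N := by
      intro z hz; rw [← Subgroup.sup_eq_closure, P.closure_sup] at hz; exact hz
    exact show proj P (⟨x, key x hx⟩ * ⟨y, key y hy⟩) ∈ _ by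
      rw [map_mul]; exact mul_mem (ihx _) (ihy _)
  | inv x hx ih =>
    intro hgN
    have hxN : x ∈ P.N := by simpa using P.N.inv_mem hgN
    exact show proj P (⟨x, hxN⟩⁻¹) ∈ _ by rw [map_inv]; exact inv_mem (ih _)

theorem isInvGen : IsInvGen (σ P) := by
  refine ⟨σ_mul_self P, fun w => ?_⟩
  have hw : w ∈ WJ P P.S := by rw [WJ_S]; trivial
  unfold WJ at hw
  induction hw using Subgroup.closure_induction_left with
  | one => exact ⟨[], rfl⟩
  | mul_left x hx y hy ih =>
    obtain ⟨s, hs, rfl⟩ := hx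
    obtain ⟨l, rfl⟩ := ih
    exact ⟨s :: l, rfl⟩
  | inv_mul_cancel x hx y hy ih =>
    obtain ⟨s, hs, rfl⟩ := hx
    obtain ⟨l, rfl⟩ := ih
    refine ⟨s :: l, ?_⟩
    rw [inv_eq_of_mul_eq_one_left (σ_mul_self P s)]
    rfl

/-- The length on the Weyl group. -/
noncomputable abbrev ℓ (w : W P) : ℕ := len (isInvGen P) w

theorem parabolic_eq {J : Set G} (hJ : J ⊆ P.S) (g : G) :
    g ∈ P.parabolic J ↔ ∃ w ∈ WJ P J, g ∈ cell P w := by
  constructor
  · intro hg
    rw [Cfsg.BNPair.parabolic, ← Subgroup.closure_eq P.B, ← Subgroup.closure_union] at hg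
    induction hg using Subgroup.closure_induction_left with
    | one => exact ⟨1, one_mem _, (mem_cell_one P).mpr P.B.one_mem⟩
    | mul_left x hx y hy ih =>
      obtain ⟨w, hw, hyw⟩ := ih
      rcases hx with hx | hx
      · exact ⟨w, hw, mul_cell P hyw hx⟩
      · rcases gen_mul_cell P ⟨x, hJ hx⟩ hyw with h | h
        · exact ⟨_, mul_mem (Subgroup.subset_closure ⟨⟨x, hJ hx⟩, hx, rfl⟩) hw, h⟩
        · exact ⟨w, hw, h⟩
    | inv_mul_cancel x hx y hy ih =>
      obtain ⟨w, hw, hyw⟩ := ih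
      rcases hx with hx | hx
      · exact ⟨w, hw, mul_cell P hyw (P.B.inv_mem hx)⟩
      · rcases gen_inv_mul_cell P ⟨x, hJ hx⟩ hyw with h | h
        · exact ⟨_, mul_mem (Subgroup.subset_closure ⟨⟨x, hJ hx⟩, hx, rfl⟩) hw, h⟩
        · exact ⟨w, hw, h⟩
  · rintro ⟨w, hw, hg⟩
    obtain ⟨n, hn, rfl⟩ := (mem_WJ_iff P hJ).mp hw
    rw [cell_proj, DoubleCoset.mem_doubleCoset] at hg
    obtain ⟨a, ha, b, hb, rfl⟩ := hg
    exact mul_mem (mul_mem (Subgroup.mem_sup_left ha) (Subgroup.mem_sup_right hn))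
      (Subgroup.mem_sup_left hb)

theorem parabolic_S : P.parabolic P.S = ⊤ := by
  have h : P.B ⊔ P.N ≤ P.parabolic P.S := by
    refine sup_le le_sup_left ?_
    rw [← P.closure_sup]
    exact sup_le le_sup_right (inf_le_left.trans le_sup_left)
  rw [P.sup_eq_top] at h
  exact top_le_iff.mp h

/-- Bruhat decomposition. -/
theorem exists_mem_cell (g : G) : ∃ w : W P, g ∈ cell P w := by
  obtain ⟨w, _, h⟩ := (parabolic_eq P subset_rfl g).mp (by rw [parabolic_S]; trivial)
  exact ⟨w, h⟩

theorem cell_inj_aux : ∀ q, ∀ v w : W P, ℓ P v = q → ℓ P v ≤ ℓ P w →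
    cell P v = cell P w → v = w := by
  intro q
  induction q using Nat.strong_induction_on with
  | _ q IH =>
  intro v w hq hle he
  obtain ⟨l, hl, hlv⟩ := exists_reduced (isInvGen P) v
  have hlen : l.length = q := by rw [← hq, ← hlv]; exact hl.symm
  cases l with
  | nil =>
    simp only [List.map_nil, List.prod_nil] at hlv
    subst hlv
    obtain ⟨n, rfl⟩ := QuotientGroup.mk'_surjective (T P) w
    have h1 : (n : G) ∈ cell P 1 := he ▸ mem_cell_proj P n
    exact ((proj_eq_one P).mpr ((mem_cell_one P).mp h1)).symm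
  | cons s t =>
    simp only [List.length_cons] at hlen
    have hm : ℓ P (σ P s * v) = t.length := by
      rw [← hlv, List.map_cons, List.prod_cons, mul_mul (isInvGen P)]
      exact reduced_tail (isInvGen P) hl
    obtain ⟨m, hmv⟩ := QuotientGroup.mk'_surjective (T P) (σ P s * v)
    have hsm : (s : G) * m ∈ cell P v := by
      have h := mem_cell_proj P (sN P s * m)
      rw [map_mul, hmv, show proj P (sN P s) = σ P s from rfl, mul_mul (isInvGen P)] at h
      exact h
    rw [he] at hsm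
    have h2 := gen_inv_mul_cell P s hsm
    rw [inv_mul_cancel_left] at h2
    have hmc : (m : G) ∈ cell P (σ P s * v) := hmv ▸ mem_cell_proj P m
    have hwlow := len_le_gen_mul (isInvGen P) s w
    rcases h2 with h | h
    · have he2 := cell_eq_of_mem P hmc h
      rcases le_total (ℓ P (σ P s * v)) (ℓ P (σ P s * w)) with hc | hc
      · exact mul_left_cancel (IH _ (by omega) _ _ rfl hc he2)
      · exact mul_left_cancel (IH _ (by omega) _ _ rfl hc he2.symm).symm
    · have := IH _ (by omega) _ _ rfl (by omega) (cell_eq_of_mem P hmc h)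
      rw [← this] at hle
      omega

/-- Uniqueness in the Bruhat decomposition. -/
theorem cell_inj {g : G} {v w : W P} (hv : g ∈ cell P v) (hw : g ∈ cell P w) : v = w := by
  rcases le_total (ℓ P v) (ℓ P w) with h | h
  · exact cell_inj_aux P _ v w rfl h (cell_eq_of_mem P hv hw)
  · exact (cell_inj_aux P _ w v rfl h (cell_eq_of_mem P hw hv)).symm

/-- If `ℓ w ≤ ℓ (w s)` then `w B s ⊆ B w s B`. -/
theorem cell_mul_gen_of_le : ∀ (q : ℕ) (w : W P) (s : P.S), ℓ P w = q → q ≤ ℓ P (w * σ P s) →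
    ∀ g ∈ cell P w, g * (s : G) ∈ cell P (w * σ P s) := by
  intro q
  induction q using Nat.strong_induction_on with
  | _ q IH =>
  intro w s hq hle g hg
  obtain ⟨l, hl, hlw⟩ := exists_reduced (isInvGen P) w
  have hlen : l.length = q := by rw [← hq, ← hlw]; exact hl.symm
  cases l with
  | nil =>
    simp only [List.map_nil, List.prod_nil] at hlw
    subst hlw
    rw [one_mul]
    exact mul_cell P (mem_cell_proj P (sN P s)) ((mem_cell_one P).mp hg)
  | cons s' t =>
    simp only [List.map_cons, List.prod_cons] at hlw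
    simp only [List.length_cons] at hlen
    set m := (t.map (σ P)).prod with hm
    have hmq : ℓ P m = t.length := reduced_tail (isInvGen P) hl
    subst hlw
    have hms : t.length ≤ ℓ P (m * σ P s) := by
      by_contra hcon
      have := len_gen_mul_le (isInvGen P) s' (m * σ P s)
      rw [mul_assoc] at hle
      show False
      have : ℓ P (σ P s' * (m * σ P s)) ≤ ℓ P (m * σ P s) + 1 := this
      omega
    obtain ⟨n, hn⟩ := QuotientGroup.mk'_surjective (T P) m
    have hsn : proj P (sN P s' * n) = σ P s' * m := by rw [map_mul, hn]; rfl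
    have hg' := hg
    rw [← hsn, cell_proj, DoubleCoset.mem_doubleCoset] at hg'
    obtain ⟨a, ha, b, hb, rfl⟩ := hg'
    have h1 : (n : G) * b * s ∈ cell P (m * σ P s) :=
      IH _ (by omega) m s hmq hms _ (cell_mul P (hn ▸ mem_cell_proj P n) hb)
    have h2 := gen_mul_cell P s' h1
    have h3 : a * ((sN P s' * n : P.N) : G) * b * s ∈
        cell P (σ P s' * m * σ P s) ∪ cell P (m * σ P s) := by
      rw [Subgroup.coe_mul, show a * ((s' : G) * (n : G)) * b * s = a * ((s' : G) * ((n : G) * b * s)) by group,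
        mul_assoc (σ P s')]
      rcases h2 with h | h
      · exact .inl (mul_cell P h ha)
      · exact .inr (mul_cell P h ha)
    -- the inverse axiom
    have h4 := gen_inv_mul_cell P s (inv_mem_cell P hg)
    have h5 : a * ((sN P s' * n : P.N) : G) * b * s ∈
        cell P (σ P s' * m * σ P s) ∪ cell P (σ P s' * m) := by
      rw [← mul_inv_rev] at h4
      rcases h4 with h | h
      · left
        have := inv_mem_cell P h
        rwa [inv_inv, mul_inv_rev, inv_inv, inv_eq_of_mul_eq_one_left (σ_mul_self P s)] at this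
      · right
        have := inv_mem_cell P h
        rwa [inv_inv, inv_inv] at this
    rcases h3 with h | h
    · exact h
    rcases h5 with h' | h'
    · exact h'
    exfalso
    have he := cell_inj P h h'
    have e2 : σ P s' * m * σ P s = m := by rw [← he, mul_assoc, σ_mul_self, mul_one]
    rw [e2, hmq] at hle
    omega

/-- If `ℓ w ≤ ℓ (s w)` then `s B w ⊆ B s w B`. -/
theorem gen_mul_cell_of_le {w : W P} {s : P.S} (hle : ℓ P w ≤ ℓ P (σ P s * w)) {g : G}
    (hg : g ∈ cell P w) : (s : G) * g ∈ cell P (σ P s * w) := by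
  have hs : ((s : G) * s) ∈ P.B := P.sq_mem _ s.2
  have hinv : (σ P s)⁻¹ = σ P s := inv_eq_of_mul_eq_one_left (σ_mul_self P s)
  have h := inv_mem_cell P (cell_mul_gen_of_le P _ w⁻¹ s rfl
    (by have e : (σ P s * w)⁻¹ = w⁻¹ * σ P s := by rw [mul_inv_rev, hinv]
        simp only [ℓ] at hle ⊢
        rw [← e, len_inv (isInvGen P), len_inv (isInvGen P)]; exact hle) _ (inv_mem_cell P hg))
  rw [mul_inv_rev, inv_inv, mul_inv_rev, inv_inv, hinv] at h
  rw [show (s : G) * g = ((s : G) * s) * ((s : G)⁻¹ * g) by group]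
  exact mul_cell P h hs

theorem exists_conj_gen (s : P.S) : ∃ b ∈ P.B, (s : G) * b * s ∈ cell P (σ P s) := by
  by_contra hcon
  push Not at hcon
  have hall : ∀ b ∈ P.B, (s : G) * b * s ∈ P.B := by
    intro b hb
    have h := gen_mul_cell P s (mul_cell P (mem_cell_proj P (sN P s)) hb)
    rw [show proj P (sN P s) = σ P s from rfl, σ_mul_self] at h
    rcases h with h | h
    · rw [mul_assoc]; exact (mem_cell_one P).mp h
    · exact absurd (by rw [mul_assoc]; exact h) (hcon b hb)
  apply P.conj_ne s s.2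
  ext x
  constructor
  · rintro ⟨b, hb, rfl⟩; exact hall b hb
  · intro hx
    refine ⟨(s : G)⁻¹ * x * (s : G)⁻¹, ?_, by group⟩
    have hs : ((s : G) * s)⁻¹ ∈ P.B := P.B.inv_mem (P.sq_mem _ s.2)
    rw [show (s : G)⁻¹ * x * (s : G)⁻¹ = ((s : G) * s)⁻¹ * (s * x * s) * ((s : G) * s)⁻¹ by group]
    exact P.B.mul_mem (P.B.mul_mem hs (hall x hx)) hs

/-- If `ℓ (s w) ≤ ℓ w` then `s B w` meets `B w B`. -/
theorem exists_gen_mul_mem {w : W P} {s : P.S} (hle : ℓ P (σ P s * w) ≤ ℓ P w) :
    ∃ g ∈ cell P w, (s : G) * g ∈ cell P w := by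
  obtain ⟨b, hb, hc⟩ := exists_conj_gen P s
  obtain ⟨n, hn⟩ := QuotientGroup.mk'_surjective (T P) (σ P s * w)
  refine ⟨b * ((sN P s * n : P.N) : G), mul_cell P ?_ hb, ?_⟩
  · have := mem_cell_proj P (sN P s * n)
    rw [map_mul, hn, show proj P (sN P s) = σ P s from rfl, mul_mul (isInvGen P)] at this
    exact this
  · rw [mem_cell] at hc
    obtain ⟨a, ha, c, hc', heq⟩ := hc
    have hout : ((σ P s).out : G)⁻¹ * (s : G) ∈ P.B :=
      (proj_eq_iff (n := (σ P s).out) (n' := sN P s) P).mp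
        (by rw [QuotientGroup.mk'_apply, QuotientGroup.out_eq']; rfl)
    set c' := (((σ P s).out : G)⁻¹ * (s : G))⁻¹ * c with hc''
    have hcn : c' * (n : G) ∈ cell P (σ P s * w) :=
      mul_cell P (hn ▸ mem_cell_proj P n) (P.B.mul_mem (P.B.inv_mem hout) hc')
    have h := gen_mul_cell_of_le P (s := s) (w := σ P s * w)
      (by rw [mul_mul (isInvGen P)]; exact hle) hcn
    rw [mul_mul (isInvGen P)] at h
    have : (s : G) * (b * ((sN P s * n : P.N) : G)) = a * ((s : G) * (c' * (n : G))) := by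
      rw [Subgroup.coe_mul, show (s : G) * (b * ((s : G) * (n : G))) = s * b * s * n by group, heq, hc'']
      group
    rw [this]
    exact mul_cell P h ha

theorem len_gen_mul_ne (s : P.S) (w : W P) : ℓ P (σ P s * w) ≠ ℓ P w := by
  intro h
  obtain ⟨g, hg, hsg⟩ := exists_gen_mul_mem P (s := s) (w := w) h.le
  have := cell_inj P hsg (gen_mul_cell_of_le P h.ge hg)
  exact σ_ne_one P s (right_eq_mul.mp this)

theorem mul_gen_cases {v : W P} {g : G} (hg : g ∈ cell P v) (s : P.S) :
    g * (s : G) ∈ cell P (v * σ P s) ∪ cell P v := by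
  have hinv : (σ P s)⁻¹ = σ P s := inv_eq_of_mul_eq_one_left (σ_mul_self P s)
  have h := gen_inv_mul_cell P s (inv_mem_cell P hg)
  rw [← mul_inv_rev] at h
  rcases h with h | h
  · left
    have := inv_mem_cell P h
    rwa [inv_inv, mul_inv_rev, inv_inv, hinv] at this
  · right
    have := inv_mem_cell P h
    rwa [inv_inv, inv_inv] at this

theorem hasExchange : HasExchange (isInvGen P) := by
  intro s l hl hle
  have hex : ∃ j, j < l.length ∧ ℓ P (σ P s * ((l.take (j + 1)).map (σ P)).prod) ≤ j + 1 := by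
    have hpos : 0 < l.length := by
      by_contra h0
      have : l = [] := List.length_eq_zero_iff.mp (by omega)
      subst this
      simp only [List.map_nil, List.prod_nil, mul_one, List.length_nil, Nat.le_zero] at hle
      exact σ_ne_one P s (len_eq_zero (isInvGen P) hle)
    refine ⟨l.length - 1, by omega, ?_⟩
    rw [show l.length - 1 + 1 = l.length by omega, List.take_length]
    exact hle
  classical
  let j := Nat.find hex
  obtain ⟨hj, hjle⟩ : j < l.length ∧ ℓ P (σ P s * ((l.take (j + 1)).map (σ P)).prod) ≤ j + 1 :=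
    Nat.find_spec hex
  refine ⟨j, hj, ?_⟩
  set w := ((l.take j).map (σ P)).prod with hw
  have hwlen : ℓ P w = j := by
    rw [hw]; refine (reduced_take (isInvGen P) hl j).trans ?_; rw [List.length_take]; omega
  have hstep : ((l.take (j + 1)).map (σ P)).prod = w * σ P l[j] := by
    rw [List.take_succ_eq_append_getElem hj, List.map_append, List.prod_append, ← hw]; simp
  have hwt : ℓ P (w * σ P l[j]) = j + 1 := by
    rw [← hstep]; refine (reduced_take (isInvGen P) hl (j + 1)).trans ?_; rw [List.length_take]; omega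
  rw [hstep] at hjle ⊢
  have hlow : ℓ P w < ℓ P (σ P s * w) := by
    rcases Nat.eq_zero_or_pos j with h0 | hpos
    · have hw1 : w = 1 := len_eq_zero (isInvGen P) (hwlen.trans h0)
      rw [hw1, mul_one]
      show len _ 1 < _
      rw [len_one, Nat.pos_iff_ne_zero]
      exact fun h => σ_ne_one P s (len_eq_zero (isInvGen P) h)
    · have hmin : ¬ (j - 1 < l.length ∧
          ℓ P (σ P s * ((l.take (j - 1 + 1)).map (σ P)).prod) ≤ j - 1 + 1) :=
        Nat.find_min hex (show j - 1 < j by omega)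
      rw [show j - 1 + 1 = j by omega, ← hw] at hmin
      push Not at hmin
      rw [hwlen]; exact hmin (by omega)
  obtain ⟨g, hg, hsg⟩ := exists_gen_mul_mem P (s := s) (w := w * σ P l[j]) (by omega)
  -- write g = a w b l[j] c
  obtain ⟨nw, hnw⟩ := QuotientGroup.mk'_surjective (T P) w
  have hprojwt : proj P (nw * sN P l[j]) = w * σ P l[j] := by rw [map_mul, hnw]; rfl
  rw [← hprojwt, cell_proj, DoubleCoset.mem_doubleCoset] at hg
  obtain ⟨a, ha, c, hc, rfl⟩ := hg
  have h1 : (s : G) * (a * nw) ∈ cell P (σ P s * w) :=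
    gen_mul_cell_of_le P hlow.le (mul_cell P (hnw ▸ mem_cell_proj P nw) ha)
  have hsg' : (s : G) * (a * nw) * (l[j] : G) * c ∈ cell P (w * σ P l[j]) := by
    rw [show (s : G) * (a * nw) * (l[j] : G) * c =
      s * (a * ((nw * sN P l[j] : P.N) : G) * c) by rw [Subgroup.coe_mul]; group]
    exact hsg
  rcases mul_gen_cases P h1 l[j] with h | h
  · have := cell_inj P (cell_mul P h hc) hsg'
    exact absurd this (fun e => σ_ne_one P s (by
      rw [mul_assoc] at e; exact mul_eq_right.mp e))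
  · exact cell_inj P (cell_mul P h hc) hsg'

end CfsgLib.BNPair.Basic
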