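import Cfsg.Agent.Lib.BNPair.Exchange

/-!
Two involutions generating a finite group: normal forms, lengths, radial functions and weights.
-/

set_option autoImplicit false

namespace CfsgLib.BNPair.Dihedral

open CfsgLib.BNPair.Exchange

variable {ι W : Type*} [Group W] [Finite W] {σ : ι → W} (hσ : IsInvGen σ) (s t : ι)

/-- The rotation. -/
def rot (σ : ι → W) (s t : ι) : W := σ s * σ t

/-- Non-degeneracy of the pair of generators. -/
structure Pair (σ : ι → W) (s t : ι) : Prop where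
  all : ∀ i, i = s ∨ i = t
  ne : σ s ≠ σ t
  s_ne : σ s ≠ 1
  t_ne : σ t ≠ 1
  inv : IsInvGen σ

variable {s t}

local notation "r" => rot σ s t

variable (hP : Pair σ s t)
include hP

omit [Finite W] in
theorem t_eq : σ t = r⁻¹ * σ s := by
  rw [rot, mul_inv_rev, mul_assoc, inv_mul_cancel, mul_one, inv_eq hP.inv t]

omit [Finite W] in
theorem s_mul_pow (j : ℤ) : σ s * r ^ j = r ^ (-j) * σ s := by
  have h : SemiconjBy (σ s) r r⁻¹ := by
    show σ s * r = r⁻¹ * σ s
    rw [← t_eq hP, rot, mul_mul hP.inv]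
  have := h.zpow_right j
  rw [inv_zpow'] at this
  exact this

omit [Finite W] in
theorem s_mul_pow_s (j : ℤ) : σ s * (r ^ j * σ s) = r ^ (-j) := by
  rw [← mul_assoc, s_mul_pow hP, mul_assoc, hP.inv.mul_self, mul_one]

omit [Finite W] in
theorem pow_mul_s (j : ℤ) : r ^ j * σ s = σ s * r ^ (-j) := by
  rw [s_mul_pow hP, neg_neg]

omit [Finite W] in
theorem t_mul_pow (j : ℤ) : σ t * r ^ j = r ^ (-1 - j) * σ s := by
  rw [t_eq hP, mul_assoc, s_mul_pow hP, ← mul_assoc, ← zpow_neg_one, ← zpow_add]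
  rfl

omit [Finite W] in
theorem t_mul_pow_s (j : ℤ) : σ t * (r ^ j * σ s) = r ^ (-1 - j) := by
  rw [← mul_assoc, t_mul_pow hP, mul_assoc, hP.inv.mul_self, mul_one]

omit [Finite W] in
theorem s_not_pow (k : ℤ) : σ s ≠ r ^ k := by
  intro hk
  have h1 : r⁻¹ = r := by
    have h2 : σ s * r = r⁻¹ * σ s := by rw [← t_eq hP, rot, mul_mul hP.inv]
    rw [hk, ((Commute.refl r).zpow_left k).eq] at h2
    exact (mul_right_cancel h2).symm
  have h3 : r * r = 1 := by nth_rewrite 1 [← h1]; exact inv_mul_cancel _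
  rcases Int.even_or_odd' k with ⟨i, rfl | rfl⟩
  · rw [zpow_mul, zpow_two, h3, one_zpow] at hk
    exact hP.s_ne hk
  · rw [zpow_add, zpow_mul, zpow_two, h3, one_zpow, one_mul, zpow_one, rot, left_eq_mul] at hk
    exact hP.t_ne hk

omit [Finite W] in
theorem pow_s_ne (i j : ℤ) : r ^ i ≠ r ^ j * σ s := by
  intro h
  exact s_not_pow hP (-j + i) (by rw [zpow_add, h, zpow_neg, inv_mul_cancel_left])

theorem two_le_order : 2 ≤ orderOf r := by
  have h1 : 0 < orderOf r := orderOf_pos _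
  have h2 : orderOf r ≠ 1 := by
    rw [Ne, orderOf_eq_one_iff, rot]
    intro h
    exact hP.ne ((eq_inv_of_mul_eq_one_left h).trans (inv_eq hP.inv t))
  omega

omit [Finite W] in
theorem rep_list (l : List ι) : ∃ j : ℤ, ((l.map σ).prod = r ^ j ∧ 2 * j.natAbs ≤ l.length) ∨
    ((l.map σ).prod = r ^ j * σ s ∧ (2 * j + 1).natAbs ≤ l.length) := by
  induction l with
  | nil => exact ⟨0, .inl ⟨by simp, by simp⟩⟩
  | cons i l ih =>
    obtain ⟨j, hj⟩ := ih
    rw [List.map_cons, List.prod_cons, List.length_cons]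
    rcases hP.all i with rfl | rfl <;> rcases hj with ⟨e, hl⟩ | ⟨e, hl⟩ <;> rw [e]
    · exact ⟨-j, .inr ⟨s_mul_pow hP j, by omega⟩⟩
    · exact ⟨-j, .inl ⟨s_mul_pow_s hP j, by omega⟩⟩
    · exact ⟨-1 - j, .inr ⟨t_mul_pow hP j, by omega⟩⟩
    · exact ⟨-1 - j, .inl ⟨t_mul_pow_s hP j, by omega⟩⟩

omit [Finite W] hP in
theorem dvd_small {M : ℕ} {d : ℤ} (h : (M : ℤ) ∣ d) : d = 0 ∨ M ≤ d.natAbs := by
  by_cases hd : d = 0
  · exact .inl hd
  · exact .inr (Nat.le_of_dvd (Int.natAbs_pos.mpr hd) (Int.natCast_dvd.mp h))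

omit [Finite W] hP in
theorem pow_eq_iff {i j : ℤ} : r ^ i = r ^ j ↔ (orderOf r : ℤ) ∣ i - j :=
  (orderOf_dvd_sub_iff_zpow_eq_zpow).symm

theorem exists_rep (w : W) :
    ∃ j : ℤ, 2 * j.natAbs ≤ orderOf r ∧ (w = r ^ j ∨ w = r ^ j * σ s) := by
  have hm := two_le_order hP
  obtain ⟨l, rfl⟩ := hP.inv.gen w
  obtain ⟨j, hj⟩ := rep_list hP l
  have he : r ^ (j.bmod (orderOf r)) = r ^ j := by
    rw [pow_eq_iff]
    exact Int.dvd_bmod_sub_self
  refine ⟨j.bmod (orderOf r), ?_, ?_⟩
  · have h1 := Int.le_bmod (x := j) (m := orderOf r) (by omega)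
    have h2 := Int.bmod_lt (x := j) (m := orderOf r) (by omega)
    omega
  · rw [he]
    exact hj.imp And.left And.left

theorem len_pow {j : ℤ} (hj : 2 * j.natAbs ≤ orderOf r) : len hP.inv (r ^ j) = 2 * j.natAbs := by
  have h2 : len hP.inv r ≤ 2 := by
    have := len_le hP.inv [s, t]
    simpa [rot] using this
  have hn : ∀ n : ℕ, len hP.inv (r ^ n) ≤ 2 * n := by
    intro n
    induction n with
    | zero => simp [len_one]
    | succ n ih =>
      rw [pow_succ]
      exact (len_mul_le hP.inv _ _).trans (by omega)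
  apply le_antisymm
  · obtain ⟨n, rfl | rfl⟩ := j.eq_nat_or_neg
    · rw [zpow_natCast]; simpa using hn n
    · rw [zpow_neg, zpow_natCast, len_inv hP.inv]; simpa using hn n
  · obtain ⟨l, hl, he⟩ := exists_reduced hP.inv (r ^ j)
    have hlen : len hP.inv (r ^ j) = l.length := by rw [← he]; exact hl
    obtain ⟨i, ⟨e, hi⟩ | ⟨e, hi⟩⟩ := rep_list hP l
    · have hd := dvd_small ((pow_eq_iff).mp (he.symm.trans e))
      omega
    · exact absurd (he.symm.trans e) (pow_s_ne hP j i)

theorem len_pow_s {j : ℤ} (hj : (2 * j + 1).natAbs ≤ orderOf r) :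
    len hP.inv (r ^ j * σ s) = (2 * j + 1).natAbs := by
  have hm := two_le_order hP
  apply le_antisymm
  · by_cases h : 0 ≤ j
    · have h1 := len_mul_le hP.inv (r ^ j) (σ s)
      have h2 := len_gen_le hP.inv s
      have h3 := len_pow hP (j := j) (by omega)
      omega
    · have e : r ^ j * σ s = r ^ (j + 1) * σ t := by
        rw [t_eq hP, zpow_add_one, mul_assoc, mul_inv_cancel_left]
      have h1 := len_mul_le hP.inv (r ^ (j + 1)) (σ t)
      have h2 := len_gen_le hP.inv t
      have h3 := len_pow hP (j := j + 1) (by omega)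
      rw [e]
      omega
  · obtain ⟨l, hl, he⟩ := exists_reduced hP.inv (r ^ j * σ s)
    have hlen : len hP.inv (r ^ j * σ s) = l.length := by rw [← he]; exact hl
    obtain ⟨i, ⟨e, hi⟩ | ⟨e, hi⟩⟩ := rep_list hP l
    · exact absurd (e.symm.trans he) (pow_s_ne hP i j)
    · have hd := dvd_small ((pow_eq_iff).mp (mul_right_cancel (he.symm.trans e)))
      omega

/-- The normal form as a bijection. -/
noncomputable def formEquiv : Fin (orderOf r) × Bool ≃ W :=
  Equiv.ofBijective (fun p => cond p.2 (r ^ (p.1 : ℕ) * σ s) (r ^ (p.1 : ℕ))) (by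
    refine ⟨?_, fun w => ?_⟩
    · rintro ⟨i, a⟩ ⟨j, b⟩ h
      cases a <;> cases b <;> simp only [cond_true, cond_false] at h
      · rw [Prod.mk.injEq]
        exact ⟨Fin.ext (pow_injOn_Iio_orderOf i.2 j.2 h), rfl⟩
      · rw [← zpow_natCast, ← zpow_natCast] at h
        exact absurd h (pow_s_ne hP _ _)
      · rw [← zpow_natCast, ← zpow_natCast] at h
        exact absurd h.symm (pow_s_ne hP _ _)
      · rw [Prod.mk.injEq]
        exact ⟨Fin.ext (pow_injOn_Iio_orderOf i.2 j.2 (mul_right_cancel h)), rfl⟩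
    · obtain ⟨j, _, hj⟩ := exists_rep hP w
      have hm : (orderOf r : ℤ) ≠ 0 := by have := two_le_order hP; omega
      have h1 := Int.emod_nonneg j hm
      have h2 := Int.emod_lt_abs j hm
      have hlt : (j % (orderOf r : ℤ)).toNat < orderOf r := by
        rw [abs_of_nonneg (by omega)] at h2; omega
      have e : r ^ (j % (orderOf r : ℤ)).toNat = r ^ j := by
        rw [← zpow_natCast, Int.toNat_of_nonneg h1, zpow_mod_orderOf]
      rcases hj with rfl | rfl
      · exact ⟨(⟨_, hlt⟩, false), by simpa using e⟩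
      · exact ⟨(⟨_, hlt⟩, true), by simp [e]⟩)

theorem card_eq : Nat.card W = 2 * orderOf r := by
  rw [← Nat.card_congr (formEquiv hP), Nat.card_prod, Nat.card_fin, Nat.card_eq_fintype_card (α := Bool)]
  rw [Fintype.card_bool, mul_comm]

theorem len_parity_ne (i : ι) (w : W) : len hP.inv (σ i * w) ≠ len hP.inv w := by
  have hm := two_le_order hP
  have key : ∀ w : W, ∃ j : ℤ, (w = r ^ j ∧ len hP.inv w % 2 = 0) ∨ (w = r ^ j * σ s ∧ len hP.inv w % 2 = 1) := by
    intro w
    obtain ⟨j, hj, rfl | rfl⟩ := exists_rep hP w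
    · exact ⟨j, .inl ⟨rfl, by rw [len_pow hP hj]; omega⟩⟩
    · refine ⟨j, .inr ⟨rfl, ?_⟩⟩
      by_cases h : (2 * j + 1).natAbs ≤ orderOf r
      · rw [len_pow_s hP h]; omega
      · have e : r ^ j * σ s = r ^ (-j) * σ s := by
          rw [mul_left_inj, pow_eq_iff]
          have : j - -j = (orderOf r : ℤ) ∨ j - -j = -(orderOf r : ℤ) := by omega
          rcases this with h | h <;> rw [h]
          exact Int.dvd_neg.mpr dvd_rfl
        rw [e, len_pow_s hP (j := -j) (by omega)]
        omega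
  obtain ⟨j, hj⟩ := key w
  obtain ⟨k, hk⟩ := key (σ i * w)
  intro h
  rcases hj with ⟨rfl, hj⟩ | ⟨rfl, hj⟩ <;> rcases hk with ⟨e, hk⟩ | ⟨e, hk⟩ <;>
    rcases hP.all i with rfl | rfl <;> try omega
  · rw [s_mul_pow hP] at e; exact pow_s_ne hP _ _ e.symm
  · rw [t_mul_pow hP] at e; exact pow_s_ne hP _ _ e.symm
  · rw [s_mul_pow_s hP] at e; exact pow_s_ne hP _ _ e
  · rw [t_mul_pow_s hP] at e; exact pow_s_ne hP _ _ e

/-- The operator of a generator on functions on the group. -/
noncomputable def op (q : ι → ℝ) (i : ι) (F : W → ℝ) (w : W) : ℝ :=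
  if len hP.inv w < len hP.inv (σ i * w) then F w + q i * F (σ i * w) else F (σ i * w) + q i * F w

theorem op_up (q : ι → ℝ) (F : W → ℝ) {i : ι} {w v : W} (hv : σ i * w = v)
    (h : len hP.inv w < len hP.inv v) : op hP q i F w = F w + q i * F v := by
  subst hv; exact if_pos h

theorem op_down (q : ι → ℝ) (F : W → ℝ) {i : ι} {w v : W} (hv : σ i * w = v)
    (h : len hP.inv v < len hP.inv w) : op hP q i F w = F v + q i * F w := by
  subst hv; exact if_neg (by omega)

theorem op_self (q : ι → ℝ) (F : W → ℝ) (i : ι) (w : W) :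
    op hP q i F (σ i * w) = op hP q i F w := by
  rcases lt_or_gt_of_ne (len_parity_ne hP i w) with h | h
  · rw [op_up hP q F (mul_mul hP.inv i w) h, op_down hP q F rfl h]
  · rw [op_down hP q F (mul_mul hP.inv i w) h, op_up hP q F rfl h]

omit [Finite W] in
theorem op_eq_iff_inv (q : ι → ℝ) (hq : ∀ i, q i ≠ 0) (F : W → ℝ) (i : ι) :
    op hP q i F = (fun w => (1 + q i) * F w) ↔ ∀ w, F (σ i * w) = F w := by
  constructor
  · intro h w
    have := congrFun h w
    unfold op at this
    split at this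
    · exact mul_left_cancel₀ (hq i) (by linarith)
    · linarith
  · intro h
    funext w
    unfold op
    rw [h w]
    split <;> ring

/-- Invariance under the first generator on both sides. -/
def Radial (σ : ι → W) (s : ι) (F : W → ℝ) : Prop :=
  (∀ w, F (σ s * w) = F w) ∧ ∀ w, F (w * σ s) = F w

omit [Finite W] in
theorem radial_pow_s {F : W → ℝ} (hF : Radial σ s F) (j : ℤ) : F (r ^ j * σ s) = F (r ^ j) := hF.2 _

omit [Finite W] in
theorem radial_neg {F : W → ℝ} (hF : Radial σ s F) (j : ℤ) : F (r ^ (-j)) = F (r ^ j) := by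
  rw [← hF.1 (r ^ j), s_mul_pow hP, hF.2]

variable (q : ι → ℝ) {F : W → ℝ}

/-- The auxiliary values. -/
noncomputable def vv (f : ℕ → ℝ) (b : ℝ) (k : ℕ) : ℝ := f k + b * f (k + 1)

/-- The tridiagonal operator. -/
noncomputable def tri (M : ℕ) (f : ℕ → ℝ) (a b : ℝ) : ℕ → ℝ
  | 0 => (1 + a) * vv f b 0
  | k + 1 => if 2 * (k + 1) = M then (1 + a) * vv f b k else vv f b k + a * vv f b (k + 1)

theorem op_t_pow (hF : Radial σ s F) {k : ℕ} (hk : 2 * k < orderOf r) :
    op hP q t F (r ^ (k : ℤ)) = vv (fun n => F (r ^ n)) (q t) k := by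
  rw [op_up hP q F (t_mul_pow hP _) (by rw [len_pow hP (by omega), len_pow_s hP (by omega)]; omega),
    radial_pow_s hP hF, show (-1 - (k : ℤ)) = -((k + 1 : ℕ) : ℤ) by omega, radial_neg hP hF,
    zpow_natCast, zpow_natCast]
  rfl

theorem op_t_npow (hF : Radial σ s F) {k : ℕ} (hk : 2 * (k + 1) ≤ orderOf r) :
    op hP q t F (r ^ (-((k + 1 : ℕ) : ℤ))) = vv (fun n => F (r ^ n)) (q t) k := by
  rw [op_down hP q F (t_mul_pow hP _) (by rw [len_pow hP (by omega), len_pow_s hP (by omega)]; omega),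
    radial_pow_s hP hF, radial_neg hP hF, show (-1 - -((k + 1 : ℕ) : ℤ)) = (k : ℤ) by omega,
    zpow_natCast, zpow_natCast]
  rfl

theorem op_t_npow_s (hF : Radial σ s F) {k : ℕ} (hk : 2 * k + 1 ≤ orderOf r) :
    op hP q t F (r ^ (-((k + 1 : ℕ) : ℤ)) * σ s) = vv (fun n => F (r ^ n)) (q t) k := by
  rw [op_down hP q F (t_mul_pow_s hP _) (by rw [len_pow hP (by omega), len_pow_s hP (by omega)]; omega),
    radial_pow_s hP hF, radial_neg hP hF, show (-1 - -((k + 1 : ℕ) : ℤ)) = (k : ℤ) by omega,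
    zpow_natCast, zpow_natCast]
  rfl

theorem op_t_pow_s (hF : Radial σ s F) {k : ℕ} (hk : 2 * k + 1 ≤ orderOf r) :
    op hP q t F (r ^ (k : ℤ) * σ s) = vv (fun n => F (r ^ n)) (q t) k := by
  by_cases h : 2 * k + 1 = orderOf r
  · have e : F (r ^ (k + 1)) = F (r ^ k) := by
      rw [← zpow_natCast r k, ← radial_neg hP hF (k : ℤ), ← zpow_natCast]
      congr 1
      rw [pow_eq_iff]
      exact ⟨1, by omega⟩
    rw [op, t_mul_pow_s hP, radial_pow_s hP hF, show (-1 - (k : ℤ)) = -((k + 1 : ℕ) : ℤ) by omega,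
      radial_neg hP hF, zpow_natCast, zpow_natCast, e, ite_self]
    show _ = _ + _
    simp only [e]
  · rw [op_up hP q F (t_mul_pow_s hP _) (by rw [len_pow hP (by omega), len_pow_s hP (by omega)]; omega),
      radial_pow_s hP hF, show (-1 - (k : ℤ)) = -((k + 1 : ℕ) : ℤ) by omega, radial_neg hP hF,
      zpow_natCast, zpow_natCast]
    rfl

theorem op_op_pow (hF : Radial σ s F) {j : ℤ} (hj : 2 * j.natAbs ≤ orderOf r) :
    op hP q s (op hP q t F) (r ^ j) = tri (orderOf r) (fun n => F (r ^ n)) (q s) (q t) j.natAbs := by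
  have hm := two_le_order hP
  rcases Int.natAbs_eq j with h | h <;> rcases hk : j.natAbs with _ | k <;> rw [hk] at h hj <;>
    rw [h]
  · rw [op_up hP q _ (s_mul_pow hP _) (by rw [len_pow hP (by simp), len_pow_s hP (by simp; omega)]; simp),
      op_t_pow hP q hF (by omega), show (-((0 : ℕ) : ℤ)) = ((0 : ℕ) : ℤ) by simp,
      op_t_pow_s hP q hF (by omega), tri]
    ring
  · by_cases hmid : 2 * (k + 1) = orderOf r
    · have e : r ^ ((k + 1 : ℕ) : ℤ) = r ^ (-((k + 1 : ℕ) : ℤ)) := by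
        rw [pow_eq_iff]; exact ⟨1, by omega⟩
      rw [op_down hP q _ (s_mul_pow hP _) (by rw [len_pow hP (by omega), len_pow_s hP (by omega)]; omega),
        op_t_npow_s hP q hF (by omega), e, op_t_npow hP q hF (by omega), tri, if_pos hmid]
      ring
    · rw [op_down hP q _ (s_mul_pow hP _) (by rw [len_pow hP (by omega), len_pow_s hP (by omega)]; omega),
        op_t_npow_s hP q hF (by omega), op_t_pow hP q hF (by omega), tri, if_neg hmid]
  · rw [show (-((0 : ℕ) : ℤ)) = ((0 : ℕ) : ℤ) by simp,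
      op_up hP q _ (s_mul_pow hP _) (by rw [len_pow hP (by simp), len_pow_s hP (by simp; omega)]; simp),
      op_t_pow hP q hF (by omega), show (-((0 : ℕ) : ℤ)) = ((0 : ℕ) : ℤ) by simp,
      op_t_pow_s hP q hF (by omega), tri]
    ring
  · by_cases hmid : 2 * (k + 1) = orderOf r
    · have e : r ^ (- -((k + 1 : ℕ) : ℤ)) * σ s = r ^ (-((k + 1 : ℕ) : ℤ)) * σ s := by
        rw [neg_neg, mul_left_inj, pow_eq_iff]; exact ⟨1, by omega⟩
      rw [op_down hP q _ ((s_mul_pow hP _).trans e)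
          (by rw [len_pow hP (by omega), len_pow_s hP (by omega)]; omega),
        op_t_npow_s hP q hF (by omega), op_t_npow hP q hF (by omega), tri, if_pos hmid]
      ring
    · rw [op_up hP q _ (s_mul_pow hP _) (by rw [len_pow hP (by omega), len_pow_s hP (by omega)]; omega),
        op_t_npow hP q hF (by omega), neg_neg, op_t_pow_s hP q hF (by omega), tri, if_neg hmid]

theorem op_op_eq_iff (hF : Radial σ s F) (μ : ℝ) :
    op hP q s (op hP q t F) = (fun w => μ * F w) ↔
      ∀ k, 2 * k ≤ orderOf r → tri (orderOf r) (fun n => F (r ^ n)) (q s) (q t) k = μ * F (r ^ k) := by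
  constructor
  · intro h k hk
    have := congrFun h (r ^ (k : ℤ))
    rw [op_op_pow hP q hF (by omega), Int.natAbs_natCast, zpow_natCast] at this
    exact this
  · intro h
    have hF' : ∀ j : ℤ, F (r ^ j) = F (r ^ j.natAbs) := by
      intro j
      rw [← zpow_natCast]
      rcases Int.natAbs_eq j with e | e
      · rw [← e]
      · nth_rewrite 1 [e]
        rw [radial_neg hP hF]
    funext w
    obtain ⟨j, hj, rfl | rfl⟩ := exists_rep hP w
    · rw [op_op_pow hP q hF hj, h _ hj, hF']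
    · rw [pow_mul_s hP, op_self, op_op_pow hP q hF (by omega), h _ (by omega), hF.1, hF']

theorem radial_ext {F' : W → ℝ} (hF : Radial σ s F) (hF' : Radial σ s F')
    (h : ∀ k, 2 * k ≤ orderOf r → F (r ^ k) = F' (r ^ k)) : F = F' := by
  funext w
  obtain ⟨j, hj, rfl | rfl⟩ := exists_rep hP w
  all_goals
    try rw [radial_pow_s hP hF, radial_pow_s hP hF']
    rcases Int.natAbs_eq j with e | e <;> rw [e]
  all_goals
    try rw [radial_neg hP hF, radial_neg hP hF']
    rw [zpow_natCast]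
    exact h _ hj

theorem spherical_unique (hq : ∀ i, 0 < q i) (hF : Radial σ s F) (μ : ℝ) (h1 : F 1 = 0)
    (h : op hP q s (op hP q t F) = fun w => μ * F w) : F = 0 := by
  have e := (op_op_eq_iff hP q hF μ).mp h
  refine radial_ext hP hF ⟨fun _ => rfl, fun _ => rfl⟩ ?_
  intro k
  induction k using Nat.strong_induction_on with
  | _ k IH =>
    intro hk
    rcases k with _ | k
    · simpa using h1
    have z : ∀ i ≤ k, F (r ^ i) = 0 := fun i hi => by simpa using IH i (by omega) (by omega)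
    have ht := e k (by omega)
    have hs0 := hq s
    have ht0 := hq t
    rw [z k le_rfl, mul_zero] at ht
    show F (r ^ (k + 1)) = 0
    rcases k with _ | i
    · simp only [tri, vv] at ht
      simp only [show F (r ^ 0) = 0 by simpa using h1, zero_add, ← mul_assoc] at ht
      rcases mul_eq_zero.mp ht with h | h
      · exact absurd h (by positivity)
      · exact h
    · rw [tri, if_neg (by omega), vv, vv] at ht
      simp only [z i (by omega), z (i + 1) le_rfl, zero_add, mul_zero, ← mul_assoc] at ht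
      rcases mul_eq_zero.mp ht with h | h
      · exact absurd h (by positivity)
      · exact h

theorem weight_pow (N : W → ℝ) (h1 : N 1 = 1)
    (hN : ∀ i w, len hP.inv w < len hP.inv (σ i * w) → N (σ i * w) = q i * N w) :
    (∀ k : ℕ, 2 * k ≤ orderOf r → N (r ^ (k : ℤ)) = (q s * q t) ^ k ∧ N (r ^ (-(k : ℤ))) = (q s * q t) ^ k) ∧
    (∀ k : ℕ, 2 * k + 1 ≤ orderOf r → N (r ^ (k : ℤ) * σ s) = q s * (q s * q t) ^ k ∧
      N (r ^ (-((k + 1 : ℕ) : ℤ)) * σ s) = q t * (q s * q t) ^ k) := by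
  have step : ∀ k : ℕ, 2 * k + 1 ≤ orderOf r →
      N (r ^ (k : ℤ)) = (q s * q t) ^ k ∧ N (r ^ (-(k : ℤ))) = (q s * q t) ^ k →
      N (r ^ (k : ℤ) * σ s) = q s * (q s * q t) ^ k ∧
        N (r ^ (-((k + 1 : ℕ) : ℤ)) * σ s) = q t * (q s * q t) ^ k := by
    rintro k hk ⟨hp, hn⟩
    constructor
    · rw [pow_mul_s hP, hN s _ (by rw [← pow_mul_s hP, len_pow hP (by omega), len_pow_s hP (by omega)]; omega), hn]
    · have e : σ t * r ^ (k : ℤ) = r ^ (-((k + 1 : ℕ) : ℤ)) * σ s := by
        rw [t_mul_pow hP]; congr 2; omega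
      rw [← e, hN t _ (by rw [e, len_pow hP (by omega), len_pow_s hP (by omega)]; omega), hp]
  have main : ∀ k : ℕ, 2 * k ≤ orderOf r →
      N (r ^ (k : ℤ)) = (q s * q t) ^ k ∧ N (r ^ (-(k : ℤ))) = (q s * q t) ^ k := by
    intro k
    induction k with
    | zero => intro; simp [h1]
    | succ k ih =>
      intro hk
      obtain ⟨hp, hn⟩ := step k (by omega) (ih (by omega))
      constructor
      · have e : σ s * (r ^ (-((k + 1 : ℕ) : ℤ)) * σ s) = r ^ ((k + 1 : ℕ) : ℤ) := by
          rw [s_mul_pow_s hP, neg_neg]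
        rw [← e, hN s _ (by rw [e, len_pow hP (by omega), len_pow_s hP (by omega)]; omega), hn]
        ring
      · have e : σ t * (r ^ (k : ℤ) * σ s) = r ^ (-((k + 1 : ℕ) : ℤ)) := by
          rw [t_mul_pow_s hP]; congr 1; omega
        rw [← e, hN t _ (by rw [e, len_pow hP (by omega), len_pow_s hP (by omega)]; omega), hp]
        ring
  exact ⟨main, fun k hk => step k hk (main k (by omega))⟩

end CfsgLib.BNPair.Dihedral
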