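import Cfsg.Agent.Lib.BNPair.Basic
import Cfsg.Agent.Lib.BNPair.Dihedral

/-!
Bi-invariant kernels on the flags of a finite (B,N)-pair of rank two.
-/

set_option autoImplicit false

namespace CfsgLib.BNPair.Count

open CfsgLib.BNPair.Exchange CfsgLib.BNPair.Basic

variable {G : Type*} [Group G] (P : Cfsg.BNPair G)

/-- The cell of an element. -/
noncomputable def wOf (g : G) : W P := Classical.choose (exists_mem_cell P g)

theorem mem_wOf (g : G) : g ∈ cell P (wOf P g) := Classical.choose_spec (exists_mem_cell P g)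

theorem wOf_eq {g : G} {w : W P} (h : g ∈ cell P w) : wOf P g = w := cell_inj P (mem_wOf P g) h

theorem wOf_inv (g : G) : wOf P g⁻¹ = (wOf P g)⁻¹ := wOf_eq P (inv_mem_cell P (mem_wOf P g))

theorem wOf_mul_B {g b b' : G} (hb : b ∈ P.B) (hb' : b' ∈ P.B) : wOf P (b * g * b') = wOf P g :=
  wOf_eq P (cell_mul P (mul_cell P (mem_wOf P g) hb) hb')

theorem out_eq_mul (a : G) : ∃ b ∈ P.B, (QuotientGroup.mk a : G ⧸ P.B).out = a * b := by
  obtain ⟨b, hb⟩ := QuotientGroup.mk_out_eq_mul P.B a
  exact ⟨b, b.2, hb⟩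

theorem mem_cell_gen {s : P.S} {h : G} :
    h ∈ cell P (σ P s) ↔ ∃ c ∈ P.B, ∃ c' ∈ P.B, h = c * s * c' := by
  rw [show σ P s = proj P (sN P s) from rfl, cell_proj, DoubleCoset.mem_doubleCoset]
  rfl

theorem gen_cell_mul {s : P.S} {w : W P} {h g : G} (hh : h ∈ cell P (σ P s)) (hg : g ∈ cell P w) :
    h * g ∈ cell P (σ P s * w) ∪ cell P w := by
  obtain ⟨c, hc, c', hc', rfl⟩ := (mem_cell_gen P).mp hh
  rw [show c * (s : G) * c' * g = c * ((s : G) * (c' * g)) by group]
  rcases gen_mul_cell P s (mul_cell P hg hc') with h | h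
  · exact .inl (mul_cell P h hc)
  · exact .inr (mul_cell P h hc)

theorem gen_cell_mul_up {s : P.S} {w : W P} (hle : ℓ P w ≤ ℓ P (σ P s * w)) {h g : G}
    (hh : h ∈ cell P (σ P s)) (hg : g ∈ cell P w) : h * g ∈ cell P (σ P s * w) := by
  obtain ⟨c, hc, c', hc', rfl⟩ := (mem_cell_gen P).mp hh
  rw [show c * (s : G) * c' * g = c * ((s : G) * (c' * g)) by group]
  exact mul_cell P (gen_mul_cell_of_le P hle (mul_cell P hg hc')) hc

variable [Finite G]

noncomputable instance instFintypeFlags : Fintype (G ⧸ P.B) := Fintype.ofFinite _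

noncomputable instance instFintypeWeyl : Fintype (W P) := Fintype.ofFinite _

/-- The kernel of a function on the Weyl group. -/
noncomputable def ker (F : W P → ℝ) : Matrix (G ⧸ P.B) (G ⧸ P.B) ℝ :=
  fun x y => F (wOf P (x.out⁻¹ * y.out))

theorem ker_mk (F : W P → ℝ) (a b : G) : ker P F a b = F (wOf P (a⁻¹ * b)) := by
  obtain ⟨c, hc, e⟩ := out_eq_mul P a
  obtain ⟨c', hc', e'⟩ := out_eq_mul P b
  rw [ker, e, e', show (a * c)⁻¹ * (b * c') = c⁻¹ * (a⁻¹ * b) * c' by group,
    wOf_mul_B P (P.B.inv_mem hc) hc']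

theorem ker_one_out (F : W P → ℝ) (w : W P) : ker P F ((1 : G) : G ⧸ P.B) ((w.out : G) : G ⧸ P.B) = F w := by
  rw [ker_mk, inv_one, one_mul]
  congr 1
  exact wOf_eq P (by have := mem_cell_proj P w.out; rwa [QuotientGroup.mk'_apply, QuotientGroup.out_eq'] at this)

theorem ker_injective : Function.Injective (ker P) := fun F F' h => by
  funext w
  rw [← ker_one_out P F, h, ker_one_out]

theorem ker_smul (c : ℝ) (F : W P → ℝ) : ker P (fun w => c * F w) = c • ker P F := rfl

theorem ker_sub (F F' : W P → ℝ) : ker P (F - F') = ker P F - ker P F' := rfl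

theorem ker_add (F F' : W P → ℝ) : ker P (F + F') = ker P F + ker P F' := rfl

/-- The number of flags in a cell. -/
noncomputable def weight (w : W P) : ℕ := Nat.card {z : G ⧸ P.B // wOf P z.out = w}

open Classical in
theorem card_translate (a : G) (w : W P) :
    (Finset.univ.filter fun z : G ⧸ P.B => wOf P (a⁻¹ * z.out) = w).card = weight P w := by
  rw [weight, Nat.card_eq_fintype_card, Fintype.card_subtype]
  refine Finset.card_equiv (MulAction.toPerm a⁻¹) fun z => ?_
  simp only [Finset.mem_filter, Finset.mem_univ, true_and, MulAction.toPerm_apply]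
  obtain ⟨c, hc, e⟩ := out_eq_mul P (a⁻¹ * z.out)
  rw [show a⁻¹ • z = ((a⁻¹ * z.out : G) : G ⧸ P.B) by
      conv_lhs => rw [← QuotientGroup.out_eq' z]
      rfl,
    e, ← one_mul (a⁻¹ * z.out * c), ← mul_assoc, wOf_mul_B P P.B.one_mem hc]

/-- The function equal to one at `w`. -/
noncomputable def delta (w : W P) : W P → ℝ := by classical exact fun v => if v = w then 1 else 0

open Classical in
theorem delta_apply (w v : W P) : delta P w v = if v = w then 1 else 0 := rfl

open Classical in
theorem ker_delta_one : ker P (delta P 1) = 1 := by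
  ext x y
  obtain ⟨a, rfl⟩ := QuotientGroup.mk_surjective x
  obtain ⟨b, rfl⟩ := QuotientGroup.mk_surjective y
  rw [ker_mk, delta_apply, Matrix.one_apply]
  refine if_congr ?_ rfl rfl
  rw [QuotientGroup.eq, ← mem_cell_one P]
  exact ⟨fun h => h ▸ mem_wOf P _, wOf_eq P⟩

/-- The matrix of a generator. -/
noncomputable def panel [DecidableEq (G ⧸ P.B)] (s : P.S) : Matrix (G ⧸ P.B) (G ⧸ P.B) ℝ := 1 + ker P (delta P (σ P s))

/-- The parameter of a generator. -/
noncomputable def par (s : P.S) : ℝ := (weight P (σ P s) : ℝ)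

open Classical in
theorem two_le_par (s : P.S) : 2 ≤ par P s := by
  obtain ⟨b, hb, hc⟩ := exists_conj_gen P s
  have h1 : (s : G) ∈ cell P (σ P s) := mem_cell_proj P (sN P s)
  have h2 : b * (s : G) ∈ cell P (σ P s) := mul_cell P h1 hb
  have hne : ((s : G) : G ⧸ P.B) ≠ ((b * s : G) : G ⧸ P.B) := by
    intro h
    rw [QuotientGroup.eq] at h
    have h3 : (s : G) * b * s ∈ P.B := by
      rw [show (s : G) * b * s = ((s : G) * s) * ((s : G)⁻¹ * (b * s)) by group]
      exact P.B.mul_mem (P.sq_mem _ s.2) h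
    exact σ_ne_one P s (cell_inj P hc ((mem_cell_one P).mpr h3))
  have : 2 ≤ weight P (σ P s) := by
    rw [← card_translate P 1]
    refine (Finset.card_pair hne).symm.le.trans (Finset.card_le_card ?_)
    intro z hz
    rw [Finset.mem_filter]
    refine ⟨Finset.mem_univ _, ?_⟩
    rw [Finset.mem_insert, Finset.mem_singleton] at hz
    rcases hz with rfl | rfl <;> rw [inv_one, one_mul]
    · obtain ⟨c, hc', e⟩ := out_eq_mul P (s : G)
      rw [e]; exact wOf_eq P (cell_mul P h1 hc')
    · obtain ⟨c, hc', e⟩ := out_eq_mul P (b * s)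
      rw [e]; exact wOf_eq P (cell_mul P h2 hc')
  unfold par
  exact_mod_cast this

open CfsgLib.BNPair.Dihedral

variable {s t : P.S} (hP : Pair (σ P) s t)
include hP

open Classical in
theorem panel_mul_ker (i : P.S) (F : W P → ℝ) : panel P i * ker P F = ker P (op hP (par P) i F) := by
  ext x y
  obtain ⟨a, rfl⟩ := QuotientGroup.mk_surjective x
  obtain ⟨b, rfl⟩ := QuotientGroup.mk_surjective y
  rw [panel, add_mul, one_mul, Matrix.add_apply, ker_mk, ker_mk, Matrix.mul_apply]
  set g := a⁻¹ * b with hg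
  set w := wOf P g with hw
  set S := Finset.univ.filter fun z : G ⧸ P.B => wOf P (a⁻¹ * z.out) = σ P i with hS
  have hcard : (S.card : ℝ) = par P i := by rw [hS, card_translate]; rfl
  have hsum : ∑ z : G ⧸ P.B, ker P (delta P (σ P i)) a z * ker P F z b =
      ∑ z ∈ S, F (wOf P ((a⁻¹ * z.out)⁻¹ * g)) := by
    rw [hS, Finset.sum_filter]
    refine Finset.sum_congr rfl fun z _ => ?_
    have e1 : ker P (delta P (σ P i)) a z = delta P (σ P i) (wOf P (a⁻¹ * z.out)) := by
      conv_lhs => rw [← QuotientGroup.out_eq' z, ker_mk]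
    have e2 : ker P F z b = F (wOf P ((a⁻¹ * z.out)⁻¹ * g)) := by
      rw [show (a⁻¹ * z.out)⁻¹ * g = z.out⁻¹ * b by rw [hg]; group]
      conv_lhs => rw [← QuotientGroup.out_eq' z, ker_mk]
    rw [e1, e2, delta_apply]
    split <;> simp
  rw [hsum]
  have hinv : ∀ z ∈ S, (a⁻¹ * z.out)⁻¹ ∈ cell P (σ P i) := by
    intro z hz
    rw [hS, Finset.mem_filter] at hz
    have := inv_mem_cell P (hz.2 ▸ mem_wOf P (a⁻¹ * z.out))
    rwa [inv_eq (isInvGen P) i] at this
  rcases lt_or_gt_of_ne (len_parity_ne hP i w) with hlt | hlt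
  · -- the descent
    rw [op_down hP (par P) F rfl hlt]
    set w' := σ P i * w with hw'
    have hlt' : ℓ P w' ≤ ℓ P (σ P i * w') := by rw [hw', mul_mul (isInvGen P)]; exact hlt.le
    have h0 : (w'.out : G) ∈ cell P w' := by
      have := mem_cell_proj P w'.out
      rwa [QuotientGroup.mk'_apply, QuotientGroup.out_eq'] at this
    have hi : (i : G) ∈ cell P (σ P i) := mem_cell_proj P (sN P i)
    have h1 := gen_cell_mul_up P hlt' hi h0
    rw [hw', mul_mul (isInvGen P)] at h1
    have hgw : g ∈ cell P w := mem_wOf P g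
    rw [← cell_eq_of_mem P h1 h1] at hgw
    have hdc : ∃ c ∈ P.B, ∃ c' ∈ P.B, g = c * ((i : G) * w'.out) * c' := by
      have h2 : g ∈ DoubleCoset.doubleCoset ((i : G) * w'.out) (P.B : Set G) P.B := by
        have := DoubleCoset.doubleCoset_eq_of_mem h1
        rw [this]; exact hgw
      exact DoubleCoset.mem_doubleCoset.mp h2
    obtain ⟨c, hc, c', hc', hge⟩ := hdc
    set a2 := c * (i : G) with ha2
    set g' := (w'.out : G) * c' with hg'
    have hga : g = a2 * g' := by rw [hge, ha2, hg']; group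
    have ha2c : a2 ∈ cell P (σ P i) := mul_cell P hi hc
    have hg'c : g' ∈ cell P w' := cell_mul P h0 hc'
    set z0 : G ⧸ P.B := ((a * a2 : G) : G ⧸ P.B) with hz0
    have hz0S : z0 ∈ S := by
      rw [hS, Finset.mem_filter]
      refine ⟨Finset.mem_univ _, ?_⟩
      obtain ⟨e, he, hout⟩ := out_eq_mul P (a * a2)
      rw [hz0, hout, show a⁻¹ * (a * a2 * e) = a2 * e by group]
      exact wOf_eq P (cell_mul P ha2c he)
    have hval : ∀ z ∈ S, wOf P ((a⁻¹ * z.out)⁻¹ * g) = if z = z0 then w' else w := by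
      intro z hz
      have hu := gen_cell_mul P (hinv z hz) ha2c
      rw [σ_mul_self] at hu
      by_cases hzz : z = z0
      · rw [if_pos hzz, hga, ← mul_assoc]
        refine wOf_eq P (mul_cell P hg'c ?_)
        obtain ⟨e, he, hout⟩ := out_eq_mul P (a * a2)
        rw [hzz, hz0, hout, show (a⁻¹ * (a * a2 * e))⁻¹ * a2 = e⁻¹ by group]
        exact P.B.inv_mem he
      · rw [if_neg hzz, hga, ← mul_assoc]
        have hu' : (a⁻¹ * z.out)⁻¹ * a2 ∈ cell P (σ P i) := by
          rcases hu with h | h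
          · refine absurd ?_ hzz
            rw [hz0, ← QuotientGroup.out_eq' z, QuotientGroup.eq]
            rw [show z.out⁻¹ * (a * a2) = (a⁻¹ * z.out)⁻¹ * a2 by group]
            exact (mem_cell_one P).mp h
          · exact h
        have h3 := gen_cell_mul_up P hlt' hu' hg'c
        rw [hw', mul_mul (isInvGen P)] at h3
        exact wOf_eq P h3
    rw [Finset.sum_congr rfl fun z hz => congrArg F (hval z hz), ← Finset.add_sum_erase _ _ hz0S,
      if_pos rfl, Finset.sum_congr rfl (g := fun _ => F w) (fun z hz => by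
        rw [if_neg (Finset.ne_of_mem_erase hz)]),
      Finset.sum_const, nsmul_eq_mul, Finset.card_erase_of_mem hz0S,
      Nat.cast_sub (Finset.card_pos.mpr ⟨z0, hz0S⟩), hcard]
    push_cast
    ring
  · rw [op_up hP (par P) F rfl hlt,
      Finset.sum_congr rfl (g := fun _ => F (σ P i * w)) (fun z hz => by
        rw [wOf_eq P (gen_cell_mul_up P hlt.le (hinv z hz) (mem_wOf P g))]),
      Finset.sum_const, nsmul_eq_mul, hcard]

open Classical in
theorem ker_mulVec_one (w : W P) (x : G ⧸ P.B) :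
    (ker P (delta P w)).mulVec (fun _ => (1 : ℝ)) x = weight P w := by
  obtain ⟨a, rfl⟩ := QuotientGroup.mk_surjective x
  rw [← card_translate P a w, Finset.natCast_card_filter]
  simp only [Matrix.mulVec, dotProduct, mul_one]
  refine Finset.sum_congr rfl fun z _ => ?_
  conv_lhs => rw [← QuotientGroup.out_eq' z, ker_mk, delta_apply]

open Classical in
theorem weight_one : weight P 1 = 1 := by
  have h := ker_mulVec_one P hP 1 ((1 : G) : G ⧸ P.B)
  rw [ker_delta_one] at h
  simpa using h.symm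

open Classical in
theorem weight_up (i : P.S) (w : W P) (h : len hP.inv w < len hP.inv (σ P i * w)) :
    (weight P (σ P i * w) : ℝ) = par P i * weight P w := by
  have hne : σ P i * w ≠ w := fun e => by rw [e] at h; exact lt_irrefl _ h
  have hop : op hP (par P) i (delta P w) = delta P w + delta P (σ P i * w) := by
    funext v
    rw [Pi.add_apply]
    by_cases h1 : v = w
    · subst h1
      rw [op_up hP (par P) _ rfl h, delta_apply, delta_apply, delta_apply, if_pos rfl, if_neg hne, if_neg hne.symm]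
      ring
    by_cases h2 : v = σ P i * w
    · subst h2
      rw [op_down hP (par P) _ (mul_mul hP.inv i w) h, delta_apply, delta_apply, delta_apply, if_pos rfl,
        if_neg h1, if_pos rfl]
      ring
    have h3 : σ P i * v ≠ w := fun e => h2 (by rw [← e, mul_mul hP.inv])
    simp [op, delta_apply, h1, h2, h3]
  set x0 : G ⧸ P.B := ((1 : G) : G ⧸ P.B)
  have := congrArg (fun M => M.mulVec (fun _ => (1 : ℝ)) x0) (panel_mul_ker P hP i (delta P w))
  simp only [hop, ker_add, Matrix.add_mulVec, Pi.add_apply, ker_mulVec_one P hP, ← Matrix.mulVec_mulVec] at this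
  have hw : (ker P (delta P w)).mulVec (fun _ => (1 : ℝ)) = fun _ => (weight P w : ℝ) :=
    funext fun x => ker_mulVec_one P hP w x
  rw [hw, panel, Matrix.add_mulVec, Pi.add_apply, Matrix.one_mulVec] at this
  have hq : (ker P (delta P (σ P i))).mulVec (fun _ => (weight P w : ℝ)) x0 = par P i * weight P w := by
    rw [show (fun _ : G ⧸ P.B => (weight P w : ℝ)) = (weight P w : ℝ) • (fun _ => (1 : ℝ)) by ext; simp,
      Matrix.mulVec_smul, Pi.smul_apply, ker_mulVec_one P hP, smul_eq_mul, mul_comm]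
    rfl
  rw [hq] at this
  linarith

omit hP in
theorem rational_of_idem {n : Type*} [Fintype n] [DecidableEq n] [Nonempty n] (E : Matrix n n ℝ) (c : ℝ)
    (hc : c ≠ 0) (hdiag : ∀ i, E i i = 1) (hE : E * E = c • E) : ∃ x : ℚ, (x : ℝ) = c := by
  set M := c⁻¹ • E with hM
  have hidem : IsIdempotentElem (Matrix.toLin' M) := by
    show Matrix.toLin' M * Matrix.toLin' M = _
    rw [Module.End.mul_eq_comp, ← Matrix.toLin'_mul, hM, smul_mul_smul_comm, hE, smul_smul]
    congr 2
    field_simp
  have h1 := (LinearMap.IsIdempotentElem.isProj_range _ hidem).trace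
  rw [Matrix.trace_toLin'_eq] at h1
  have h2 : Matrix.trace M = c⁻¹ * Fintype.card n := by
    rw [hM, Matrix.trace_smul, Matrix.trace, smul_eq_mul]
    simp [hdiag]
  set k := Module.finrank ℝ (LinearMap.range (Matrix.toLin' M))
  rw [h2] at h1
  refine ⟨(Fintype.card n : ℚ) / k, ?_⟩
  have hn : (Fintype.card n : ℝ) ≠ 0 := Nat.cast_ne_zero.mpr Fintype.card_ne_zero
  push_cast
  rw [← h1]
  field_simp

open Classical in
theorem spherical_rational (F : W P → ℝ) (μ : ℝ) (h1 : F 1 = 1) (hF : Radial (σ P) s F)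
    (h : op hP (par P) s (op hP (par P) t F) = fun w => μ * F w) :
    ∃ x : ℚ, (x : ℝ) = ∑ w : W P, (weight P w : ℝ) * F w ^ 2 := by
  have hpos : ∀ i, 0 < par P i := fun i => by have := two_le_par P i; linarith
  have hne : ∀ i, par P i ≠ 0 := fun i => (hpos i).ne'
  have hinvF : ∀ w, F w⁻¹ = F w := by
    intro w
    obtain ⟨j, _, rfl | rfl⟩ := exists_rep hP w
    · rw [← zpow_neg, radial_neg hP hF]
    · rw [mul_inv_rev, ← zpow_neg, inv_eq hP.inv s, hF.1, hF.2, radial_neg hP hF]
  set E := ker P F with hE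
  have hsym : E.transpose = E := by
    ext x y
    rw [Matrix.transpose_apply, hE, ker, ker, ← hinvF (wOf P (x.out⁻¹ * y.out)), ← wOf_inv]
    congr 2
    group
  have hequi : ∀ (a : G) (x y : G ⧸ P.B), (E * E) (a • x) (a • y) = (E * E) x y := by
    intro a x y
    obtain ⟨u, rfl⟩ := QuotientGroup.mk_surjective x
    obtain ⟨v, rfl⟩ := QuotientGroup.mk_surjective y
    rw [Matrix.mul_apply, Matrix.mul_apply]
    refine (Fintype.sum_equiv (MulAction.toPerm a) _ _ fun z => ?_).symm
    obtain ⟨z, rfl⟩ := QuotientGroup.mk_surjective z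
    simp only [MulAction.toPerm_apply, MulAction.Quotient.smul_mk, hE, ker_mk, smul_eq_mul]
    congr 3 <;> group
  set H : W P → ℝ := fun w => (E * E) ((1 : G) : G ⧸ P.B) ((w.out : G) : G ⧸ P.B) with hH
  have hEE : E * E = ker P H := by
    ext x y
    obtain ⟨u, rfl⟩ := QuotientGroup.mk_surjective x
    obtain ⟨v, rfl⟩ := QuotientGroup.mk_surjective y
    rw [ker_mk]
    set w := wOf P (u⁻¹ * v) with hw
    obtain ⟨c, hc, c', hc', e⟩ := DoubleCoset.mem_doubleCoset.mp
      (show u⁻¹ * v ∈ DoubleCoset.doubleCoset (w.out : G) (P.B : Set G) P.B from mem_wOf P _)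
    show _ = (E * E) _ _
    rw [← hequi c ((1 : G) : G ⧸ P.B), ← hequi u⁻¹ (u : G ⧸ P.B)]
    simp only [MulAction.Quotient.smul_mk, smul_eq_mul, inv_mul_cancel, mul_one, e]
    have e1 : ((c : G) : G ⧸ P.B) = ((1 : G) : G ⧸ P.B) := by rw [QuotientGroup.eq]; simpa using hc
    have e2 : ((c * (w.out : G) * c' : G) : G ⧸ P.B) = ((c * (w.out : G) : G) : G ⧸ P.B) := by
      rw [QuotientGroup.eq, show (c * (w.out : G) * c')⁻¹ * (c * (w.out : G)) = c'⁻¹ by group]
      exact P.B.inv_mem hc'
    rw [e1, e2]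
  have hEs : panel P s * E = (1 + par P s) • E := by
    rw [hE, panel_mul_ker P hP, (op_eq_iff_inv hP (par P) hne F s).mpr hF.1, ker_smul]
  have hEst : panel P s * (panel P t * E) = μ • E := by
    rw [hE, panel_mul_ker P hP, panel_mul_ker P hP, h, ker_smul]
  set D := H - fun w => H 1 * F w with hD
  have hkD : ker P D = E * E - H 1 • E := by rw [hD, ker_sub, ker_smul, ← hEE]
  have hDs : ∀ w, D (σ P s * w) = D w := by
    refine (op_eq_iff_inv hP (par P) hne D s).mp (ker_injective P ?_)
    rw [← panel_mul_ker P hP, ker_smul, hkD, mul_sub, mul_smul_comm, ← mul_assoc, hEs, smul_mul_assoc,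
      smul_sub, smul_comm (H 1)]
  have hDt : op hP (par P) s (op hP (par P) t D) = fun w => μ * D w := by
    refine ker_injective P ?_
    rw [← panel_mul_ker P hP, ← panel_mul_ker P hP, ker_smul, hkD, mul_sub, mul_sub, mul_smul_comm,
      mul_smul_comm, ← mul_assoc (panel P t), ← mul_assoc (panel P s), hEst, smul_mul_assoc,
      smul_sub, smul_comm (H 1)]
  have hDinv : ∀ w, D w⁻¹ = D w := by
    have ht : (ker P D).transpose = ker P D := by
      rw [hkD, Matrix.transpose_sub, Matrix.transpose_smul, Matrix.transpose_mul, hsym]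
    intro w
    have h1 := congrFun (congrFun ht ((1 : G) : G ⧸ P.B)) ((w.out : G) : G ⧸ P.B)
    rw [Matrix.transpose_apply, ker_one_out, ker_mk, mul_one, wOf_inv] at h1
    rwa [wOf_eq P (show (w.out : G) ∈ cell P w by
      have := mem_cell_proj P w.out; rwa [QuotientGroup.mk'_apply, QuotientGroup.out_eq'] at this)] at h1
  have hDr : Radial (σ P) s D := ⟨hDs, fun w => by
    rw [← hDinv, mul_inv_rev, inv_eq hP.inv s, hDs, hDinv]⟩
  have hD1 : D 1 = 0 := by simp [hD, h1]
  have hzero := spherical_unique hP (par P) hpos hDr μ hD1 hDt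
  have hidem : E * E = H 1 • E := by
    have : ker P D = 0 := by rw [hzero]; rfl
    rwa [hkD, sub_eq_zero] at this
  have hdiag : ∀ x, E x x = 1 := by
    intro x
    rw [hE, ker, inv_mul_cancel, wOf_eq P ((mem_cell_one P).mpr P.B.one_mem), h1]
  set x0 : G ⧸ P.B := ((1 : G) : G ⧸ P.B) with hx0
  have hval : H 1 = ∑ z, E x0 z ^ 2 := by
    have h2 : (E * E) x0 x0 = H 1 := by rw [hidem, Matrix.smul_apply, hdiag, smul_eq_mul, mul_one]
    rw [← h2, Matrix.mul_apply]
    refine Finset.sum_congr rfl fun z _ => ?_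
    rw [pow_two]
    congr 1
    exact congrFun (congrFun hsym x0) z
  have hc : H 1 ≠ 0 := by
    rw [hval]
    refine (lt_of_lt_of_le one_pos ?_).ne'
    have := Finset.single_le_sum (f := fun z => E x0 z ^ 2) (fun z _ => sq_nonneg _) (Finset.mem_univ x0)
    simpa [hdiag] using this
  have : Nonempty (G ⧸ P.B) := ⟨x0⟩
  obtain ⟨x, hx⟩ := rational_of_idem E (H 1) hc hdiag hidem
  refine ⟨x, hx.trans (hval.trans ?_)⟩
  rw [← Finset.sum_fiberwise Finset.univ (fun z : G ⧸ P.B => wOf P z.out)]
  refine Finset.sum_congr rfl fun w _ => ?_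
  rw [Finset.sum_congr rfl (g := fun _ => F w ^ 2) (fun z hz => by
    rw [Finset.mem_filter] at hz
    rw [hE, hx0, ← QuotientGroup.out_eq' z, ker_mk, inv_one, one_mul, hz.2])]
  rw [Finset.sum_const, nsmul_eq_mul, weight, Nat.card_eq_fintype_card, Fintype.card_subtype]

end CfsgLib.BNPair.Count
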