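import Cfsg.Agent.Lib.BNPair.Count

/-!
The theorem of Feit and Higman.
-/

set_option autoImplicit false

namespace CfsgLib.BNPair.FeitHigman

open CfsgLib.BNPair.Exchange CfsgLib.BNPair.Basic CfsgLib.BNPair.Dihedral CfsgLib.BNPair.Count

open scoped Real

/-- The closed form for the sum of squares of a solution of `z (k+2) = 2 c z (k+1) - z k`. -/
theorem sum_sq (c : ℝ) (z : ℕ → ℝ) (hz : ∀ k, z (k + 2) = 2 * c * z (k + 1) - z k) (hc : 1 - c ^ 2 ≠ 0)
    (h0 : z 0 = 1) (d : ℕ) :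
    (∀ k, z (k + 1) ^ 2 - 2 * c * z (k + 1) * z k + z k ^ 2 = z 1 ^ 2 - 2 * c * z 1 + 1) ∧
    ∑ k ∈ Finset.range d, z (k + 1) ^ 2 =
      (d * (z 1 ^ 2 - 2 * c * z 1 + 1) + (z d ^ 2 - c * z d * z (d + 1)) - (1 - c * z 1)) / (2 * (1 - c ^ 2)) := by
  have hI : ∀ k, z (k + 1) ^ 2 - 2 * c * z (k + 1) * z k + z k ^ 2 = z 1 ^ 2 - 2 * c * z 1 + 1 := by
    intro k
    induction k with
    | zero => rw [h0]; ring
    | succ k ih => rw [hz]; linear_combination ih
  refine ⟨hI, ?_⟩
  induction d with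
  | zero => simp [h0]
  | succ d ih =>
    have h2 : (2 : ℝ) * (1 - c ^ 2) ≠ 0 := mul_ne_zero two_ne_zero hc
    rw [Finset.sum_range_succ, ih, eq_div_iff h2, add_mul, div_mul_cancel₀ _ h2, hz]
    push_cast
    linear_combination hI d

theorem sum_split_odd (d : ℕ) (g : ℕ → ℝ) :
    ∑ i ∈ Finset.range (2 * d + 1), g i = g 0 + ∑ k ∈ Finset.range d, (g (k + 1) + g (2 * d - k)) := by
  rw [Finset.sum_range_succ', show 2 * d = d + d by ring, Finset.sum_range_add, Finset.sum_add_distrib,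
    ← Finset.sum_range_reflect (fun k => g (d + k + 1)) d]
  rw [add_comm]
  congr 2
  refine Finset.sum_congr rfl fun k hk => ?_
  rw [Finset.mem_range] at hk
  congr 1
  omega

theorem sum_split_even (d : ℕ) (g : ℕ → ℝ) :
    ∑ i ∈ Finset.range (2 * d + 2), g i =
      g 0 + g (d + 1) + ∑ k ∈ Finset.range d, (g (k + 1) + g (2 * d + 1 - k)) := by
  rw [Finset.sum_range_succ', show 2 * d + 1 = (d + 1) + d by ring, Finset.sum_range_add, Finset.sum_range_succ,
    Finset.sum_add_distrib, ← Finset.sum_range_reflect (fun k => g (d + 1 + k + 1)) d]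
  rw [show ∑ k ∈ Finset.range d, g (d + 1 + (d - 1 - k) + 1) = ∑ k ∈ Finset.range d, g (d + 1 + d - k) from ?_]
  · ring
  refine Finset.sum_congr rfl fun k hk => ?_
  rw [Finset.mem_range] at hk
  congr 1
  omega

/-- The data used in the analysis. -/
structure Setting {ι W : Type*} [Group W] [Fintype W] (σ : ι → W) (s t : ι) where
  pair : Pair σ s t
  q : ι → ℝ
  two_le : ∀ i, 2 ≤ q i
  nat : ∀ i, ∃ n : ℕ, q i = n
  N : W → ℝ
  N_one : N 1 = 1
  N_up : ∀ i w, len pair.inv w < len pair.inv (σ i * w) → N (σ i * w) = q i * N w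
  rat : ∀ (F : W → ℝ) (μ : ℝ), F 1 = 1 → Radial σ s F →
    op pair q s (op pair q t F) = (fun w => μ * F w) → ∃ x : ℚ, (x : ℝ) = ∑ w, N w * F w ^ 2

variable {ι W : Type*} [Group W] [Fintype W] {σ : ι → W} {s t : ι} (A : Setting σ s t)

local notation "r" => rot σ s t

include A in
theorem index_unique {i j : ℤ} (hi : 2 * i.natAbs ≤ orderOf r) (hj : 2 * j.natAbs ≤ orderOf r)
    (h : r ^ i = r ^ j) : i.natAbs = j.natAbs := by
  have := dvd_small ((pow_eq_iff).mp h)
  omega

open Classical in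
/-- The radial function with the given values. -/
noncomputable def ext (u : ℕ → ℝ) (w : W) : ℝ := u (Classical.choose (exists_rep A.pair w)).natAbs

theorem ext_form (u : ℕ → ℝ) {w : W} {j : ℤ} (hj : 2 * j.natAbs ≤ orderOf r)
    (hw : w = r ^ j ∨ w = r ^ j * σ s) : ext A u w = u j.natAbs := by
  obtain ⟨hk, hw'⟩ := Classical.choose_spec (exists_rep A.pair w)
  unfold ext
  congr 1
  rcases hw with hw | hw <;> rcases hw' with hw' | hw'
  · exact index_unique A hk hj (hw'.symm.trans hw)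
  · exact absurd (hw.symm.trans hw') (pow_s_ne A.pair _ _)
  · exact absurd (hw'.symm.trans hw) (pow_s_ne A.pair _ _)
  · exact index_unique A hk hj (mul_right_cancel (hw'.symm.trans hw))

theorem ext_radial (u : ℕ → ℝ) : Radial σ s (ext A u) := by
  refine ⟨fun w => ?_, fun w => ?_⟩ <;> obtain ⟨j, hj, rfl | rfl⟩ := exists_rep A.pair w
  · rw [ext_form A u hj (.inl rfl), ext_form A u (j := -j) (by omega) (.inr (s_mul_pow A.pair j)), Int.natAbs_neg]
  · rw [ext_form A u hj (.inr rfl), ext_form A u (j := -j) (by omega) (.inl (s_mul_pow_s A.pair j)), Int.natAbs_neg]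
  · rw [ext_form A u hj (.inl rfl), ext_form A u hj (.inr rfl)]
  · rw [ext_form A u hj (.inr rfl), ext_form A u hj (.inl (by rw [mul_assoc, A.pair.inv.mul_self, mul_one]))]

/-- The contribution of the elements `r ^ i` and `r ^ i σ s`. -/
noncomputable def term (F : W → ℝ) (i : ℕ) : ℝ :=
  A.N (r ^ i) * F (r ^ i) ^ 2 + A.N (r ^ i * σ s) * F (r ^ i * σ s) ^ 2

theorem sum_eq (F : W → ℝ) :
    ∑ w, A.N w * F w ^ 2 = ∑ i ∈ Finset.range (orderOf r), term A F i := by
  rw [← (formEquiv A.pair).sum_comp, Fintype.sum_prod_type,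
    ← Fin.sum_univ_eq_sum_range (fun i => term A F i)]
  refine Finset.sum_congr rfl fun i _ => ?_
  rw [Fintype.sum_bool, add_comm]
  rfl

/-- The candidate values. -/
noncomputable def zz (B θ : ℝ) (k : ℕ) : ℝ := Real.cos (k * θ) + B * Real.sin (k * θ)

theorem zz_rec (B θ : ℝ) (k : ℕ) : zz B θ (k + 2) = 2 * Real.cos θ * zz B θ (k + 1) - zz B θ k := by
  unfold zz
  rw [show ((k + 2 : ℕ) : ℝ) * θ = (k + 1 : ℕ) * θ + θ by push_cast; ring,
    show ((k : ℕ) : ℝ) * θ = (k + 1 : ℕ) * θ - θ by push_cast; ring,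
    Real.cos_add, Real.sin_add, Real.cos_sub, Real.sin_sub]
  ring

/-- The first value. -/
noncomputable def z1v (a b g c : ℝ) : ℝ := g * (2 * g * c + b - 1) / ((1 + a) * b)

theorem weight_sum_odd {d : ℕ} (hd : orderOf r = 2 * d + 1) (u : ℕ → ℝ) (hu : u 0 = 1) :
    ∑ w, A.N w * ext A u w ^ 2 = (1 + A.q s) + (1 + A.q s) ^ 2 / A.q s *
      ∑ k ∈ Finset.range d, (A.q s * A.q t) ^ (k + 1) * u (k + 1) ^ 2 := by
  obtain ⟨hp, hs⟩ := weight_pow A.pair A.q A.N A.N_one A.N_up
  rw [sum_eq, hd, sum_split_odd]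
  congr 1
  · rw [term, pow_zero, one_mul, ext_form A u (j := 0) (by simp) (.inl (zpow_zero _).symm),
      ext_form A u (j := 0) (by simp) (.inr (by rw [zpow_zero, one_mul])), A.N_one]
    have := (hs 0 (by omega)).1
    simp only [Int.natCast_zero, zpow_zero, one_mul, pow_zero, mul_one] at this
    simp [this, hu]
  · rw [Finset.mul_sum]
    refine Finset.sum_congr rfl fun k hk => ?_
    rw [Finset.mem_range] at hk
    have e : r ^ (2 * d - k) = r ^ (-((k + 1 : ℕ) : ℤ)) := by
      rw [← zpow_natCast, pow_eq_iff, hd]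
      exact ⟨1, by omega⟩
    rw [term, term, e, ← zpow_natCast r (k + 1), (hp (k + 1) (by omega)).1, (hp (k + 1) (by omega)).2,
      (hs (k + 1) (by omega)).1, (hs k (by omega)).2, ext_form A u (by omega) (.inl rfl),
      ext_form A u (by omega) (.inl rfl), ext_form A u (by omega) (.inr rfl),
      ext_form A u (by omega) (.inr rfl), Int.natAbs_neg, Int.natAbs_natCast]
    have : A.q s ≠ 0 := by have := A.two_le s; linarith
    field_simp
    ring

theorem weight_sum_even {d : ℕ} (hd : orderOf r = 2 * d + 2) (u : ℕ → ℝ) (hu : u 0 = 1) :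
    ∑ w, A.N w * ext A u w ^ 2 = (1 + A.q s) +
      (1 + A.q s) / A.q s * ((A.q s * A.q t) ^ (d + 1) * u (d + 1) ^ 2) + (1 + A.q s) ^ 2 / A.q s *
      ∑ k ∈ Finset.range d, (A.q s * A.q t) ^ (k + 1) * u (k + 1) ^ 2 := by
  obtain ⟨hp, hs⟩ := weight_pow A.pair A.q A.N A.N_one A.N_up
  have hne : A.q s ≠ 0 := by have := A.two_le s; linarith
  rw [sum_eq, hd, sum_split_even]
  congr 1
  congr 1
  · rw [term, pow_zero, one_mul, ext_form A u (j := 0) (by simp) (.inl (zpow_zero _).symm),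
      ext_form A u (j := 0) (by simp) (.inr (by rw [zpow_zero, one_mul])), A.N_one]
    have := (hs 0 (by omega)).1
    simp only [Int.natCast_zero, zpow_zero, one_mul, pow_zero, mul_one] at this
    simp [this, hu]
  · have e : r ^ (d + 1) = r ^ (-((d + 1 : ℕ) : ℤ)) := by
      rw [← zpow_natCast, pow_eq_iff, hd]
      exact ⟨1, by omega⟩
    rw [term, e, (hp (d + 1) (by omega)).2, (hs d (by omega)).2, ext_form A u (by omega) (.inl rfl),
      ext_form A u (by omega) (.inr rfl), Int.natAbs_neg, Int.natAbs_natCast]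
    field_simp
    ring
  · rw [Finset.mul_sum]
    refine Finset.sum_congr rfl fun k hk => ?_
    rw [Finset.mem_range] at hk
    have e : r ^ (2 * d + 1 - k) = r ^ (-((k + 1 : ℕ) : ℤ)) := by
      rw [← zpow_natCast, pow_eq_iff, hd]
      exact ⟨1, by omega⟩
    rw [term, term, e, ← zpow_natCast r (k + 1), (hp (k + 1) (by omega)).1, (hp (k + 1) (by omega)).2,
      (hs (k + 1) (by omega)).1, (hs k (by omega)).2, ext_form A u (by omega) (.inl rfl),
      ext_form A u (by omega) (.inl rfl), ext_form A u (by omega) (.inr rfl),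
      ext_form A u (by omega) (.inr rfl), Int.natAbs_neg, Int.natAbs_natCast]
    field_simp
    ring

/-- Rationality of the norm of the radial eigenfunction attached to `u`. -/
theorem rat_of_tri (u : ℕ → ℝ) (μ : ℝ) (hu : u 0 = 1)
    (h : ∀ k, 2 * k ≤ orderOf r → tri (orderOf r) u (A.q s) (A.q t) k = μ * u k)
    (hwrap : ∀ d, orderOf r = 2 * d + 1 → u (d + 1) = u d) :
    ∃ x : ℚ, (x : ℝ) = ∑ w, A.N w * ext A u w ^ 2 := by
  have hval : ∀ k, 2 * k ≤ orderOf r + 1 → ext A u (r ^ k) = u k := by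
    intro k hk
    by_cases hk' : 2 * k ≤ orderOf r
    · rw [ext_form A u (j := k) (by omega) (.inl (zpow_natCast _ _).symm), Int.natAbs_natCast]
    · rcases k with _ | d
      · omega
      have hd : orderOf r = 2 * d + 1 := by omega
      rw [ext_form A u (j := -(d : ℤ)) (by omega) (.inl (by rw [← zpow_natCast, pow_eq_iff, hd]; exact ⟨1, by omega⟩)),
        Int.natAbs_neg, Int.natAbs_natCast, hwrap d hd]
  refine A.rat _ μ ?_ (ext_radial A u) ((op_op_eq_iff A.pair A.q (ext_radial A u) μ).mpr fun k hk => ?_)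
  · rw [← pow_zero r, hval 0 (by omega), hu]
  rw [hval k (by omega), ← h k hk]
  rcases k with _ | k
  · simp only [tri, vv]
    rw [hval 0 (by omega), hval 1 (by have := two_le_order A.pair; omega)]
  · simp only [tri, vv]
    split_ifs with hm
    · rw [hval k (by omega), hval (k + 1) (by omega)]
    · rw [hval k (by omega), hval (k + 1) (by omega), hval (k + 1 + 1) (by omega)]

theorem tri_inner (a b g c : ℝ) (hg : g ^ 2 = a * b) (hg0 : g ≠ 0) (z : ℕ → ℝ) (k : ℕ)
    (hz : z (k + 2) = 2 * c * z (k + 1) - z k) :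
    vv (fun n => z n / g ^ n) b k + a * vv (fun n => z n / g ^ n) b (k + 1) =
      (a + b + 2 * g * c) * (z (k + 1) / g ^ (k + 1)) := by
  simp only [vv]
  have : g ^ k ≠ 0 := pow_ne_zero _ hg0
  rw [show k + 1 + 1 = k + 2 by rfl, hz, pow_succ, pow_add g k 2, pow_two]
  field_simp
  linear_combination (z k - 2 * c * z (k + 1)) * hg

theorem odd_alg (a c D x : ℝ) (ha0 : a ≠ 0) (h1a : 1 + a ≠ 0) (hc2 : 1 - c ^ 2 ≠ 0)
    (hden : a ^ 2 - 2 * c * a + 1 ≠ 0)
    (hx : x = 1 + a + (1 + a) ^ 2 / a *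
      ((D * (((2 * a * c + a - 1) / (1 + a)) ^ 2 - 2 * c * ((2 * a * c + a - 1) / (1 + a)) + 1) +
        (((2 * a * c + a - 1) / (1 + a)) ^ 2 - 2 * c * ((2 * a * c + a - 1) / (1 + a)) + 1) /
          (a ^ 2 - 2 * c * a + 1) * (1 - c * a) -
        (1 - c * ((2 * a * c + a - 1) / (1 + a)))) / (2 * (1 - c ^ 2)))) :
    x * (2 * a * (1 - c)) = (2 * D + 1) * (1 + a ^ 2 - 2 * a * c) := by
  set Z := (2 * a * c + a - 1) / (1 + a) with hZ
  set E := a ^ 2 - 2 * c * a + 1 with hE
  have hI : Z ^ 2 - 2 * c * Z + 1 = E * (2 * (1 + c) / (1 + a) ^ 2) := by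
    rw [hZ, hE]; field_simp; ring
  rw [hI, mul_div_cancel_left₀ _ hden] at hx
  rw [hx, hZ, hE]
  field_simp
  ring

include A in
theorem odd_eq_three {d : ℕ} (hd : orderOf r = 2 * d + 1) : d = 1 := by
  have hm := two_le_order A.pair
  by_contra hne
  have hd2 : 2 ≤ d := by omega
  obtain ⟨-, hs⟩ := weight_pow A.pair A.q A.N A.N_one A.N_up
  have hab : A.q t = A.q s := by
    have e : r ^ (d : ℤ) * σ s = r ^ (-((d + 1 : ℕ) : ℤ)) * σ s := by
      rw [mul_left_inj, pow_eq_iff, hd]; exact ⟨1, by omega⟩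
    have h := (hs d (by omega)).1
    rw [e, (hs d (by omega)).2] at h
    have : (0 : ℝ) < (A.q s * A.q t) ^ d := by
      have := A.two_le s; have := A.two_le t; positivity
    exact mul_right_cancel₀ this.ne' h
  set a := A.q s with ha
  have ha2 : 2 ≤ a := A.two_le s
  set θ := 2 * π / (orderOf r : ℝ) with hθ
  have hmθ : (orderOf r : ℝ) * θ = 2 * π := by rw [hθ]; field_simp
  have hθ0 : 0 < θ := by positivity
  have hθ1 : θ < π := by
    rw [hθ, div_lt_iff₀ (by positivity)]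
    have : (5 : ℝ) ≤ orderOf r := by exact_mod_cast (show 5 ≤ orderOf r by omega)
    nlinarith [Real.pi_pos]
  set c := Real.cos θ with hcdef
  have hsin : 0 < Real.sin θ := Real.sin_pos_of_pos_of_lt_pi hθ0 hθ1
  have hc2 : 1 - c ^ 2 ≠ 0 := by rw [hcdef, ← Real.sin_sq]; positivity
  have hc1 : (1 : ℝ) - c ≠ 0 := fun h => hc2 (by rw [show c = 1 by linarith]; ring)
  set B := (a - 1) * (c + 1) / ((1 + a) * Real.sin θ) with hB
  set z := zz B θ with hzdef
  have hz0 : z 0 = 1 := by simp [hzdef, zz]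
  have hz1 : z 1 = (2 * a * c + a - 1) / (1 + a) := by
    rw [hzdef, zz, hB, Nat.cast_one, one_mul, ← hcdef]
    field_simp
    ring
  have hend : z (d + 1) = a * z d := by
    have e : ((d + 1 : ℕ) : ℝ) * θ = 2 * π - d * θ := by
      rw [← hmθ, hd]; push_cast; ring
    have hs2 : Real.sin ((d : ℝ) * θ + θ) = - Real.sin (d * θ) := by
      rw [show (d : ℝ) * θ + θ = 2 * π - d * θ by rw [← e]; push_cast; ring, Real.sin_two_pi_sub]
    rw [Real.sin_add, ← hcdef] at hs2
    rw [hzdef, zz, zz, e, Real.cos_two_pi_sub, Real.sin_two_pi_sub, hB]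
    field_simp
    linear_combination ((1 - a) * (1 + a)) * hs2
  set u : ℕ → ℝ := fun n => z n / a ^ n with hu
  have ha0 : a ≠ 0 := by linarith
  have htri : ∀ k, 2 * k ≤ orderOf r → tri (orderOf r) u a a k = (2 * a + 2 * a * c) * u k := by
    intro k hk
    rcases k with _ | k
    · simp only [tri, vv, hu, hz0, hz1, pow_zero, pow_one]
      field_simp
      ring
    · rw [tri, if_neg (by omega)]
      rw [tri_inner a a a c (by ring) ha0 z k (zz_rec B θ k)]
      rw [hu]
      ring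
  obtain ⟨x, hx⟩ := rat_of_tri A u (2 * a + 2 * a * c) (by simp [hu, hz0]) (by rw [hab]; exact htri) (by
    intro d' hd'
    have : d' = d := by omega
    subst this
    simp only [hu, hend, pow_succ]
    field_simp)
  rw [weight_sum_odd A hd u (by simp [hu, hz0]), hab, ← ha] at hx
  have hsq : ∀ k, (a * a) ^ k * u k ^ 2 = z k ^ 2 := by
    intro k
    simp only [hu, div_pow, ← pow_mul, mul_pow, ← pow_add]
    field_simp
    ring
  rw [Finset.sum_congr rfl fun k _ => hsq (k + 1)] at hx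
  obtain ⟨hI, hsum⟩ := sum_sq c z (zz_rec B θ) hc2 hz0 d
  rw [hsum, hend] at hx
  have hI' := hI d
  rw [hend] at hI'
  set J := z 1 ^ 2 - 2 * c * z 1 + 1 with hJ
  have hden : a ^ 2 - 2 * c * a + 1 ≠ 0 := by nlinarith [Real.cos_le_one θ, sq_nonneg (a - 1)]
  have hzd : z d ^ 2 = J / (a ^ 2 - 2 * c * a + 1) := by
    rw [eq_div_iff hden]; linear_combination hI'
  rw [show z d ^ 2 - c * z d * (a * z d) = z d ^ 2 * (1 - c * a) by ring, hzd, hJ, hz1] at hx
  have hval : (x : ℝ) * (2 * a * (1 - c)) = (orderOf r : ℝ) * (1 + a ^ 2 - 2 * a * c) := by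
    have h := odd_alg a c d x ha0 (by linarith) hc2 hden (by linear_combination hx)
    rw [hd]
    push_cast
    linear_combination h
  have hrat : ∃ q : ℚ, Real.cos θ = q := by
    obtain ⟨n, hn⟩ := A.nat s
    rw [← ha] at hn
    have hne1 : (x : ℝ) * (2 * a) - (orderOf r : ℝ) * (2 * a) ≠ 0 := by
      intro h0
      have h1 : (orderOf r : ℝ) * (a - 1) ^ 2 = 0 := by linear_combination hval.symm + (1 - c) * h0
      rcases mul_eq_zero.mp h1 with h | h
      · exact absurd h (Nat.cast_ne_zero.mpr (by omega))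
      · nlinarith
    refine ⟨(x * (2 * n) - (orderOf r : ℚ) * (1 + (n : ℚ) ^ 2)) / (x * (2 * n) - (orderOf r : ℚ) * (2 * n)), ?_⟩
    push_cast
    rw [← hn, eq_div_iff hne1, ← hcdef]
    linear_combination -hval
  have hirr : Irrational (Real.cos ((((2 : ℚ) / (orderOf r : ℚ)) : ℚ) * π)) := by
    refine irrational_cos_rat_mul_pi ?_
    have e : ((2 : ℚ) / (orderOf r : ℚ)).den = orderOf r := by
      have := Rat.den_div_eq_of_coprime (a := 2) (b := (orderOf r : ℤ)) (by omega)
        (by simp only [Int.natAbs_natCast]; exact (Nat.coprime_two_left.mpr ⟨d, hd⟩))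
      simp only [Int.cast_ofNat, Int.cast_natCast, Nat.cast_inj] at this
      exact this
    omega
  apply hirr
  obtain ⟨q, hq⟩ := hrat
  refine ⟨q, ?_⟩
  rw [← hq, hθ]
  push_cast
  congr 1
  ring

theorem even_alg (a b g c D x : ℝ) (ha0 : a ≠ 0) (hb0 : b ≠ 0) (h1a : 1 + a ≠ 0) (hg : g ^ 2 = a * b)
    (hc2 : 1 - c ^ 2 ≠ 0)
    (hx : x = 1 + a + (1 + a) / a * 1 + (1 + a) ^ 2 / a *
      ((D * (z1v a b g c ^ 2 - 2 * c * z1v a b g c + 1) + ((2 * c - z1v a b g c) ^ 2 - c * (2 * c - z1v a b g c)) -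
        (1 - c * z1v a b g c)) / (2 * (1 - c ^ 2)))) :
    x * (4 * a * b - (2 * g * c) ^ 2) =
      2 * (D + 1) * ((a + b) * (1 + a * b) + (a - 1) * (b - 1) * (2 * g * c) - (2 * g * c) ^ 2) := by
  set Z := z1v a b g c with hZ
  set I := Z ^ 2 - 2 * c * Z + 1 with hI
  have h1 : x = (1 + a) ^ 2 / a * (D + 1) * I / (2 * (1 - c ^ 2)) := by
    rw [hx, hI]; field_simp; ring
  have hZ' : Z * ((1 + a) * b) = g * (2 * g * c + b - 1) := by
    rw [hZ, z1v, div_mul_cancel₀ _ (mul_ne_zero h1a hb0)]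
  have h2 : b * (1 + a) ^ 2 * I =
      a * (2 * g * c + b - 1) ^ 2 - 2 * c * g * (2 * g * c + b - 1) * (1 + a) + b * (1 + a) ^ 2 := by
    apply mul_left_cancel₀ hb0
    rw [hI]
    linear_combination (Z * ((1 + a) * b) + g * (2 * g * c + b - 1) - 2 * c * b * (1 + a)) * hZ' +
      (2 * g * c + b - 1) ^ 2 * hg
  have h4 : 4 * a * b - (2 * g * c) ^ 2 = 4 * a * b * (1 - c ^ 2) := by linear_combination (-4 * c ^ 2) * hg
  have h5 : x * (4 * a * b - (2 * g * c) ^ 2) = 2 * (D + 1) * (b * (1 + a) ^ 2 * I) := by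
    rw [h4, h1]; field_simp; ring
  rw [h5, h2]
  ring

/-- The norm in the even case. -/
theorem even_norm {d : ℕ} (hd : orderOf r = 2 * d + 2) (j : ℕ) (hj : 0 < j) (hj' : j < d + 1) :
    ∃ x : ℚ, (x : ℝ) * (4 * A.q s * A.q t - (2 * √(A.q s * A.q t) * Real.cos (j * π / (d + 1))) ^ 2) =
      (A.q s + A.q t) * (1 + A.q s * A.q t) +
        (A.q s - 1) * (A.q t - 1) * (2 * √(A.q s * A.q t) * Real.cos (j * π / (d + 1))) -
        (2 * √(A.q s * A.q t) * Real.cos (j * π / (d + 1))) ^ 2 := by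
  set a := A.q s with ha
  set b := A.q t with hb
  have ha2 : 2 ≤ a := A.two_le s
  have hb2 : 2 ≤ b := A.two_le t
  set g := √(a * b) with hgdef
  have hg : g ^ 2 = a * b := Real.sq_sqrt (by positivity)
  have hg0 : g ≠ 0 := by positivity
  set θ := (j : ℝ) * π / (d + 1) with hθ
  have hdθ : ((d + 1 : ℕ) : ℝ) * θ = j * π := by rw [hθ]; push_cast; field_simp
  have hθ0 : 0 < θ := by positivity
  have hθ1 : θ < π := by
    rw [hθ, div_lt_iff₀ (by positivity), mul_comm π]
    have : (j : ℝ) < d + 1 := by exact_mod_cast hj'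
    exact mul_lt_mul_of_pos_right this Real.pi_pos
  set c := Real.cos θ with hcdef
  have hsin : 0 < Real.sin θ := Real.sin_pos_of_pos_of_lt_pi hθ0 hθ1
  have hc2 : 1 - c ^ 2 ≠ 0 := by rw [hcdef, ← Real.sin_sq]; positivity
  set B := (z1v a b g c - c) / Real.sin θ with hB
  set z := zz B θ with hzdef
  have hz0 : z 0 = 1 := by simp [hzdef, zz]
  have hz1 : z 1 = z1v a b g c := by
    rw [hzdef, zz, hB, Nat.cast_one, one_mul, ← hcdef]
    field_simp
    ring
  set ε := Real.cos (j * π) with hε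
  have hε2 : ε ^ 2 = 1 := by rw [hε, Real.cos_sq', Real.sin_nat_mul_pi]; ring
  have hzd : z (d + 1) = ε := by
    rw [hzdef, zz, hdθ, Real.sin_nat_mul_pi, hε]; ring
  have hzd1 : z (d + 1 + 1) = ε * z 1 := by
    have e : ((d + 1 + 1 : ℕ) : ℝ) * θ = j * π + θ := by rw [← hdθ]; push_cast; ring
    rw [hzdef, zz, zz, e, Real.cos_add, Real.sin_add, Real.sin_nat_mul_pi, hε, Nat.cast_one, one_mul]
    ring
  have hzd' : z d = ε * (2 * c - z 1) := by
    have := zz_rec B θ d
    rw [← hzdef, ← hcdef, hzd1, hzd] at this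
    linarith
  set u : ℕ → ℝ := fun n => z n / g ^ n with hu
  have hrec : ∀ k, z (k + 2) = 2 * c * z (k + 1) - z k := zz_rec B θ
  have htri : ∀ k, 2 * k ≤ orderOf r → tri (orderOf r) u a b k = (a + b + 2 * g * c) * u k := by
    intro k hk
    rcases k with _ | k
    · simp only [tri, vv, hu, hz0, hz1, z1v, pow_zero, pow_one]
      field_simp
      ring
    · by_cases hm : 2 * (k + 1) = orderOf r
      · have : k = d := by omega
        subst this
        rw [tri, if_pos hm]
        simp only [vv, hu, hzd, hzd', hz1, z1v, pow_succ]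
        field_simp
        linear_combination (ε * (1 - b - 2 * g * c)) * hg
      · rw [tri, if_neg hm]
        exact tri_inner a b g c hg hg0 z k (hrec k)
  obtain ⟨x, hx⟩ := rat_of_tri A u (a + b + 2 * g * c) (by simp [hu, hz0]) htri (by intro d' hd'; omega)
  rw [weight_sum_even A hd u (by simp [hu, hz0]), ← ha, ← hb] at hx
  have hsq : ∀ k, (a * b) ^ k * u k ^ 2 = z k ^ 2 := by
    intro k
    simp only [hu, div_pow, ← hg, ← pow_mul, Nat.mul_comm 2 k]
    field_simp
  rw [Finset.sum_congr rfl fun k _ => hsq (k + 1), hsq] at hx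
  obtain ⟨-, hsum⟩ := sum_sq c z hrec hc2 hz0 d
  rw [hsum, hzd, hzd', hz1, hε2, show (ε * (2 * c - z1v a b g c)) ^ 2 - c * (ε * (2 * c - z1v a b g c)) * ε =
    (2 * c - z1v a b g c) ^ 2 - c * (2 * c - z1v a b g c) by
      linear_combination ((2 * c - z1v a b g c) ^ 2 - c * (2 * c - z1v a b g c)) * hε2] at hx
  refine ⟨x / (2 * (d + 1)), ?_⟩
  push_cast
  have h := even_alg a b g c d x (by linarith) (by linarith) (by linarith) hg hc2 hx
  rw [div_mul_eq_mul_div, div_eq_iff (by positivity)]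
  linear_combination h

/-- Both signs give rational values only at rational points. -/
theorem rat_of_two {a b : ℚ} (ha : 2 ≤ a) (hb : 2 ≤ b) {u : ℝ} {x y : ℚ}
    (hx : (x : ℝ) * (4 * a * b - u ^ 2) = (a + b) * (1 + a * b) + (a - 1) * (b - 1) * u - u ^ 2)
    (hy : (y : ℝ) * (4 * a * b - u ^ 2) = (a + b) * (1 + a * b) - (a - 1) * (b - 1) * u - u ^ 2) :
    ∃ w : ℚ, (w : ℝ) = u := by
  have hR : 4 * a * b < (a + b) * (1 + a * b) := by nlinarith [mul_le_mul ha hb (by norm_num) (by linarith)]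
  have hne : (2 : ℝ) - x - y ≠ 0 := by
    intro h0
    have h1 : (2 : ℝ) * (4 * a * b) = 2 * ((a + b) * (1 + a * b)) := by
      linear_combination hx + hy + (4 * (a : ℝ) * b - u ^ 2) * h0
    have : (4 : ℚ) * a * b = (a + b) * (1 + a * b) := by
      have h2 : (4 : ℝ) * a * b = (a + b) * (1 + a * b) := by linarith
      exact_mod_cast h2
    linarith
  set X : ℚ := (2 * ((a + b) * (1 + a * b)) - (x + y) * (4 * a * b)) / (2 - x - y) with hX
  have hu2 : (X : ℝ) = u ^ 2 := by
    rw [hX]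
    push_cast
    rw [div_eq_iff hne]
    linear_combination -(hx + hy)
  refine ⟨(x * (4 * a * b - X) - (a + b) * (1 + a * b) + X) / ((a - 1) * (b - 1)), ?_⟩
  push_cast
  rw [hu2]
  have h1 : (a : ℝ) - 1 ≠ 0 := by
    have : (2 : ℝ) ≤ a := by exact_mod_cast ha
    linarith
  have h2 : (b : ℝ) - 1 ≠ 0 := by
    have : (2 : ℝ) ≤ b := by exact_mod_cast hb
    linarith
  rw [div_eq_iff (mul_ne_zero h1 h2)]
  linear_combination hx

include A in
theorem even_small {d : ℕ} (hd : orderOf r = 2 * d + 2) : d ≤ 3 := by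
  by_contra hne
  obtain ⟨na, hna⟩ := A.nat s
  obtain ⟨nb, hnb⟩ := A.nat t
  set g := √(A.q s * A.q t) with hg
  have key : ∀ j : ℕ, 0 < j → j < d + 1 → ∃ w : ℚ, (w : ℝ) = 2 * g * Real.cos (j * π / (d + 1)) := by
    intro j hj hj'
    obtain ⟨x, hx⟩ := even_norm A hd j hj hj'
    obtain ⟨y, hy⟩ := even_norm A hd (d + 1 - j) (by omega) (by omega)
    have e : Real.cos (((d + 1 - j : ℕ) : ℝ) * π / (d + 1)) = - Real.cos (j * π / (d + 1)) := by
      rw [← Real.cos_pi_sub, Nat.cast_sub hj'.le]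
      congr 1
      push_cast
      field_simp
    rw [e] at hy
    rw [← hg] at hx hy
    have h2a := A.two_le s
    have h2b := A.two_le t
    rw [hna] at hx hy h2a
    rw [hnb] at hx hy h2b
    refine rat_of_two (a := (na : ℚ)) (b := (nb : ℚ)) (x := x) (y := y) (by exact_mod_cast h2a)
      (by exact_mod_cast h2b) ?_ ?_
    · push_cast; linear_combination hx
    · push_cast; linear_combination hy
  obtain ⟨u1, hu1⟩ := key 1 one_pos (by omega)
  obtain ⟨u2, hu2⟩ := key 2 two_pos (by omega)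
  set c := Real.cos ((1 : ℕ) * π / (d + 1)) with hc
  have hc2 : Real.cos ((2 : ℕ) * π / (d + 1)) = 2 * c ^ 2 - 1 := by
    rw [hc, ← Real.cos_two_mul]; congr 1; push_cast; ring
  have hD : (5 : ℝ) ≤ d + 1 := by exact_mod_cast (show 5 ≤ d + 1 by omega)
  have hpos2 : 0 < Real.cos ((2 : ℕ) * π / (d + 1)) := by
    refine Real.cos_pos_of_mem_Ioo ⟨?_, ?_⟩
    · have : (0 : ℝ) < (2 : ℕ) * π / (d + 1) := by positivity
      linarith [Real.pi_pos]
    · rw [div_lt_iff₀ (by positivity)]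
      push_cast
      nlinarith [Real.pi_pos]
  have hg2 : g ^ 2 = (na : ℝ) * nb := by
    rw [hg, hna, hnb]; exact Real.sq_sqrt (by positivity)
  have hab : (na : ℝ) * nb ≠ 0 := by
    have h2a := A.two_le s
    have h2b := A.two_le t
    rw [hna] at h2a
    rw [hnb] at h2b
    positivity
  have hg0 : g ≠ 0 := fun h => hab (by rw [← hg2, h]; ring)
  set X : ℚ := u1 ^ 2 / (4 * (na * nb)) with hX
  have hcX : (X : ℝ) = c ^ 2 := by
    rw [hX]; push_cast; rw [hu1, div_eq_iff (by positivity)]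
    linear_combination 4 * c ^ 2 * hg2
  have hgrat : g = ((u2 / (2 * (2 * X - 1)) : ℚ) : ℝ) := by
    push_cast
    rw [hu2, hc2, hcX]
    have : 2 * c ^ 2 - 1 ≠ 0 := by rw [← hc2]; exact hpos2.ne'
    field_simp
  have hirr : Irrational (Real.cos ((((1 : ℚ) / ((d + 1 : ℕ) : ℚ)) : ℚ) * π)) := by
    refine irrational_cos_rat_mul_pi ?_
    have e : ((1 : ℚ) / ((d + 1 : ℕ) : ℚ)).den = d + 1 := by
      rw [one_div, Rat.inv_natCast_den, if_neg (by omega)]
    omega
  apply hirr
  refine ⟨u1 / (2 * (u2 / (2 * (2 * X - 1)))), ?_⟩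
  rw [Rat.cast_div, Rat.cast_mul, ← hgrat, hu1]
  push_cast
  rw [show Real.cos (1 / ((d : ℝ) + 1) * π) = c by rw [hc]; congr 1; push_cast; ring]
  field_simp

include A in
theorem order_mem : orderOf r ∈ ({2, 3, 4, 6, 8} : Set ℕ) := by
  have hm := two_le_order A.pair
  simp only [Set.mem_insert_iff, Set.mem_singleton_iff]
  rcases Nat.even_or_odd' (orderOf r) with ⟨d, hd | hd⟩
  · rcases d with _ | d
    · omega
    · have := even_small A (d := d) (by omega)
      omega
  · have := odd_eq_three A hd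
    omega

end CfsgLib.BNPair.FeitHigman

namespace CfsgLib.BNPair.FeitHigman

open CfsgLib.BNPair.Exchange CfsgLib.BNPair.Basic CfsgLib.BNPair.Dihedral CfsgLib.BNPair.Count

/-- Feit–Higman. -/
theorem feit_higman {G : Type*} [Group G] [Finite G] (P : Cfsg.BNPair G) (h2 : P.rank = 2) :
    Nat.card (W P) ∈ ({4, 6, 8, 12, 16} : Set ℕ) := by
  obtain ⟨s, t, hst, huniv⟩ := Nat.card_eq_two_iff.mp h2
  have hP : Pair (σ P) s t := by
    refine ⟨fun i => ?_, fun h => hst (σ_inj P h), σ_ne_one P s, σ_ne_one P t, isInvGen P⟩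
    have : i ∈ ({s, t} : Set P.S) := by rw [huniv]; trivial
    simpa using this
  let A : Setting (σ P) s t :=
    { pair := hP
      q := par P
      two_le := two_le_par P
      nat := fun i => ⟨_, rfl⟩
      N := fun w => weight P w
      N_one := by rw [weight_one P hP, Nat.cast_one]
      N_up := fun i w h => weight_up P hP i w h
      rat := fun F μ h1 hF h => spherical_rational P hP F μ h1 hF h }
  rw [card_eq hP]
  have h := order_mem A
  simp only [Set.mem_insert_iff, Set.mem_singleton_iff] at h ⊢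
  omega

end CfsgLib.BNPair.FeitHigman
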