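import Cfsg.Agent.Lib.BNPair.SylowFixed
import Cfsg.Prelude.Def_LocalEven

/-!
`p`-minimal groups with a normal subgroup `K`: if no proper set of minimal overgroups of `B = N_K(U)` generates `K`,
then `N(U)` is maximal and the Sylow subgroup permutes the minimal overgroups transitively.
-/

set_option autoImplicit false

namespace CfsgLib.BNPair.PMinimal

open CfsgLib.BNPair.Exchange CfsgLib.BNPair.Basic CfsgLib.BNPair.Parabolic CfsgLib.BNPair.SylowFixed

variable {p : ℕ}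

/-- The minimal overgroups of a subgroup. -/
def above {K : Type*} [Group K] (B : Subgroup K) : Set (Subgroup K) := {A | B ⋖ A}

theorem above_map {K : Type*} [Group K] {B : Subgroup K} (α : MulAut K) (hB : B.map α.toMonoidHom = B)
    {A : Subgroup K} (hA : A ∈ above B) : A.map α.toMonoidHom ∈ above B := by
  have h := (apply_covBy_apply_iff (MulEquiv.mapSubgroup α)).mpr hA
  show B ⋖ A.map α.toMonoidHom
  rw [← hB]
  exact h

/-- A Sylow subgroup is fixed by every automorphism fixing its normaliser. -/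
theorem map_sylow_of_normalizer {K : Type*} [Group K] (U : Sylow p K) (α : MulAut K)
    (h : (Subgroup.normalizer ((U : Subgroup K) : Set K)).map α.toMonoidHom ≤
      Subgroup.normalizer ((U : Subgroup K) : Set K)) :
    (U : Subgroup K).map α.toMonoidHom = U := by
  have h1 : IsPGroup p ↥((U : Subgroup K).map α.toMonoidHom ⊔ (U : Subgroup K)) :=
    (U.2.map _).to_sup_of_normal_right' U.2 ((Subgroup.map_mono Subgroup.le_normalizer).trans h)
  have h2 : (U : Subgroup K).map α.toMonoidHom ≤ U := le_sup_left.trans (U.3 h1 le_sup_right).le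
  refine le_antisymm h2 ?_
  have h3 : (U : Subgroup K) ≤ (U : Subgroup K).comap α.toMonoidHom := Subgroup.map_le_iff_le_comap.mp h2
  have h4 := U.3 (U.2.comap_of_injective α.toMonoidHom α.injective) h3
  intro x hx
  exact ⟨α.symm x, h4.le (by simpa using hx), α.apply_symm_apply x⟩

section Abstract

variable {X : Type*} [Group X] {K : Subgroup X} [hKn : K.Normal]

theorem coe_conjNormal (g : X) (k : ↥K) : ((MulAut.conjNormal g k : ↥K) : X) = g * k * g⁻¹ :=
  MulAut.conjNormal_apply g k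

/-- The automorphism of `K` of an element normalising the image of `A` preserves `A`. -/
theorem map_of_mem_normalizer {A : Subgroup ↥K} {g : X}
    (hg : g ∈ Subgroup.normalizer ((A.map K.subtype : Subgroup X) : Set X)) :
    A.map (MulAut.conjNormal g : MulAut ↥K).toMonoidHom = A := by
  ext x
  constructor
  · rintro ⟨a, ha, rfl⟩
    obtain ⟨b, hb, hbe⟩ := (Subgroup.mem_normalizer_iff.mp hg (a : X)).mp ⟨a, ha, rfl⟩
    have : b = MulAut.conjNormal g a := Subtype.ext (by rw [coe_conjNormal]; exact hbe)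
    exact this ▸ hb
  · intro hx
    refine ⟨(MulAut.conjNormal g : MulAut ↥K).symm x, ?_, MulEquiv.apply_symm_apply _ _⟩
    obtain ⟨b, hb, hbe⟩ := (Subgroup.mem_normalizer_iff.mp (inv_mem hg) (x : X)).mp ⟨x, hx, rfl⟩
    have : b = (MulAut.conjNormal g : MulAut ↥K).symm x :=
      Subtype.ext (by rw [MulAut.conjNormal_symm_apply]; simpa using hbe)
    exact this ▸ hb

theorem mem_normalizer_of_map {A : Subgroup ↥K} {g : X}
    (h : A.map (MulAut.conjNormal g : MulAut ↥K).toMonoidHom = A) :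
    g ∈ Subgroup.normalizer ((A.map K.subtype : Subgroup X) : Set X) := by
  refine Subgroup.mem_normalizer_iff.mpr fun x => ⟨?_, ?_⟩
  · rintro ⟨a, ha, rfl⟩
    exact ⟨MulAut.conjNormal g a, by rw [SetLike.mem_coe, ← h]; exact ⟨a, ha, rfl⟩, coe_conjNormal g a⟩
  · rintro ⟨b, hb, hbe⟩
    rw [SetLike.mem_coe, ← h] at hb
    obtain ⟨a, ha, rfl⟩ := hb
    refine ⟨a, ha, ?_⟩
    have h1 : g * (a : X) * g⁻¹ = g * x * g⁻¹ := (coe_conjNormal g a).symm.trans hbe
    exact mul_left_cancel (mul_right_cancel h1)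

variable [Finite X] [Fact p.Prime]

variable (hX : Cfsg.IsPMinimal p X) (U : Sylow p ↥K)
  (hB : Subgroup.normalizer ((U : Subgroup ↥K) : Set ↥K) ≠ ⊤)

/-- The normaliser in `X` of a Sylow subgroup of `K`. -/
abbrev NX (U : Sylow p ↥K) : Subgroup X :=
  Subgroup.normalizer (((U : Subgroup ↥K).map K.subtype : Subgroup X) : Set X)

/-- The normaliser in `K` of a Sylow subgroup of `K`. -/
abbrev NK (U : Sylow p ↥K) : Subgroup ↥K := Subgroup.normalizer ((U : Subgroup ↥K) : Set ↥K)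

omit [Finite X] [Fact p.Prime] in
theorem map_normalizer_of_mem {g : X} (hg : g ∈ (NX U)) :
    (NK U).map (MulAut.conjNormal g : MulAut ↥K).toMonoidHom = (NK U) := by
  rw [Subgroup.map_equiv_normalizer_eq, map_of_mem_normalizer hg]

omit [Fact p.Prime] in
theorem exists_sylow_over : ∃ S : Sylow p X, (U : Subgroup ↥K).map K.subtype ≤ S ∧
    (S : Subgroup X) ≤ (NX U) ∧ ∀ x ∈ (S : Subgroup X), ∀ h : x ∈ K, (⟨x, h⟩ : ↥K) ∈ (U : Subgroup ↥K) := by
  obtain ⟨S, hS⟩ := (U.2.map K.subtype).exists_le_sylow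
  have hU : ((S : Subgroup X).comap K.subtype) = U :=
    U.3 S.2.comap_subtype fun u hu => hS ⟨u, hu, rfl⟩
  refine ⟨S, hS, fun g hg => ?_, fun x hx h => hU.le hx⟩
  refine mem_normalizer_of_map (le_antisymm ?_ ?_)
  · rintro _ ⟨u, hu, rfl⟩
    refine hU.le ?_
    show ((MulAut.conjNormal g u : ↥K) : X) ∈ (S : Subgroup X)
    rw [coe_conjNormal]
    exact mul_mem (mul_mem hg (hS ⟨u, hu, rfl⟩)) (inv_mem hg)
  · intro u hu
    refine ⟨(MulAut.conjNormal g : MulAut ↥K).symm u, hU.le ?_, MulEquiv.apply_symm_apply _ _⟩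
    show (((MulAut.conjNormal g : MulAut ↥K).symm u : ↥K) : X) ∈ (S : Subgroup X)
    rw [MulAut.conjNormal_symm_apply]
    exact mul_mem (mul_mem (inv_mem hg) (hS ⟨u, hu, rfl⟩)) hg

include hX hB in
/-- Two proper overgroups of `U` invariant under a Sylow subgroup do not generate `K`. -/
theorem sup_ne_top {ι : Type*} (Y : ι → Subgroup ↥K) {S : Sylow p X}
    (hU : ∀ x ∈ (S : Subgroup X), ∀ h : x ∈ K, (⟨x, h⟩ : ↥K) ∈ (U : Subgroup ↥K))
    (hS : (S : Subgroup X) ≤ (NX U)) {M : Subgroup X} (hM : IsCoatom M ∧ (S : Subgroup X) ≤ M)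
    (hle : ∀ i, (U : Subgroup ↥K) ≤ Y i) (hne : ∀ i, Y i ≠ ⊤)
    (hinv : ∀ i, ∀ g ∈ (S : Subgroup X), (Y i).map (MulAut.conjNormal g : MulAut ↥K).toMonoidHom = Y i) :
    (NX U) ≤ M ∧ M.subgroupOf K ≠ ⊤ ∧ ∀ i, Y i ≤ M.subgroupOf K := by
  have huniq : ∀ L : Subgroup X, L ≠ ⊤ → (S : Subgroup X) ≤ L → L ≤ M := by
    intro L hL hSL
    obtain ⟨M', hM', hle'⟩ := (eq_top_or_exists_le_coatom L).resolve_left hL
    exact (hX S).2.unique ⟨hM', hSL.trans hle'⟩ hM ▸ hle'
  have hN : (NX U) ≠ ⊤ := fun h => hB (eq_top_iff.mpr fun k _ => by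
    refine Subgroup.mem_normalizer_iff.mpr fun u => ?_
    have h1 := Subgroup.mem_normalizer_iff.mp (h.symm ▸ Subgroup.mem_top (k : X) : (k : X) ∈ (NX U)) (u : X)
    rw [show (k : X) * u * (k : X)⁻¹ = ((k * u * k⁻¹ : ↥K) : X) from rfl] at h1
    exact ⟨fun hu => (Subgroup.mem_map_iff_mem K.subtype_injective).mp (h1.mp ⟨u, hu, rfl⟩),
      fun hu => (Subgroup.mem_map_iff_mem K.subtype_injective).mp (h1.mpr ⟨_, hu, rfl⟩)⟩)
  have hNM := huniq _ hN hS
  have hKM : ¬ K ≤ M := fun h => hM.1.1 (eq_top_iff.mpr (by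
    rw [← Sylow.normalizer_sup_eq_top U]
    exact sup_le hNM h))
  refine ⟨hNM, fun h => hKM (Subgroup.subgroupOf_eq_top.mp h), fun i => ?_⟩
  have hnorm : (S : Subgroup X) ≤ Subgroup.normalizer (((Y i).map K.subtype : Subgroup X) : Set X) :=
    fun g hg => mem_normalizer_of_map (hinv i g hg)
  have hL : (S : Subgroup X) ⊔ (Y i).map K.subtype ≠ ⊤ := by
    intro h
    refine hne i (eq_top_iff.mpr fun k _ => ?_)
    have hk : (k : X) ∈ (↑((S : Subgroup X) ⊔ (Y i).map K.subtype) : Set X) := by rw [h]; trivial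
    rw [Subgroup.coe_mul_of_left_le_normalizer_right _ _ hnorm] at hk
    obtain ⟨s, hs, _, ⟨y, hy, rfl⟩, he⟩ := Set.mem_mul.mp hk
    have hsK : s ∈ K := by
      rw [eq_mul_inv_of_mul_eq he]
      exact mul_mem k.2 (inv_mem y.2)
    rw [show k = ⟨s, hsK⟩ * y from Subtype.ext he.symm]
    exact mul_mem (hle i (hU s hs hsK)) hy
  intro y hy
  exact (le_sup_right.trans (huniq _ hL le_sup_left)) ⟨y, hy, rfl⟩

include hX hB in
/-- Two invariant proper overgroups of `U` generating `K` are impossible. -/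
theorem false_of_two (Y Y' : Subgroup ↥K) (hY : (U : Subgroup ↥K) ≤ Y) (hY' : (U : Subgroup ↥K) ≤ Y')
    (hne : Y ≠ ⊤) (hne' : Y' ≠ ⊤) (hgen : Y ⊔ Y' = ⊤)
    (hinv : ∀ g : X, (∃ k : ℕ, g ^ p ^ k = 1) → g ∈ (NX U) →
      Y.map (MulAut.conjNormal g : MulAut ↥K).toMonoidHom = Y ∧
        Y'.map (MulAut.conjNormal g : MulAut ↥K).toMonoidHom = Y') : False := by
  obtain ⟨S, -, hSN, hU⟩ := exists_sylow_over U
  obtain ⟨M, hM, -⟩ := (hX S).2
  have hg : ∀ g ∈ (S : Subgroup X), ∃ k : ℕ, g ^ p ^ k = 1 := fun g hg => by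
    obtain ⟨k, hk⟩ := S.2 ⟨g, hg⟩
    exact ⟨k, congrArg Subtype.val hk⟩
  obtain ⟨-, h1, h2⟩ := sup_ne_top hX U hB (fun b => cond b Y Y') hU hSN hM
    (fun b => by cases b <;> assumption) (fun b => by cases b <;> assumption) (fun b g h => by
      obtain ⟨a, a'⟩ := hinv g (hg g h) (hSN h)
      cases b <;> assumption)
  exact h1 (eq_top_iff.mpr (hgen ▸ sup_le (h2 true) (h2 false)))

include hX hB in
/-- The main step. -/
theorem coatom_and_trans (hgen : (NK U) ⊔ sSup (above (NK U)) = ⊤)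
    (hspan : ∀ C ⊆ above (NK U), C ≠ above (NK U) → (NK U) ⊔ sSup C ≠ ⊤) :
    IsCoatom (NX U) ∧ ∀ A ∈ above (NK U), ∀ A' ∈ above (NK U), ∃ g : X, g ∈ (NX U) ∧ (∃ k : ℕ, g ^ p ^ k = 1) ∧
      A.map (MulAut.conjNormal g : MulAut ↥K).toMonoidHom = A' := by
  obtain ⟨S, -, hSN, hU⟩ := exists_sylow_over U
  obtain ⟨M, hM, -⟩ := (hX S).2
  let O : above (NK U) → Set (Subgroup ↥K) := fun A =>
    (fun g : ↥(S : Subgroup X) => A.1.map (MulAut.conjNormal (g : X) : MulAut ↥K).toMonoidHom) '' Set.univ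
  have hO : ∀ A, O A ⊆ above (NK U) := by
    rintro A _ ⟨g, -, rfl⟩
    exact above_map _ (map_normalizer_of_mem U (hSN g.2)) A.2
  have hOinv : ∀ A, ∀ g ∈ (S : Subgroup X),
      ((NK U) ⊔ sSup (O A)).map (MulAut.conjNormal g : MulAut ↥K).toMonoidHom = (NK U) ⊔ sSup (O A) := by
    intro A g hg
    rw [Subgroup.map_sup, map_normalizer_of_mem U (hSN hg)]
    congr 1
    rw [sSup_eq_iSup, Subgroup.map_iSup]
    simp only [Subgroup.map_iSup]
    refine le_antisymm (iSup₂_le ?_) (iSup₂_le ?_)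
    · rintro _ ⟨h, -, rfl⟩
      refine le_iSup₂_of_le (A.1.map (MulAut.conjNormal (g * h) : MulAut ↥K).toMonoidHom)
        ⟨⟨g * h, mul_mem hg h.2⟩, trivial, rfl⟩ ?_
      rw [Subgroup.map_map]
      refine le_of_eq (congrArg A.1.map ?_)
      ext x
      simp
    · rintro _ ⟨h, -, rfl⟩
      refine le_iSup₂_of_le (A.1.map (MulAut.conjNormal (g⁻¹ * h) : MulAut ↥K).toMonoidHom)
        ⟨⟨g⁻¹ * h, mul_mem (inv_mem hg) h.2⟩, trivial, rfl⟩ ?_
      rw [Subgroup.map_map]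
      refine le_of_eq (congrArg A.1.map ?_)
      ext x
      simp
  -- the proper orbits
  obtain ⟨hNM, htop, hin⟩ := sup_ne_top hX U hB
    (fun A : {A : above (NK U) // O A ≠ above (NK U)} => (NK U) ⊔ sSup (O A.1)) hU hSN hM
    (fun A => Subgroup.le_normalizer.trans le_sup_left) (fun A => hspan _ (hO _) A.2)
    (fun A => hOinv A.1)
  have hBM : (NK U) ≤ M.subgroupOf K := fun b hb => hNM (mem_normalizer_of_map (map_of_mem_normalizer (g := (b : X))
    (by
      refine Subgroup.mem_normalizer_iff.mpr fun x => ⟨?_, ?_⟩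
      · rintro ⟨u, hu, rfl⟩
        exact ⟨b * u * b⁻¹, (Subgroup.mem_normalizer_iff.mp hb u).mp hu, rfl⟩
      · rintro ⟨u, hu, hue⟩
        refine ⟨b⁻¹ * u * b, ?_, ?_⟩
        · have := (Subgroup.mem_normalizer_iff.mp (inv_mem hb) u).mp hu
          simp only [inv_inv] at this
          exact this
        · have hue : (u : X) = (b : X) * x * (b : X)⁻¹ := hue
          show (b : X)⁻¹ * u * b = x
          rw [hue]; group)))
  have hself : ∀ A : above (NK U), A.1 ∈ O A := fun A => ⟨1, trivial, by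
    show A.1.map _ = _
    rw [OneMemClass.coe_one, map_one]
    exact Subgroup.map_id _⟩
  have hall : ∀ A : above (NK U), O A = above (NK U) := by
    intro A₀
    by_contra hne
    refine htop (eq_top_iff.mpr (hgen ▸ sup_le hBM (sSup_le fun A hA => ?_)))
    by_cases h : O ⟨A, hA⟩ = above (NK U)
    · -- then every orbit is the whole set
      obtain ⟨g₀, -, hg₀⟩ : A₀.1 ∈ O ⟨A, hA⟩ := h.symm ▸ A₀.2
      refine absurd (Set.Subset.antisymm (hO _) fun A' hA' => ?_) hne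
      obtain ⟨g₁, -, hg₁⟩ : A' ∈ O ⟨A, hA⟩ := h.symm ▸ hA'
      refine ⟨g₁ * g₀⁻¹, trivial, ?_⟩
      show A₀.1.map _ = A'
      rw [← hg₀, ← hg₁, Subgroup.map_map]
      refine congrArg A.map ?_
      ext x
      simp [mul_assoc]
    · exact (le_sSup (hself ⟨A, hA⟩)).trans (le_sup_right.trans (hin ⟨⟨A, hA⟩, h⟩))
  have hMK : M.subgroupOf K = (NK U) := by
    by_contra hne
    obtain ⟨A, hA, hAM⟩ := exists_covBy_le_of_lt (lt_of_le_of_ne hBM (Ne.symm hne))
    refine htop (eq_top_iff.mpr (hgen ▸ sup_le hBM (sSup_le fun A' hA' => ?_)))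
    obtain ⟨g, -, hg⟩ : A' ∈ O ⟨A, hA⟩ := (hall ⟨A, hA⟩).symm ▸ hA'
    rw [← hg]
    rintro _ ⟨a, ha, rfl⟩
    rw [Subgroup.mem_subgroupOf]
    show ((MulAut.conjNormal (g : X) a : ↥K) : X) ∈ M
    rw [coe_conjNormal]
    exact mul_mem (mul_mem (hM.2 g.2) (hAM ha)) (inv_mem (hM.2 g.2))
  have hMN : M ≤ (NX U) := by
    intro g hg
    refine mem_normalizer_of_map (map_sylow_of_normalizer U _ ?_)
    rw [show Subgroup.normalizer ((U : Subgroup ↥K) : Set ↥K) = M.subgroupOf K from hMK.symm]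
    rintro _ ⟨a, ha, rfl⟩
    rw [Subgroup.mem_subgroupOf]
    show ((MulAut.conjNormal g a : ↥K) : X) ∈ M
    rw [coe_conjNormal]
    exact mul_mem (mul_mem hg ha) (inv_mem hg)
  refine ⟨le_antisymm hMN hNM ▸ hM.1, fun A hA A' hA' => ?_⟩
  obtain ⟨g, -, hg⟩ : A' ∈ O ⟨A, hA⟩ := (hall ⟨A, hA⟩).symm ▸ hA'
  obtain ⟨k, hk⟩ := S.2 g
  exact ⟨g, hSN g.2, ⟨k, congrArg Subtype.val hk⟩, hg⟩

end Abstract

end CfsgLib.BNPair.PMinimal
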