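import Cfsg.Agent.Lib.BNPair.PMinimal
import Cfsg.Agent.Lib.BNPair.Overgroup
import Cfsg.Agent.Lib.BNPair.Count
import Cfsg.Agent.Lib.BNPair.Simple

/-!
A Sylow subgroup permuting the distinguished generators of a rigid pair transitively forces rank at most two:
the graph of non-commuting generators of a finite Weyl group has no cycle and is connected for a simple group.
-/

set_option autoImplicit false

namespace CfsgLib.BNPair.PMinimal

open CfsgLib.BNPair.Exchange CfsgLib.BNPair.Basic CfsgLib.BNPair.Parabolic CfsgLib.BNPair.SylowFixed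
  CfsgLib.BNPair.Overgroup

section Words

variable {ι W : Type*} [Group W] {σ : ι → W}

/-- Consecutive letters do not commute and no letter returns after one step. -/
def Good (σ : ι → W) : List ι → Prop
  | [] => True
  | [_] => True
  | a :: b :: l => σ a * σ b ≠ σ b * σ a ∧ (∀ c ∈ l.head?, c ≠ a) ∧ Good σ (b :: l)

theorem Good.tail {a : ι} {l : List ι} (h : Good σ (a :: l)) : Good σ l := by
  cases l with
  | nil => trivial
  | cons b l => exact h.2.2

variable (hσ : IsInvGen σ) (hx : HasExchange hσ) (hinj : Function.Injective σ)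
include hσ hx hinj

/-- A good word is the only reduced expression of its product. -/
theorem good_reduced : ∀ l : List ι, Good σ l → Reduced hσ l ∧
    ∀ m : List ι, m.length = l.length → (m.map σ).prod = (l.map σ).prod → m = l := by
  intro l
  induction l with
  | nil =>
    exact fun _ => ⟨by simp [Reduced, len_one hσ], fun m hm _ => List.length_eq_zero_iff.mp hm⟩
  | cons a l ih =>
    intro hg
    obtain ⟨hl, hu⟩ := ih hg.tail
    have hlen : len hσ (l.map σ).prod = l.length := hl
    have hred : Reduced hσ (a :: l) := by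
      show len hσ _ = _
      rw [List.map_cons, List.prod_cons, List.length_cons]
      refine le_antisymm (by rw [← hlen]; exact len_gen_mul_le hσ a _) (Nat.not_lt.mp fun hlt => ?_)
      obtain ⟨j, hj, hje⟩ := hx a l hl (by omega)
      have h1 := prod_eraseIdx_of_exchange a l j hje
      have h2 := hu (a :: l.eraseIdx j) (by rw [List.length_cons, List.length_eraseIdx_of_lt hj]; omega)
        (by rw [List.map_cons, List.prod_cons, ← h1])
      match l, hj, h2, hg with
      | b :: l', _, h2, hg =>
        injection h2 with h3 h4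
        exact hg.1 (by rw [h3])
    refine ⟨hred, fun m hm he => ?_⟩
    match m, hm with
    | b :: m', hm =>
    rw [List.length_cons, List.length_cons] at hm
    rw [List.map_cons, List.prod_cons, List.map_cons, List.prod_cons] at he
    by_cases hba : b = a
    · subst hba
      rw [hu m' (by omega) (mul_left_cancel he)]
    exfalso
    set w := σ a * (l.map σ).prod with hw
    have hw' : ((a :: l).map σ).prod = w := by rw [List.map_cons, List.prod_cons]
    have hlw : len hσ w = l.length + 1 := by rw [← hw']; exact hred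
    have hbw : len hσ (σ b * w) ≤ (a :: l).length := by
      rw [← he, mul_mul hσ, List.length_cons]
      have := len_le hσ m'
      omega
    obtain ⟨j, hj, hje⟩ := hx b (a :: l) hred (by rw [hw']; exact hbw)
    match j with
    | 0 =>
      simp only [List.take_zero, List.map_nil, List.prod_nil, mul_one, Nat.zero_add, List.take_succ_cons,
        List.map_cons, List.prod_cons] at hje
      exact hba (hinj hje)
    | j + 1 =>
      rw [List.length_cons] at hj
      have h1 := prod_eraseIdx_of_exchange b (a :: l) (j + 1) hje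
      rw [hw', List.eraseIdx_cons_succ] at h1
      set e := l.eraseIdx j with he'
      have hel : e.length + 1 = l.length := by rw [he', List.length_eraseIdx_of_lt (by omega)]; omega
      have hbae : Reduced hσ (b :: a :: e) := by
        show len hσ _ = _
        rw [List.map_cons, List.prod_cons, ← h1, hlw]
        simp only [List.length_cons]; omega
      have haw : σ a * w = (l.map σ).prod := by rw [hw, mul_mul hσ]
      obtain ⟨k, hk, hke⟩ := hx a (b :: a :: e) hbae (by
        rw [List.map_cons, List.prod_cons, ← h1, haw, hlen]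
        simp only [List.length_cons]; omega)
      have h3 := prod_eraseIdx_of_exchange a (b :: a :: e) k hke
      rw [List.map_cons, List.prod_cons, ← h1] at h3
      have hprod : (((b :: a :: e).eraseIdx k).map σ).prod = (l.map σ).prod := by
        rw [← haw, h3, mul_mul hσ]
      have h5 := hu _ (by
        rw [List.length_eraseIdx_of_lt hk]
        simp only [List.length_cons]; omega) hprod
      match k, hk, hke, h5 with
      | 0, _, hke, _ =>
        simp only [List.take_zero, List.map_nil, List.prod_nil, mul_one, Nat.zero_add, List.take_succ_cons,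
          List.map_cons, List.prod_cons] at hke
        exact hba (hinj hke).symm
      | 1, _, hke, h5 =>
        simp only [List.take_succ_cons, List.take_zero, List.map_cons, List.map_nil, List.prod_cons,
          List.prod_nil, mul_one] at hke
        simp only [List.eraseIdx_cons_succ, List.eraseIdx_cons_zero] at h5
        rw [← h5] at hg
        exact hg.1 hke
      | k + 2, _, _, h5 =>
        simp only [List.eraseIdx_cons_succ] at h5
        rw [← h5] at hg
        exact hg.2.1 a (by simp) rfl

/-- In a finite group some letter has at most one letter not commuting with it. -/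
theorem exists_end [Finite W] [Nonempty ι] :
    ∃ i : ι, ∀ j k : ι, σ i * σ j ≠ σ j * σ i → σ i * σ k ≠ σ k * σ i → j = k := by
  by_contra hcon
  push Not at hcon
  have hex : ∀ n, ∃ a b l, List.length l = n ∧ Good σ (a :: b :: l) := by
    intro n
    induction n with
    | zero =>
      obtain ⟨i⟩ := (inferInstance : Nonempty ι)
      obtain ⟨j, k, hj, -, -⟩ := hcon i
      exact ⟨i, j, [], rfl, hj, by simp, trivial⟩
    | succ n ih =>
      obtain ⟨a, b, l, hl, hg⟩ := ih
      obtain ⟨j, k, hj, hk, hjk⟩ := hcon a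
      by_cases hjb : j = b
      · exact ⟨k, a, b :: l, by simp [hl], fun h => hk h.symm, by
          simp only [List.head?_cons, Option.mem_some_iff]
          rintro c rfl; exact fun h => hjk (hjb.trans h), hg⟩
      · exact ⟨j, a, b :: l, by simp [hl], fun h => hj h.symm, by
          simp only [List.head?_cons, Option.mem_some_iff]
          rintro c rfl; exact fun h => hjb h.symm, hg⟩
  obtain ⟨C, hC⟩ := (Set.finite_range (len hσ)).bddAbove
  obtain ⟨a, b, l, hl, hg⟩ := hex C
  have h1 : len hσ _ = _ := (good_reduced hσ hx hinj _ hg).1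
  have h2 := hC ⟨((a :: b :: l).map σ).prod, rfl⟩
  rw [h1, List.length_cons, List.length_cons] at h2
  omega

end Words

section Pair

variable {G : Type*} [Group G] {P : Cfsg.BNPair G}

/-- Two sets of elements permute. -/
def Perm2 (A A' : Subgroup G) : Prop := ∀ x ∈ A, ∀ y ∈ A', ∃ y' ∈ A', ∃ x' ∈ A, x * y = y' * x'

theorem Perm2.map {A A' : Subgroup G} (h : Perm2 A A') (α : MulAut G) :
    Perm2 (A.map α.toMonoidHom) (A'.map α.toMonoidHom) := by
  rintro _ ⟨x, hx, rfl⟩ _ ⟨y, hy, rfl⟩
  obtain ⟨y', hy', x', hx', e⟩ := h x hx y hy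
  exact ⟨α y', ⟨y', hy', rfl⟩, α x', ⟨x', hx', rfl⟩, by
    show α x * α y = α y' * α x'
    rw [← map_mul, e, map_mul]⟩

theorem perm2_iff (s t : P.S) : Perm2 (P.parabolic {(s : G)}) (P.parabolic {(t : G)}) ↔
    σ P s * σ P t = σ P t * σ P s := by
  refine ⟨fun h => ?_, fun h x hx y hy => ?_⟩
  · by_contra hne
    have hst : s ≠ t := fun e => hne (by rw [e])
    have h2 := Simple.length_le_two_of_reduced P (Ne.symm hst)
    have hmem : (s : G) * t ∈ cell P (σ P s * σ P t) := by
      refine gen_mul_cell_of_le P ?_ (mem_cell_proj P (sN P t))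
      show ℓ P (σ P t) ≤ ℓ P (σ P s * σ P t)
      rw [h2]
      have := len_gen_le (isInvGen P) t
      simp only [ℓ] at *
      omega
    obtain ⟨y, hy, x, hx, e⟩ := h _ (mem_parabolic_gen s) _ (mem_parabolic_gen t)
    rw [e] at hmem
    have hx' := parabolic_singleton hx
    rcases parabolic_singleton hy with hy | hy <;> rcases hx' with hx | hx
    · have h1 := cell_inj P hmem ((mem_cell_one P).mpr (mul_mem hy hx))
      rw [h1] at h2
      have : ℓ P 1 = 0 := len_one (isInvGen P)
      simp only [ℓ] at *
      omega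
    · have h1 := cell_inj P hmem (mul_cell P hx hy)
      have h3 : σ P t = 1 := by rw [← mul_right_inj (σ P s), h1, mul_one]
      exact σ_ne_one P t h3
    · have h1 := cell_inj P hmem (cell_mul P hy hx)
      exact σ_ne_one P s (mul_eq_right.mp h1)
    · rcases Count.gen_cell_mul P hy hx with h3 | h3
      · exact hne (cell_inj P hmem h3)
      · exact σ_ne_one P t (mul_eq_left.mp (cell_inj P hmem h3))
  · have key : ∀ g ∈ cell P (σ P t * σ P s), ∃ y' ∈ P.parabolic {(t : G)}, ∃ x' ∈ P.parabolic {(s : G)},
        g = y' * x' := by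
      intro g hg
      rw [show σ P t * σ P s = proj P (sN P t * sN P s) from (map_mul (proj P) _ _).symm, cell_proj,
        DoubleCoset.mem_doubleCoset] at hg
      obtain ⟨a, ha, b, hb, rfl⟩ := hg
      exact ⟨a * t, mul_mem (Subgroup.mem_sup_left ha) (mem_parabolic_gen t), s * b,
        mul_mem (mem_parabolic_gen s) (Subgroup.mem_sup_left hb), by
          rw [Subgroup.coe_mul]; group⟩
    have hy' := parabolic_singleton hy
    rcases parabolic_singleton hx with hx' | hx'
    · exact ⟨x * y, mul_mem (Subgroup.mem_sup_left hx') hy, 1, one_mem _, (mul_one _).symm⟩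
    rcases hy' with hy' | hy'
    · exact ⟨1, one_mem _, x * y, mul_mem hx (Subgroup.mem_sup_left hy'), (one_mul _).symm⟩
    rcases Count.gen_cell_mul P hx' hy' with h3 | h3
    · rw [h] at h3; exact key _ h3
    · refine ⟨x * y, ?_, 1, one_mem _, (mul_one _).symm⟩
      exact (parabolic_eq P (Set.singleton_subset_iff.mpr t.2) _).mpr
        ⟨_, Subgroup.subset_closure ⟨t, rfl, rfl⟩, h3⟩

variable {p : ℕ} [Fact p.Prime] [Finite G] {U : Sylow p G} (hUB : (U : Subgroup G) ≤ P.B)
  (hconj : ∀ b ∈ P.B, ∀ u ∈ (U : Subgroup G), b * u * b⁻¹ ∈ (U : Subgroup G))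
  (hdec : ∀ b ∈ P.B, ∃ u ∈ (U : Subgroup G), ∃ t ∈ P.B ⊓ P.N, b = u * t)
  (hne : (U : Subgroup G) ≠ ⊥) (hR : Rigid P (U : Subgroup G))

include hUB hconj hdec hne hR in
/-- The graph of non-commuting generators of a rigid pair of a simple group is connected. -/
theorem no_split [IsSimpleGroup G] {J : Set G} (hJ : J ⊆ P.S) (hJne : J.Nonempty) (hJS : J ≠ P.S)
    (hcomm : ∀ s t : P.S, (s : G) ∈ J → (t : G) ∉ J → σ P s * σ P t = σ P t * σ P s) : False := by
  set K := P.S \ J with hK
  have hKS : K ⊆ P.S := Set.diff_subset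
  -- pull one letter of `K` through `P_J`
  have hpull : ∀ k : P.S, (k : G) ∈ K → ∀ x ∈ P.parabolic J, ∀ y ∈ P.parabolic {(k : G)},
      ∃ x' ∈ P.parabolic J, ∃ y' ∈ P.parabolic {(k : G)}, y * x = x' * y' := by
    intro k hk x hx
    rw [Cfsg.BNPair.parabolic, ← Subgroup.closure_eq P.B, ← Subgroup.closure_union] at hx
    have step : ∀ g : G, (g ∈ P.B ∨ ∃ j : P.S, (j : G) ∈ J ∧ g ∈ P.parabolic {(j : G)}) →
        ∀ z, (∀ y ∈ P.parabolic {(k : G)}, ∃ x' ∈ P.parabolic J, ∃ y' ∈ P.parabolic {(k : G)}, y * z = x' * y') →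
          ∀ y ∈ P.parabolic {(k : G)}, ∃ x' ∈ P.parabolic J, ∃ y' ∈ P.parabolic {(k : G)}, y * (g * z) = x' * y' := by
      rintro g (hg | ⟨j, hj, hg⟩) z ih y hy
      · rw [← mul_assoc]
        exact ih _ (mul_mem hy (Subgroup.mem_sup_left hg))
      · obtain ⟨g', hg', y1, hy1, e⟩ := (perm2_iff k j).mpr (hcomm j k hj hk.2).symm y hy g hg
        obtain ⟨x', hx', y', hy', e'⟩ := ih y1 hy1
        exact ⟨g' * x', mul_mem (parabolic_mono P (Set.singleton_subset_iff.mpr hj) hg') hx', y', hy', by
          rw [← mul_assoc, e, mul_assoc, e', mul_assoc]⟩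
    induction hx using Subgroup.closure_induction_left with
    | one => exact fun y hy => ⟨1, one_mem _, y, hy, by simp⟩
    | mul_left g hg z hz ih =>
      refine step g ?_ z ih
      rcases hg with hg | hg
      · exact .inl hg
      · exact .inr ⟨⟨g, hJ hg⟩, hg, mem_parabolic_gen ⟨g, hJ hg⟩⟩
    | inv_mul_cancel g hg z hz ih =>
      refine step g⁻¹ ?_ z ih
      rcases hg with hg | hg
      · exact .inl (P.B.inv_mem hg)
      · exact .inr ⟨⟨g, hJ hg⟩, hg, inv_mem (mem_parabolic_gen ⟨g, hJ hg⟩)⟩
  have hfact : ∀ g : G, ∃ x ∈ P.parabolic J, ∃ y ∈ P.parabolic K, g = x * y := by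
    intro g
    have hg : g ∈ P.parabolic P.S := by rw [parabolic_S]; trivial
    rw [Cfsg.BNPair.parabolic, ← Subgroup.closure_eq P.B, ← Subgroup.closure_union] at hg
    have step : ∀ a : G, (a ∈ P.parabolic J ∨ ∃ k : P.S, (k : G) ∈ K ∧ a ∈ P.parabolic {(k : G)}) → ∀ z,
        (∃ x ∈ P.parabolic J, ∃ y ∈ P.parabolic K, z = x * y) →
          ∃ x ∈ P.parabolic J, ∃ y ∈ P.parabolic K, a * z = x * y := by
      rintro a (ha | ⟨k, hk, ha⟩) _ ⟨x, hx, y, hy, rfl⟩
      · exact ⟨a * x, mul_mem ha hx, y, hy, (mul_assoc _ _ _).symm⟩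
      · obtain ⟨x', hx', y', hy', e⟩ := hpull k hk x hx a ha
        exact ⟨x', hx', y' * y, mul_mem (parabolic_mono P (Set.singleton_subset_iff.mpr hk) hy') hy, by
          rw [← mul_assoc, e, mul_assoc]⟩
    induction hg using Subgroup.closure_induction_left with
    | one => exact ⟨1, one_mem _, 1, one_mem _, by simp⟩
    | mul_left a ha z hz ih =>
      refine step a ?_ z ih
      rcases ha with ha | ha
      · exact .inl (Subgroup.mem_sup_left ha)
      by_cases hj : a ∈ J
      · exact .inl (Subgroup.mem_sup_right (Subgroup.subset_closure hj))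
      · exact .inr ⟨⟨a, ha⟩, ⟨ha, hj⟩, mem_parabolic_gen ⟨a, ha⟩⟩
    | inv_mul_cancel a ha z hz ih =>
      refine step a⁻¹ ?_ z ih
      rcases ha with ha | ha
      · exact .inl (Subgroup.mem_sup_left (P.B.inv_mem ha))
      by_cases hj : a ∈ J
      · exact .inl (inv_mem (Subgroup.mem_sup_right (Subgroup.subset_closure hj)))
      · exact .inr ⟨⟨a, ha⟩, ⟨ha, hj⟩, inv_mem (mem_parabolic_gen ⟨a, ha⟩)⟩
  rcases core_or_top hUB hconj hdec hne hR (hUB.trans le_sup_left : (U : Subgroup G) ≤ P.parabolic J) with
    h | ⟨e, -, he1, he⟩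
  · exact hJS (parabolic_injective P hJ subset_rfl (h.trans (parabolic_S P).symm))
  have hall : ∀ g : G, g⁻¹ * e * g ∈ P.parabolic K := by
    intro g
    obtain ⟨x, hx, y, hy, rfl⟩ := hfact g
    rw [show (x * y)⁻¹ * e * (x * y) = y⁻¹ * (x⁻¹ * e * x) * y by group]
    exact mul_mem (mul_mem (inv_mem hy) (Subgroup.mem_sup_left (hUB (he x hx)))) hy
  have hle : Subgroup.normalClosure {e} ≤ P.parabolic K := by
    rw [Subgroup.normalClosure, Subgroup.closure_le]
    intro x hx
    obtain ⟨u, hu, hx⟩ := Group.mem_conjugatesOfSet_iff.mp hx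
    obtain ⟨g, rfl⟩ := isConj_iff.mp hx
    rw [Set.mem_singleton_iff.mp hu]
    simpa using hall g⁻¹
  rcases (Subgroup.normalClosure_normal (s := {e})).eq_bot_or_eq_top with h | h
  · have := Subgroup.subset_normalClosure (s := ({e} : Set G)) rfl
    rw [h] at this
    exact he1 (Subgroup.mem_bot.mp this)
  · obtain ⟨x, hx⟩ := hJne
    have h1 := parabolic_injective P hKS subset_rfl ((top_le_iff.mp (h ▸ hle)).trans (parabolic_S P).symm)
    exact ((Set.ext_iff.mp h1 x).mpr (hJ hx)).2 hx

include hUB hconj hdec hne hR in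
/-- Transitive automorphisms force rank at most two. -/
theorem card_le_two [IsSimpleGroup G]
    (htr : ∀ s t : P.S, ∃ α : MulAut G, (∀ u : P.S, ∃ u' : P.S,
      (P.parabolic {(u : G)}).map α.toMonoidHom = P.parabolic {(u' : G)}) ∧
        (P.parabolic {(s : G)}).map α.toMonoidHom = P.parabolic {(t : G)})
    (a b c : P.S) : a = b ∨ b = c ∨ a = c := by
  have hNe : Nonempty P.S := ⟨a⟩
  obtain ⟨i, hi⟩ := exists_end (isInvGen P) (hasExchange P) (σ_inj P)
  -- every letter has at most one neighbour
  have hdeg : ∀ s t u : P.S, σ P s * σ P t ≠ σ P t * σ P s → σ P s * σ P u ≠ σ P u * σ P s → t = u := by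
    intro s t u ht hu
    obtain ⟨α, hα, hs⟩ := htr s i
    obtain ⟨t', ht'⟩ := hα t
    obtain ⟨u', hu'⟩ := hα u
    have hback : ∀ {x x' : P.S}, (P.parabolic {(x : G)}).map α.toMonoidHom = P.parabolic {(x' : G)} →
        σ P s * σ P x ≠ σ P x * σ P s → σ P i * σ P x' ≠ σ P x' * σ P i := by
      intro x x' hx hne he
      apply hne
      rw [← perm2_iff] at he ⊢
      have h2 := he.map α⁻¹
      rw [← hs, ← hx, Subgroup.map_map, Subgroup.map_map,
        show (α⁻¹).toMonoidHom.comp α.toMonoidHom = MonoidHom.id G from MonoidHom.ext fun g =>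
          α.symm_apply_apply g, Subgroup.map_id, Subgroup.map_id] at h2
      exact h2
    have := hi t' u' (hback ht' ht) (hback hu' hu)
    subst this
    have h2 := Subgroup.map_injective (f := α.toMonoidHom) α.injective (ht'.trans hu'.symm)
    exact Subtype.ext (Set.singleton_eq_singleton_iff.mp (parabolic_injective P
      (Set.singleton_subset_iff.mpr t.2) (Set.singleton_subset_iff.mpr u.2) h2))
  by_contra hcon
  push Not at hcon
  obtain ⟨hab, hbc, hac⟩ := hcon
  -- `a` with its neighbour
  set J : Set G := {x | ∃ h : x ∈ P.S, (⟨x, h⟩ : P.S) = a ∨ σ P a * σ P ⟨x, h⟩ ≠ σ P ⟨x, h⟩ * σ P a} with hJ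
  refine no_split hUB hconj hdec hne hR (J := J) (fun x hx => hx.1) ⟨a, a.2, .inl rfl⟩ ?_ ?_
  · intro hJS
    obtain ⟨_, hb⟩ : (b : G) ∈ J := by rw [hJS]; exact b.2
    obtain ⟨_, hc⟩ : (c : G) ∈ J := by rw [hJS]; exact c.2
    exact hbc (hdeg a b c (hb.resolve_left fun h => hab h.symm) (hc.resolve_left fun h => hac h.symm))
  · rintro s t ⟨_, hs⟩ ht
    have ht1 : t ≠ a := fun h => ht ⟨t.2, .inl h⟩
    have ht2 : σ P a * σ P t = σ P t * σ P a := by
      by_contra h; exact ht ⟨t.2, .inr h⟩
    rcases hs with hs | hs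
    · rw [show s = a from hs]; exact ht2
    · by_contra h
      exact ht1 (hdeg s t a h (fun e => hs e.symm))

end Pair

end CfsgLib.BNPair.PMinimal
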