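import Cfsg.Agent.Lib.BNPair.PMinimalPair
import Cfsg.Agent.Lib.BNPair.OvergroupExceptional
import Cfsg.Agent.Lib.BNPair.OvergroupTits
import Cfsg.Agent.Lib.KnownB.Aut.OutInst

/-!
The exceptional groups: numbers of distinguished generators, different fixed subgroups for `³D₄` and `²F₄`, and no
automorphism exchanging the two generators of `G₂` in characteristic two.
-/

set_option autoImplicit false
set_option maxRecDepth 20000

namespace CfsgLib.BNPair.PMinimal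

open CfsgLib.Chevalley CfsgLib.Chevalley.Tbl CfsgLib.BNPair.Overgroup CfsgLib.BNPair.Basic

variable {p : ℕ} [Fact p.Prime] {T : Tbl} {F : Type*} [Field F] [Fintype F]

theorem frame_chev [CharP F p] (hT : T.Valid) (hC : T.chkComm = true) :
    ∃ U : Sylow p ↥(T.datum.group F), Frame (bnPair hT hC F) U ∧
      (U : Subgroup ↥(T.datum.group F)) = (T.datum.posUnipotent F).subgroupOf (T.datum.group F) := by
  obtain ⟨h1, h2, h3, h4, h5⟩ := SylowFixed.chev_data (p := p) hT hC (F := F)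
  obtain ⟨S, hS⟩ := SylowFixed.exists_sylow_of_pow _ _ h1 h2 h3 h4 h5
  refine ⟨S, ⟨hS ▸ h2, hS ▸ h3, hS ▸ h4, ?_⟩, hS⟩
  rw [hS]
  rintro s ⟨i, hi, hs⟩ y hy hc u hu
  rw [eq_nMat_simple_iff hT hi] at hs
  have := rigid_aux hT hC (mono_nU_simple (F := F) hT ⟨i, hi⟩)
    (Subgroup.mem_sup_right (nU_sq_mem hT (simple_lt hT hi)))
    (normal_refP hT hC ⟨i, hi⟩) hy (by rw [← hs]; exact hc) hu
  rw [← hs] at this
  exact this

omit [Fintype F] in
/-- The simple reflection in the group. -/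
theorem simple_mem_S (hT : T.Valid) (hC : T.chkComm = true) (i : Fin T.rank) :
    (⟨T.nU F (T.simple i) 1, nU_mem_group hT (simple_lt hT i.2) 1⟩ : ↥(T.datum.group F)) ∈ (bnPair hT hC F).S :=
  ⟨i.1, i.2, (eq_nMat_simple_iff hT i.2 _).mpr rfl⟩

theorem rankGE_tbl [CharP F p] (hT : T.Valid) (hC : T.chkComm = true) {k : ℕ} (hk : k ≤ T.rank) :
    RankGE k p ↥(T.datum.group F) := by
  obtain ⟨U, hU, -⟩ := frame_chev (p := p) (F := F) hT hC
  refine ⟨_, U, hU, fun a => ⟨_, simple_mem_S hT hC ⟨a, a.2.trans_le hk⟩⟩, fun a b h => ?_⟩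
  have e : T.nU F (T.simple a) 1 = T.nU F (T.simple b) 1 :=
    congrArg (fun x : (bnPair hT hC F).S => ((x : ↥(T.datum.group F)) : GL T.I F)) h
  have h2 := simple_inv_mul_mem (F := F) hT (i := ⟨a, a.2.trans_le hk⟩) (j := ⟨b, b.2.trans_le hk⟩) (by
    rw [show T.nU F (T.simple ((⟨a, a.2.trans_le hk⟩ : Fin T.rank) : ℕ)) 1 = T.nU F (T.simple b) 1 from e,
      inv_mul_cancel]
    exact one_mem _)
  exact Fin.ext (Fin.mk.inj h2)

theorem rankGE_chev [CharP F p] {D : Cfsg.Lie.ChevalleyDatum}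
    (hD : D ∈ [Cfsg.Lie.chevG2, Cfsg.Lie.chevB2, Cfsg.Lie.chevD4, Cfsg.Lie.chevF4, Cfsg.Lie.chevE6,
      Cfsg.Lie.chevE7, Cfsg.Lie.chevE8]) {k : ℕ} (hk : k ≤ D.rank) : RankGE k p ↥(D.group F) := by
  obtain ⟨T, hT, hC, rfl⟩ := exists_tbl hD
  exact rankGE_tbl hT hC hk

section Twisted

variable {S : Twist T F} {O : Tbl.Orbits T S.valid S.ρ}

theorem frame_twist [CharP F p] (hV : S.VHyp O) : ∃ U : Sylow p ↥S.fix, Frame (Twist.pair hV) U ∧
    (U : Subgroup ↥S.fix) = (T.datum.posUnipotent F ⊓ S.fix).subgroupOf S.fix := by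
  obtain ⟨h1, h2, h3, h4, h5⟩ := SylowFixed.twist_data (p := p) hV
  obtain ⟨U, hU⟩ := SylowFixed.exists_sylow_of_pow _ _ h1 h2 h3 h4 h5
  refine ⟨U, ⟨hU ▸ h2, hU ▸ h3, hU ▸ h4, ?_⟩, hU⟩
  rw [hU]
  rintro _ ⟨j, rfl⟩ y hy hc u hu
  refine ⟨rigid_aux S.valid S.comm (Twist.rep_mono hV j)
    (Subgroup.mem_sup_right (Twist.rep_sq hV j)) (normal_wJ j) hy.1 hc.1 hu.1, ?_⟩
  exact ((u * _)⁻¹ * y * (u * _) : ↥S.fix).2

theorem rankGE_twist [CharP F p] (hV : S.VHyp O) {k : ℕ} (hk : k ≤ O.o) : RankGE k p ↥S.fix := by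
  obtain ⟨U, hU, -⟩ := frame_twist (p := p) hV
  refine ⟨_, U, hU, fun a => ⟨_, gRep_mem hV (Fin.castLE hk a)⟩, fun a b h => Fin.castLE_injective hk ?_⟩
  refine Twist.wJ_injective S O ((Twist.rep_mono hV _).unique ?_)
  have e : Twist.rep hV (Fin.castLE hk a) = Twist.rep hV (Fin.castLE hk b) :=
    congrArg (fun x : (Twist.pair hV).S => ((x : ↥S.fix) : GL T.I F)) h
  rw [e]
  exact Twist.rep_mono hV _

omit [Fact p.Prime] [Fintype F] in
/-- Fixed elements times the fixed part of the orbit subgroup. -/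
theorem card_fix_mul (hV : S.VHyp O) (j : Fin O.o) :
    Nat.card ↥(fixU (Twist.pair hV) ((T.datum.posUnipotent F ⊓ S.fix).subgroupOf S.fix) (gRep hV j)) *
        Nat.card ↥(S.Uw (S.wJ O j)) =
      Nat.card ↥((T.datum.posUnipotent F ⊓ S.fix).subgroupOf S.fix) := by
  set U := (T.datum.posUnipotent F ⊓ S.fix).subgroupOf S.fix with hU
  have hmemU : ∀ x : ↥S.fix, (x : GL T.I F) ∈ T.rootGen F (fun r => T.half ≤ r) → x ∈ U := fun x hx =>
    ⟨(posUnipotent_rootGen (F := F) S.valid).symm ▸ hx, x.2⟩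
  have hneg : ∀ y : ↥S.fix, (y : GL T.I F) ∈ T.rootGen F (T.negSet (S.wJ O j)) →
      (gRep hV j)⁻¹ * y * gRep hV j ∈ (Twist.pair hV).B → y = 1 := by
    intro y hy hc
    by_contra hne
    refine not_mem_B_of_neg hV (x := gRep hV j * y * (gRep hV j)⁻¹)
      (conj_gRep_mem hV j (fun r ⟨_, _, h⟩ => h) hy) (fun h => hne (conj_eq_one_iff.mp h)) ?_
    have hsq := (Twist.pair hV).sq_mem _ (gRep_mem hV j)
    have := mul_mem (mul_mem hsq hc) (inv_mem hsq)
    simpa [mul_assoc] using this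
  rw [← Nat.card_prod]
  refine Nat.card_eq_of_bijective (fun z => (⟨z.1.1 * ⟨z.2.1, z.2.2.1⟩,
    mul_mem (mem_fixU.mp z.1.2).1 (hmemU _ (rootGen_mono (fun _ _ ⟨_, h, _⟩ => h) z.2.2.2))⟩ : ↥U)) ⟨?_, ?_⟩
  · rintro ⟨⟨a, ha⟩, ⟨r, hr⟩⟩ ⟨⟨a', ha'⟩, ⟨r', hr'⟩⟩ he
    have he : a * ⟨r, hr.1⟩ = a' * ⟨r', hr'.1⟩ := congrArg Subtype.val he
    have hmem : (⟨r, hr.1⟩ : ↥S.fix) * ⟨r', hr'.1⟩⁻¹ = a⁻¹ * a' := by
      calc (⟨r, hr.1⟩ : ↥S.fix) * ⟨r', hr'.1⟩⁻¹ = a⁻¹ * (a * ⟨r, hr.1⟩) * ⟨r', hr'.1⟩⁻¹ := by group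
        _ = a⁻¹ * (a' * ⟨r', hr'.1⟩) * ⟨r', hr'.1⟩⁻¹ := by rw [he]
        _ = a⁻¹ * a' := by group
    have h1 := hneg ((⟨r, hr.1⟩ : ↥S.fix) * ⟨r', hr'.1⟩⁻¹) (by
      show r * r'⁻¹ ∈ _
      exact mul_mem hr.2 (inv_mem hr'.2)) (by
      rw [hmem]
      exact (mem_fixU.mp (mul_mem (inv_mem ha) ha')).2)
    obtain rfl : r = r' := congrArg Subtype.val (mul_inv_eq_one.mp h1)
    obtain rfl : a = a' := mul_right_cancel he
    rfl
  · rintro ⟨u, hu⟩
    have hu' : (u : GL T.I F) ∈ T.rootGen F (fun r => T.half ≤ r) :=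
      (posUnipotent_rootGen (F := F) S.valid) ▸ hu.1
    obtain ⟨a, haf, ha, b, hbf, hb, e⟩ := Twist.pos_fix_factor (S.wJ_mem O j) (Twist.rep_mono hV j) hu' u.2
    refine ⟨(⟨⟨a, haf⟩, mem_fixU.mpr ⟨hmemU _ (rootGen_mono (fun _ _ ⟨_, h, _⟩ => h) ha),
      inv_conj_mem hV j (mem_B_of_pos hV (conj_gRep_mem hV j (fun r ⟨_, _, h⟩ => h) ha))⟩⟩, ⟨b, hbf, hb⟩),
      Subtype.ext (Subtype.ext e.symm)⟩

theorem asym_twist [CharP F p] (hV : S.VHyp O) (i j : Fin O.o)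
    (h : Nat.card ↥(S.Uw (S.wJ O i)) ≠ Nat.card ↥(S.Uw (S.wJ O j))) : Asym p ↥S.fix := by
  obtain ⟨U, hF, hU⟩ := frame_twist (p := p) hV
  refine ⟨_, U, hF, ⟨_, gRep_mem hV i⟩, ⟨_, gRep_mem hV j⟩, fun he => h ?_⟩
  rw [hU] at he
  have e := (card_fix_mul hV i).trans (card_fix_mul hV j).symm
  have he : Nat.card ↥(fixU (Twist.pair hV) ((T.datum.posUnipotent F ⊓ S.fix).subgroupOf S.fix) (gRep hV i)) =
    Nat.card ↥(fixU (Twist.pair hV) ((T.datum.posUnipotent F ⊓ S.fix).subgroupOf S.fix) (gRep hV j)) := he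
  rw [he] at e
  exact Nat.eq_of_mul_eq_mul_left Nat.card_pos e

end Twisted

section Families

variable {K : Type*} [Field K] [Fintype K]

theorem rankGE_twistedE6 [CharP K p] {q : ℕ} (hq : IsPrimePow q) (hK : Fintype.card K = q ^ 2) :
    RankGE 3 p ↥(Cfsg.Lie.twistedE6 K q) :=
  Twist.E6.transfer hq (Nat.card_eq_fintype_card.trans hK) (fun _ G => RankGE 3 p ↥G)
    (rankGE_twist (Twist.E6.setup hq (Nat.card_eq_fintype_card.trans hK)).hV (show 3 ≤ 4 by norm_num))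

theorem stuck_twistedD4 [CharP K p] {q : ℕ} (hq : IsPrimePow q) (hK : Fintype.card K = q ^ 3) :
    Stuck p ↥(Cfsg.Lie.twistedD4 K q) := by
  have hK' : Nat.card K = q ^ 3 := Nat.card_eq_fintype_card.trans hK
  refine Twist.D4.transfer hq hK' (fun _ G => Stuck p ↥G) ?_
  set A := Twist.D4.setup hq hK' with hA
  have hcard : ∀ j : Fin A.o, Nat.card ↥(A.S.Uw (A.S.wJ A.O j)) = q ^ (A.Ss.getD j []).length := by
    intro j
    obtain ⟨hab, -, -, hperm⟩ := A.facts j.2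
    rw [A.D.card_Uw_cyc hab A.hO j hperm, ← Twist.D4.hcard hq hK' j j.2, A.length_L]
    rfl
  refine (asym_twist A.hV ⟨0, show 0 < 2 by norm_num⟩ ⟨1, show 1 < 2 by norm_num⟩ ?_).stuck
  intro e
  have e' : q ^ 1 = q ^ 3 := (hcard _).symm.trans (e.trans (hcard _))
  have := (Nat.pow_right_injective hq.two_le) e'
  omega

theorem stuck_twistedF4 {m : ℕ} (hK : Fintype.card K = 2 ^ (2 * m + 1)) :
    Stuck 2 ↥(Cfsg.Lie.twistedF4 K (2 ^ m)) := by
  haveI : Fact (Nat.Prime 2) := ⟨Nat.prime_two⟩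
  haveI : CharP K 2 := charP_of_card_eq_prime_pow hK
  have hK' : Nat.card K = 2 ^ (2 * m + 1) := Nat.card_eq_fintype_card.trans hK
  refine Twist.F4.transfer hK' (fun _ G => Stuck 2 ↥G) ?_
  refine (asym_twist (p := 2) (Twist.F4.hV hK') (0 : Fin 2) (1 : Fin 2) ?_).stuck
  intro e
  have h0 := (Twist.F4.card_Uw hK' ((Twist.F4.S hK').wJ (Twist.F4.O hK') (0 : Fin 2)) (Twist.wJ_mem _ _ _)).2
  have h1 := (Twist.F4.card_Uw hK' ((Twist.F4.S hK').wJ (Twist.F4.O hK') (1 : Fin 2)) (Twist.wJ_mem _ _ _)).2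
  have e' := (h0.symm.trans (e.trans h1))
  rw [Twist.F4.invN_wJ hK' 0 Twist.F4.negList0 (by decide),
    Twist.F4.invN_wJ hK' 1 Twist.F4.negList1 (by decide)] at e'
  have := (Nat.pow_right_injective (show 2 ≤ 2 ^ (2 * m + 1) from Nat.le_self_pow (by omega) 2)) e'
  simp at this

end Families

section G2

open CfsgLib.KnownB.Aut

omit [Fact p.Prime] in
theorem eq_two_or_g2_no_swap [CharP F 2] (hF : 3 ≤ Fintype.card F) {π : Equiv.Perm (Fin Data.G2.tbl.rank)}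
    (hs : SwapOK diagG2 F π) : π ≠ piG2 := by
  intro e
  subst e
  have hadd := hs ⟨0, by decide +kernel⟩ ⟨1, by decide +kernel⟩ (by decide +kernel) (by decide +kernel)
    (by decide +kernel) (by decide +kernel) (by decide +kernel)
  haveI : Fact (Nat.Prime 2) := ⟨Nat.prime_two⟩
  have hpow := pow_m_eq (F := F) 2 (m := 3) (Or.inr rfl) hadd
  classical
  have hle : Fintype.card F ≤ 2 := by
    have : (Finset.univ : Finset F) ⊆ {0, 1} := fun x _ => by
      have h3 : x ^ 2 * (x - 1) = 0 := by linear_combination hpow x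
      rcases mul_eq_zero.mp h3 with h4 | h4
      · simp [pow_eq_zero_iff two_ne_zero |>.mp h4]
      · simp [sub_eq_zero.mp h4]
    simpa using (Finset.card_le_card this).trans Finset.card_le_two
  omega

theorem stuck_g2 [CharP F 2] (hF : 3 ≤ Fintype.card F) : Stuck 2 ↥(Cfsg.Lie.chevG2.group F) := by
  haveI : Fact (Nat.Prime 2) := ⟨Nat.prime_two⟩
  suffices h : Stuck 2 ↥(Data.G2.tbl.datum.group F) by
    revert h
    exact (Data.G2.datum_eq ▸ id)
  have hT := Data.G2.valid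
  have hC := Data.G2.chkComm
  obtain ⟨U, hFr, hU⟩ := frame_chev (p := 2) (F := F) hT hC
  set P := bnPair hT hC F
  let nG : Fin Data.G2.tbl.rank → ↥(Data.G2.tbl.datum.group F) := fun i =>
    ⟨Data.G2.tbl.nU F (Data.G2.tbl.simple i) 1, nU_mem_group hT (simple_lt hT i.2) 1⟩
  let i0 : Fin Data.G2.tbl.rank := ⟨0, by decide +kernel⟩
  let i1 : Fin Data.G2.tbl.rank := ⟨1, by decide +kernel⟩
  refine ⟨P, U, hFr, ⟨nG i0, simple_mem_S hT hC i0⟩, ⟨nG i1, simple_mem_S hT hC i1⟩, fun α hα hcon => ?_⟩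
  obtain ⟨x, hx⟩ := exists_norm hT hC 2 α
  obtain ⟨π, hπ, hsw, σ, c, hform⟩ := diagG2.exists_form 2 hT hC hx
  obtain rfl : π = 1 := (g2_syms hπ).resolve_right (eq_two_or_g2_no_swap hF hsw)
  have hUU : (U : Subgroup ↥(Data.G2.tbl.datum.group F)) = UU Data.G2.tbl F := hU
  have hxB : x ∈ P.B := by
    have h1 := hx.mapU
    rw [← hUU] at h1
    rw [show (MulAut.conj x * α).toMonoidHom = (MulAut.conj x).toMonoidHom.comp α.toMonoidHom from rfl,
      ← Subgroup.map_map, hα] at h1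
    rw [← hFr.normalizer]
    refine Subgroup.mem_normalizer_iff.mpr fun u => ⟨fun hu => h1.le ⟨u, hu, rfl⟩, fun hu => ?_⟩
    obtain ⟨v, hv, hve⟩ := h1.ge hu
    have : v = u := (MulAut.conj x).injective hve
    exact this ▸ hv
  -- the fundamental root elements stay in their parabolic subgroup
  have hroot : ∀ t : F, α (xG hT (Data.G2.tbl.simpF hT i0) t) ∈ P.parabolic {nG i0} ∧
      α (xG hT (Data.G2.tbl.negF (Data.G2.tbl.simpF hT i0)) t) ∈ P.parabolic {nG i0} := by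
    intro t
    have hpos : ∀ s : F, xG hT (Data.G2.tbl.simpF hT i0) s ∈ P.parabolic {nG i0} := fun s =>
      Subgroup.mem_sup_left (hFr.le_B (hUU.symm ▸ xG_mem_UU hT (half_le_simpF hT i0) s))
    have hnG : nG i0 ∈ P.parabolic {nG i0} := Subgroup.mem_sup_right (Subgroup.subset_closure rfl)
    have hneg : ∀ s : F, xG hT (Data.G2.tbl.negF (Data.G2.tbl.simpF hT i0)) s ∈ P.parabolic {nG i0} := by
      intro s
      obtain ⟨k, hk⟩ := (mono_nU_simple (F := F) hT i0).conj (Data.G2.tbl.simpF hT i0)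
      have hconj : ∀ u : F, nG i0 * xG hT (Data.G2.tbl.simpF hT i0) u * (nG i0)⁻¹ =
          xG hT (Data.G2.tbl.negF (Data.G2.tbl.simpF hT i0)) ((k : F) * u) := by
        intro u
        have h1 := (hk u).1
        rw [refP_simpF] at h1
        exact Subtype.ext (mul_inv_eq_of_eq_mul h1)
      rw [← mul_inv_cancel_left₀ k.ne_zero s, ← hconj]
      exact mul_mem (mul_mem hnG (hpos _)) (inv_mem hnG)
    have hback : ∀ {g : ↥(Data.G2.tbl.datum.group F)}, (MulAut.conj x * α) g ∈ P.parabolic {nG i0} →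
        α g ∈ P.parabolic {nG i0} := by
      intro g hg
      have hxP : x ∈ P.parabolic {nG i0} := Subgroup.mem_sup_left hxB
      have := mul_mem (mul_mem (inv_mem hxP) hg) hxP
      simpa [mul_assoc] using this
    constructor
    · exact hback (by rw [(hform i0 t).1]; exact hpos _)
    · exact hback (by rw [(hform i0 t).2]; exact hneg _)
  have hmem : α (nG i0) ∈ P.parabolic {nG i0} := by
    have e : nG i0 = xG hT (Data.G2.tbl.simpF hT i0) 1 * xG hT (Data.G2.tbl.negF (Data.G2.tbl.simpF hT i0)) (-1⁻¹) *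
        xG hT (Data.G2.tbl.simpF hT i0) 1 := rfl
    rw [e, map_mul, map_mul]
    exact mul_mem (mul_mem (hroot _).1 (hroot _).2) (hroot _).1
  have hBmap := hFr.map_B hα
  have h2 : P.parabolic {nG i1} ≤ P.parabolic {nG i0} := by
    rw [← hcon]
    refine Subgroup.map_le_iff_le_comap.mpr (sup_le (fun b hb => ?_) ?_)
    · exact Subgroup.mem_sup_left (hBmap.le ⟨b, hb, rfl⟩)
    · rw [Subgroup.closure_le, Set.singleton_subset_iff]
      exact hmem
  have h3 := (Parabolic.inter_parabolic P (Set.singleton_subset_iff.mpr (simple_mem_S hT hC i0))).subset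
    ⟨simple_mem_S hT hC i1, h2 (Subgroup.mem_sup_right (Subgroup.subset_closure rfl))⟩
  have h4 : Data.G2.tbl.nU F (Data.G2.tbl.simple i1) 1 = Data.G2.tbl.nU F (Data.G2.tbl.simple i0) 1 :=
    congrArg Subtype.val (Set.mem_singleton_iff.mp h3)
  have h5 := simple_inv_mul_mem (F := F) hT (i := i1) (j := i0) (by rw [h4, inv_mul_cancel]; exact one_mem _)
  exact absurd (congrArg Fin.val h5) (by decide)

end G2

end CfsgLib.BNPair.PMinimal
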