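import Cfsg.Agent.Lib.BNPair.PMinimalPair
import Cfsg.Agent.Lib.BNPair.OvergroupLie

/-!
Lower bounds on the number of distinguished generators of the classical groups.
-/

set_option autoImplicit false

namespace CfsgLib.BNPair.PMinimal

open CfsgLib.BNPair.Overgroup CfsgLib.PGroup CfsgLib.PGroup.SteinbergModule

variable {p : ℕ} [Fact p.Prime]

section Generic

variable {G : Type*} [Group G] {N : Type*} [Group N] {ν : N →* G} {ε : N →* ℤˣ} {B U : Subgroup G} {ι : Type*}
  {s : ι → N} {R : ι → Set G}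

/-- Simple reflections with different images in a quotient trivial on the torus are different generators. -/
theorem rankGE_of_splitData (hd : SplitData ν ε B U s R) (S : Sylow p G) (hS : (S : Subgroup G) = U)
    (hker : Kernels ν U s R) {W' : Type*} [Group W'] (pm : N →* W') (hpm : ∀ t, ν t ∈ B → pm t = 1) {k : ℕ}
    (f : Fin k → ι) (hinj : Function.Injective fun a => pm (s (f a))) : RankGE k p G := by
  obtain ⟨K, hK, hKU, hKR⟩ := hker
  obtain ⟨P, h1, h2, h3, h4, -, hfull, -, hPB⟩ := exists_rigid_full hd S hS K hK hKU hKR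
  choose x hx hxe using hfull
  refine ⟨P, S, ⟨h1, h2, h3, h4⟩, fun a => ⟨x (f a), hx _⟩, fun a b hab => hinj ?_⟩
  have e : x (f a) = x (f b) := congrArg Subtype.val hab
  have h := P.B.mul_mem (P.B.inv_mem (hxe (f a))) (e ▸ hxe (f b))
  rw [hPB] at h
  have h' := hpm ((s (f a))⁻¹ * s (f b)) (by
    rw [map_mul, map_inv]
    simpa [mul_assoc, e] using h)
  rw [map_mul, map_inv, inv_mul_eq_one] at h'
  exact h'

end Generic

theorem swap_succ_inj {n a b : ℕ} (ha : a + 1 < n) (hb : b + 1 < n)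
    (h : Equiv.swap (⟨a, by omega⟩ : Fin n) ⟨a + 1, ha⟩ = Equiv.swap ⟨b, by omega⟩ ⟨b + 1, hb⟩) : a = b := by
  have h1 := congrArg Fin.val (DFunLike.congr_fun h (⟨a, by omega⟩ : Fin n))
  rw [Equiv.swap_apply_left] at h1
  simp only [Equiv.swap_apply_def, Fin.ext_iff] at h1
  split_ifs at h1 <;> simp at h1 <;> omega

section Families

open UnitriangularSL BorelSp

variable {F : Type*} [Field F] [Fintype F] [CharP F p]

theorem rankGE_psl {k n : ℕ} (hk : k + 1 ≤ n) : RankGE k p (Matrix.ProjectiveSpecialLinearGroup (Fin n) F) := by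
  refine RankGE.of_surjective (G := Matrix.SpecialLinearGroup (Fin n) F) (QuotientGroup.mk' _)
    (QuotientGroup.mk'_surjective _) (QuotientGroup.ker_mk' _).le ?_
  obtain ⟨S, hS⟩ := FusionPSL.exists_sylow (F := F) (n := n) (p := p)
    (π := MonoidHom.id (Matrix.SpecialLinearGroup (Fin n) F)) Function.surjective_id
  rw [Subgroup.map_id] at hS
  refine rankGE_of_splitData SteinbergSL.splitData S hS (kernels_sl n)
    ((MonoidHom.fst _ _).comp (SteinbergSL.N F n).subtype) (fun t ht => SteinbergSL.torus_perm ht)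
    (fun a => ⟨⟨a.1, by omega⟩, by show (a : ℕ) + 1 < n; omega⟩) fun a b h => ?_
  change Equiv.swap (⟨a.1, _⟩ : Fin n) (⟨a.1 + 1, _⟩ : Fin n) = Equiv.swap _ _ at h
  exact Fin.ext (swap_succ_inj (by omega) (by omega) h)

theorem rankGE_psp {k m : ℕ} (hk : k ≤ m) : RankGE k p (Cfsg.PSp m F) := by
  refine RankGE.of_surjective (G := Sp m F) (QuotientGroup.mk' _) (QuotientGroup.mk'_surjective _)
    (QuotientGroup.ker_mk' _).le ?_
  obtain ⟨S, hS⟩ := FusionSp.exists_sylow (F := F) (m := m) (p := p)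
    (π := MonoidHom.id _) Function.surjective_id
  rw [Subgroup.map_id] at hS
  refine RankGE.mono hk (rankGE_of_splitData SteinbergSp.splitData S hS (kernels_sp m)
    ((MonoidHom.fst _ _).comp (SteinbergSp.N F m).subtype) (fun t ht => SteinbergSp.torus_perm ht)
    (fun a => if h : (a : ℕ) + 1 = m then Sum.inl ⟨a, h⟩ else Sum.inr ⟨a, by have := a.2; omega⟩) ?_)
  intro a b h
  simp only [MonoidHom.coe_comp, Function.comp_apply, Subgroup.coe_subtype, MonoidHom.coe_fst] at h
  have h1 := DFunLike.congr_fun (congrArg Prod.fst h) (Sum.inl a)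
  have h2 := DFunLike.congr_fun (congrArg Prod.fst h) (Sum.inl b)
  have ha := a.2
  have hb := b.2
  split_ifs at h1 h2 with x y <;>
    simp only [SteinbergSp.s, SteinbergSp.sperm, Sum.elim_inl, Sum.elim_inr] at h1 h2 <;>
    simp [Equiv.swap_apply_def, SteinbergSL.nx, Fin.ext_iff] at h1 h2 <;>
    first
      | exact Fin.ext (by omega)
      | (split_ifs at h1 h2 <;> simp [Fin.ext_iff] at h1 h2 <;> exact Fin.ext (by omega))
      | (simp only [apply_ite Fin.val] at h1 h2; split_ifs at h1 h2 <;> exact Fin.ext (by omega))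

end Families

section Unitary

open CfsgLib.PGroup.SUModel CfsgLib.PGroup.SURoots

variable {F : Type*} [Field F] [Fintype F] {σ : F →+* F} {n : ℕ} [CharP F p]

theorem rankGE_suj (D : Datum σ) (hn : 6 ≤ n) : RankGE 3 p (SUJ σ n) := by
  obtain ⟨S, hS⟩ := SteinbergSU.exists_sylow D (p := p) (π := MonoidHom.id (SUJ σ n)) Function.surjective_id
  rw [Subgroup.map_id] at hS
  let mid : ι n :=
    if h : 2 * ((n / 2 - 1) + 1) = n then Sum.inr (Sum.inl ⟨⟨n / 2 - 1, by omega⟩, h⟩)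
    else Sum.inr (Sum.inr ⟨⟨n / 2 - 1, by omega⟩, by show 2 * ((n / 2 - 1) + 1) + 1 = n; omega⟩)
  have hmid : ∀ x : Fin n, (x : ℕ) ≤ 1 → sperm mid x = x := by
    intro x hx
    rcases hm : mid with k | a
    · exfalso
      simp only [mid] at hm
      split_ifs at hm
    have h1 := sperm_mid_val a x
    have h2 : n / 2 - 1 ≤ (posI (Sum.inr a : ι n) : ℕ) := by
      simp only [mid] at hm
      split_ifs at hm <;> (cases hm; simp [posI])
    have := (posI (Sum.inr a : ι n)).2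
    have h3 : 2 * ((posI (Sum.inr a : ι n) : ℕ) + 1) ≤ n := by
      rcases a with a | a <;> (have := a.2; simp only [posI]; omega)
    exact Fin.ext (by omega)
  refine rankGE_of_splitData (SteinbergSU.splitData D) S hS (kernels_suj D)
    ((MonoidHom.fst _ _).comp (N σ n).subtype) (fun t ht => SteinbergSU.torus_perm ht)
    ![Sum.inl ⟨⟨0, by omega⟩, by show 2 * (0 + 2) ≤ n; omega⟩,
      Sum.inl ⟨⟨1, by omega⟩, by show 2 * (1 + 2) ≤ n; omega⟩, mid] fun a b h => ?_
  simp only [MonoidHom.coe_comp, Function.comp_apply, Subgroup.coe_subtype, MonoidHom.coe_fst, s_perm,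
    Prod.mk.injEq] at h
  have e0 := congrArg Fin.val (DFunLike.congr_fun h.1 (⟨0, by omega⟩ : Fin n))
  have e1 := congrArg Fin.val (DFunLike.congr_fun h.1 (⟨1, by omega⟩ : Fin n))
  have m0 := congrArg Fin.val (hmid ⟨0, by omega⟩ (by simp))
  have m1 := congrArg Fin.val (hmid ⟨1, by omega⟩ le_rfl)
  have s00 := sperm_short_val (⟨⟨0, by omega⟩, by show 2 * (0 + 2) ≤ n; omega⟩ : Short n) ⟨0, by omega⟩
  have s01 := sperm_short_val (⟨⟨0, by omega⟩, by show 2 * (0 + 2) ≤ n; omega⟩ : Short n) ⟨1, by omega⟩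
  have s10 := sperm_short_val (⟨⟨1, by omega⟩, by show 2 * (1 + 2) ≤ n; omega⟩ : Short n) ⟨0, by omega⟩
  have s11 := sperm_short_val (⟨⟨1, by omega⟩, by show 2 * (1 + 2) ≤ n; omega⟩ : Short n) ⟨1, by omega⟩
  simp at s00 s01 s10 s11 m0 m1
  fin_cases a <;> fin_cases b <;> simp at e0 e1 ⊢ <;> omega

end Unitary

theorem rankGE_psu {F : Type*} [Field F] [Fintype F] [CharP F p] {q : ℕ} (hF : Fintype.card F = q ^ 2) {n : ℕ}
    (hn : 6 ≤ n) : RankGE 3 p (Cfsg.PSU n F q) := by
  obtain ⟨σ, hσ, ⟨e⟩⟩ := CfsgLib.PGroup.SUModel.exists_model (n := n) hF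
  obtain ⟨D⟩ := CfsgLib.PGroup.SURoots.exists_datum hσ
  exact ((rankGE_suj (p := p) D hn).of_equiv e).of_surjective (QuotientGroup.mk' _)
    (QuotientGroup.mk'_surjective _) (QuotientGroup.ker_mk' _).le

section Orth

open QuadraticMap CfsgLib.Orth CfsgLib.PGroup.OrthFrame

variable {F : Type*} [Field F] {V : Type*} [AddCommGroup V] [Module F V] [Finite V] {m : ℕ}
  {Q : QuadraticForm F V} (φ : OrthFrame.Frame Q m)

theorem rankGE_frame (hcore : ∃ w, InCore φ w ∧ w ≠ 0) (hm : 3 ≤ m) (S : Sylow p (Om Q))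
    (hS : (S : Subgroup (Om Q)) = U φ) : RankGE 3 p (Om Q) := by
  refine rankGE_of_splitData (splitData φ hcore) S hS (kernels_frame φ hcore)
    ((MonoidHom.fst _ _).comp (N φ).subtype) (fun t ht => OrthFrame.torus_perm φ ht)
    ![Sum.inl ⟨⟨m - 1, by omega⟩, by show m - 1 + 1 = m; omega⟩,
      Sum.inr ⟨⟨0, by omega⟩, by show 0 + 1 < m; omega⟩,
      Sum.inr ⟨⟨1, by omega⟩, by show 1 + 1 < m; omega⟩] fun a b h => ?_
  simp only [MonoidHom.coe_comp, Function.comp_apply, Subgroup.coe_subtype, MonoidHom.coe_fst,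
    OrthFrame.s_perm] at h
  have e0 := DFunLike.congr_fun (congrArg Prod.snd h) (⟨0, by omega⟩ : Fin m)
  have e1 := DFunLike.congr_fun (congrArg Prod.snd h) (⟨1, by omega⟩ : Fin m)
  fin_cases a <;> fin_cases b <;>
    simp [OrthFrame.sperm, Equiv.swap_apply_def, OrthFrame.nx, Fin.ext_iff] at e0 e1 ⊢

theorem rankGE_frame_plus [Fintype F] (hW : ∀ v, core φ v = 0)
    (hX : ∀ x y c, proj x ≠ proj y → xr φ x y c ∈ commutator (orthGroup Q)) (h4 : CfsgLib.Orth.Good F V) (hm : 4 ≤ m)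
    (S : Sylow p (Om Q)) (hS : (S : Subgroup (Om Q)) = U φ) : RankGE 3 p (Om Q) := by
  refine rankGE_of_splitData (splitDataP φ hX hW h4) S hS (kernels_frame_plus φ hW hX)
    ((MonoidHom.fst _ _).comp (N φ).subtype) (fun t ht => OrthFrame.torus_perm φ ht)
    (fun a : Fin 3 => ⟨(⟨a.1, by omega⟩, false), by show (a : ℕ) + 1 < m; omega, by simp⟩) fun a b h => ?_
  simp only [MonoidHom.coe_comp, Function.comp_apply, Subgroup.coe_subtype, MonoidHom.coe_fst] at h
  have h2 := congrArg Prod.snd h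
  simp only [sP, spermP] at h2
  exact Fin.ext (swap_succ_inj (by omega) (by omega) h2)

end Orth

section OrthFamilies

open CfsgLib.Orth CfsgLib.PGroup.OrthFrame

variable {F : Type*} [Field F] [Fintype F] [CharP F p]

omit [CharP F p] in
theorem rankGE_pomega {ι : Type} [Fintype ι] [DecidableEq ι] {Qf : (ι → F) → F}
    {Q : QuadraticForm F (ι → F)} (hQf : ∀ v, Qf v = Q v) {k : ℕ} (h : RankGE k p (Om Q)) :
    RankGE k p (Cfsg.POmega F Qf) := by
  obtain ⟨e⟩ := SylowFixed.exists_omega_equiv hQf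
  exact (h.of_equiv e).of_surjective (QuotientGroup.mk' _) (QuotientGroup.mk'_surjective _)
    (QuotientGroup.ker_mk' _).le

theorem rankGE_odd {m : ℕ} (hm : 3 ≤ m) (hodd : Odd (Fintype.card F)) :
    RankGE 3 p (Cfsg.POmega F (Cfsg.quadFormOdd m F)) := by
  obtain ⟨φ, hcore, S, hS⟩ := SylowFixed.exists_odd_frame (p := p) (F := F) m hodd
  exact rankGE_pomega (oddForm_apply m) (rankGE_frame φ hcore hm S hS)

theorem rankGE_minus {m : ℕ} (hm : 3 ≤ m) (a b : F)
    (hab : ∀ z₁ z₂ : F, z₁ ^ 2 + a * z₁ * z₂ + b * z₂ ^ 2 = 0 → z₁ = 0 ∧ z₂ = 0) :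
    RankGE 3 p (Cfsg.POmega F (Cfsg.quadFormMinus m F a b)) := by
  obtain ⟨φ, hcore, S, hS⟩ := SylowFixed.exists_minus_frame (p := p) m a b hab
  exact rankGE_pomega (minusForm_apply m a b) (rankGE_frame φ hcore hm S hS)

theorem rankGE_plus {m : ℕ} (hm : 4 ≤ m) : RankGE 3 p (Cfsg.POmega F (Cfsg.quadFormPlus m F)) := by
  obtain ⟨φ, hW, hX, h4, S, hS⟩ := SylowFixed.exists_plus_frame (p := p) (F := F) m (by omega)
  exact rankGE_pomega (plusForm_apply m) (rankGE_frame_plus φ hW hX h4 hm S hS)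

end OrthFamilies

end CfsgLib.BNPair.PMinimal
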