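import Cfsg.Agent.Lib.BNPair.PMinimalBN
import Cfsg.Agent.Lib.Solvable.FrattiniFitting

/-!
A `p`-minimal group with a simple normal subgroup carrying a rigid split pair.
-/

set_option autoImplicit false

namespace CfsgLib.BNPair.PMinimal

open CfsgLib.BNPair.Exchange CfsgLib.BNPair.Basic CfsgLib.BNPair.Parabolic CfsgLib.BNPair.SylowFixed
  CfsgLib.BNPair.Overgroup

variable {p : ℕ}

/-- A rigid split pair over the Sylow subgroup `U`. -/
structure Frame {G : Type*} [Group G] (P : Cfsg.BNPair G) (U : Sylow p G) : Prop where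
  le_B : (U : Subgroup G) ≤ P.B
  conj : ∀ b ∈ P.B, ∀ u ∈ (U : Subgroup G), b * u * b⁻¹ ∈ (U : Subgroup G)
  dec : ∀ b ∈ P.B, ∃ u ∈ (U : Subgroup G), ∃ t ∈ P.B ⊓ P.N, b = u * t
  rigid : Rigid P (U : Subgroup G)

variable {G : Type*} [Group G]

/-- The elements of `U` fixing the chamber of `s`. -/
def fixU (P : Cfsg.BNPair G) (U : Subgroup G) (s : G) : Subgroup G :=
  U ⊓ P.B.comap (MulAut.conj s⁻¹).toMonoidHom

theorem mem_fixU {P : Cfsg.BNPair G} {U : Subgroup G} {s y : G} :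
    y ∈ fixU P U s ↔ y ∈ U ∧ s⁻¹ * y * s ∈ P.B := by
  simp [fixU, MulAut.conj_apply]

variable [Fact p.Prime]

/-- At least `k` distinguished generators. -/
def RankGE (k p : ℕ) (G : Type*) [Group G] : Prop :=
  ∃ (P : Cfsg.BNPair G) (U : Sylow p G), Frame P U ∧ ∃ f : Fin k → P.S, Function.Injective f

/-- Two distinguished generators which no automorphism fixing `U` exchanges. -/
def Stuck (p : ℕ) (G : Type*) [Group G] : Prop :=
  ∃ (P : Cfsg.BNPair G) (U : Sylow p G), Frame P U ∧ ∃ s t : P.S, ∀ α : MulAut G,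
    (U : Subgroup G).map α.toMonoidHom = U →
      (P.parabolic {(s : G)}).map α.toMonoidHom ≠ P.parabolic {(t : G)}

/-- Two distinguished generators with different numbers of fixed elements. -/
def Asym (p : ℕ) (G : Type*) [Group G] : Prop :=
  ∃ (P : Cfsg.BNPair G) (U : Sylow p G), Frame P U ∧ ∃ s t : P.S,
    Nat.card ↥(fixU P (U : Subgroup G) (s : G)) ≠ Nat.card ↥(fixU P (U : Subgroup G) (t : G))

omit [Fact p.Prime] in
theorem card_fixU_le {P : Cfsg.BNPair G} {U : Sylow p G} [Finite G] (hF : Frame P U) {s t : P.S} (α : MulAut G)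
    (hU : (U : Subgroup G).map α.toMonoidHom = U) (hB : P.B.map α.toMonoidHom = P.B)
    (h : (P.parabolic {(s : G)}).map α.toMonoidHom = P.parabolic {(t : G)}) :
    Nat.card ↥(fixU P (U : Subgroup G) (s : G)) ≤ Nat.card ↥(fixU P (U : Subgroup G) (t : G)) := by
  have hαs : α s ∈ P.parabolic {(t : G)} := h ▸ ⟨(s : G), mem_parabolic_gen s, rfl⟩
  rcases parabolic_singleton hαs with hb | hc
  · exfalso
    rw [← hB] at hb
    obtain ⟨x, hx, hxe⟩ := hb
    exact notMem_B_of_mem_S P s.2 (α.injective hxe ▸ hx)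
  rw [show σ P t = proj P (sN P t) from rfl, cell_proj, DoubleCoset.mem_doubleCoset] at hc
  obtain ⟨a, ha, b, hb, he⟩ := hc
  have key : ∀ y ∈ fixU P (U : Subgroup G) (s : G), a⁻¹ * α y * a ∈ fixU P (U : Subgroup G) (t : G) := by
    intro y hy
    rw [mem_fixU] at hy ⊢
    have h1 : α y ∈ (U : Subgroup G) := hU.le ⟨y, hy.1, rfl⟩
    have h2 : α ((s : G)⁻¹ * y * s) ∈ P.B := hB.le ⟨_, hy.2, rfl⟩
    refine ⟨by simpa using hF.conj a⁻¹ (P.B.inv_mem ha) _ h1, ?_⟩
    rw [map_mul, map_mul, map_inv, he] at h2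
    have h3 := P.B.mul_mem (P.B.mul_mem hb h2) (P.B.inv_mem hb)
    simpa [mul_assoc] using h3
  refine Nat.card_le_card_of_injective (fun y => ⟨_, key y.1 y.2⟩) fun y y' hyy => Subtype.ext ?_
  have := congrArg Subtype.val hyy
  simp only [mul_left_inj, mul_right_inj] at this
  exact α.injective this

theorem Frame.normalizer {P : Cfsg.BNPair G} {U : Sylow p G} [Finite G] (hF : Frame P U) :
    Subgroup.normalizer ((U : Subgroup G) : Set G) = P.B :=
  normalizer_eq_B hF.le_B hF.conj hF.dec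

theorem Frame.map_B {P : Cfsg.BNPair G} {U : Sylow p G} [Finite G] (hF : Frame P U) {α : MulAut G}
    (hU : (U : Subgroup G).map α.toMonoidHom = U) : P.B.map α.toMonoidHom = P.B := by
  rw [← hF.normalizer, Subgroup.map_equiv_normalizer_eq, hU]

theorem Asym.stuck [Finite G] (h : Asym p G) : Stuck p G := by
  obtain ⟨P, U, hF, s, t, hne⟩ := h
  refine ⟨P, U, hF, s, t, fun α hU hα => hne ?_⟩
  have hB := hF.map_B hU
  have hinv : ∀ {A A' : Subgroup G}, A.map α.toMonoidHom = A' → A'.map (α⁻¹).toMonoidHom = A := by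
    rintro A _ rfl
    rw [Subgroup.map_map, show (α⁻¹).toMonoidHom.comp α.toMonoidHom = MonoidHom.id G from
      MonoidHom.ext fun g => α.symm_apply_apply g, Subgroup.map_id]
  exact le_antisymm (card_fixU_le hF α hU hB hα) (card_fixU_le hF α⁻¹ (hinv hU) (hinv hB) (hinv hα))

theorem Frame.exists_map {H : Type*} [Group H] [Finite G] [Finite H] {P : Cfsg.BNPair G} {U : Sylow p G}
    (hF : Frame P U) (π : G →* H) (hπ : Function.Surjective π) (hker : π.ker ≤ Subgroup.center G) :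
    ∃ Q : Cfsg.BNPair H, Frame Q (U.mapSurjective hπ) ∧ Q.S = π '' P.S ∧ Q.B = P.B.map π ∧
      (∀ x, π x ∈ Q.B → x ∈ P.B) ∧ (∀ s ∈ P.S, ∀ t ∈ P.S, π s = π t → s = t) ∧
        ∀ J : Set G, (P.parabolic J).map π = Q.parabolic (π '' J) := by
  have hkB : π.ker ≤ P.B := hF.normalizer ▸ hker.trans (Subgroup.center_le_normalizer _)
  obtain ⟨Q, hQB, hQN, hQS⟩ := exists_map_pair π hπ P hkB
  have hmemB : ∀ x, π x ∈ P.B.map π → x ∈ P.B := by
    rintro x ⟨b, hb, hbe⟩
    have : b⁻¹ * x ∈ π.ker := by rw [MonoidHom.mem_ker, map_mul, map_inv, hbe, inv_mul_cancel]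
    simpa using P.B.mul_mem hb (hkB this)
  refine ⟨Q, ⟨?_, ?_, ?_, ?_⟩, hQS, hQB, fun x hx => hmemB x (hQB.le hx), fun s hs t ht e => ?_, fun J => ?_⟩
  · rw [hQB, Sylow.coe_mapSurjective]; exact Subgroup.map_mono hF.le_B
  · rw [hQB, Sylow.coe_mapSurjective]
    rintro _ ⟨b, hb, rfl⟩ _ ⟨u, hu, rfl⟩
    exact ⟨b * u * b⁻¹, hF.conj b hb u hu, by simp⟩
  · rw [hQB, hQN, Sylow.coe_mapSurjective]
    rintro _ ⟨b, hb, rfl⟩
    obtain ⟨u, hu, t, ht, rfl⟩ := hF.dec b hb
    exact ⟨π u, ⟨u, hu, rfl⟩, π t, ⟨⟨t, ht.1, rfl⟩, ⟨t, ht.2, rfl⟩⟩, map_mul π u t⟩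
  · simp only [Rigid, hQB, hQS, Sylow.coe_mapSurjective]
    rintro _ ⟨s, hs, rfl⟩ _ ⟨y, hy, rfl⟩ h _ ⟨u, hu, rfl⟩
    refine ⟨_, hF.rigid s hs y hy (hmemB _ ?_) u hu, by simp⟩
    simpa using h
  · refine P.inj s hs t ht (hmemB _ ?_)
    rw [map_mul, map_inv, e, inv_mul_cancel]; exact one_mem _
  · rw [Cfsg.BNPair.parabolic, Cfsg.BNPair.parabolic, Subgroup.map_sup, MonoidHom.map_closure, hQB]

theorem RankGE.of_surjective {k : ℕ} {H : Type*} [Group H] [Finite G] [Finite H] (π : G →* H)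
    (hπ : Function.Surjective π) (hker : π.ker ≤ Subgroup.center G) (h : RankGE k p G) : RankGE k p H := by
  obtain ⟨P, U, hF, f, hf⟩ := h
  obtain ⟨Q, hQ, hQS, -, -, hinj, -⟩ := hF.exists_map π hπ hker
  exact ⟨Q, _, hQ, fun i => ⟨π (f i), hQS ▸ ⟨_, (f i).2, rfl⟩⟩, fun i j e =>
    hf (Subtype.ext (hinj _ (f i).2 _ (f j).2 (congrArg Subtype.val e)))⟩

theorem RankGE.of_equiv {k : ℕ} {H : Type*} [Group H] [Finite G] [Finite H] (e : G ≃* H) (h : RankGE k p G) :
    RankGE k p H :=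
  h.of_surjective e.toMonoidHom e.surjective fun x hx => by
    rw [show x = 1 from e.injective (by simpa [MonoidHom.mem_ker] using hx)]
    exact one_mem _

theorem RankGE.mono {k l : ℕ} (hkl : l ≤ k) (h : RankGE k p G) : RankGE l p G := by
  obtain ⟨P, U, hF, f, hf⟩ := h
  exact ⟨P, U, hF, f ∘ Fin.castLE hkl, hf.comp (Fin.castLE_injective _)⟩

theorem Asym.of_surjective {H : Type*} [Group H] [Finite G] [Finite H] (π : G →* H)
    (hπ : Function.Surjective π) (hker : π.ker ≤ Subgroup.center G) (h : Asym p G) : Asym p H := by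
  obtain ⟨P, U, hF, s, t, hne⟩ := h
  obtain ⟨Q, hQ, hQS, hQB, hmem, -, -⟩ := hF.exists_map π hπ hker
  refine ⟨Q, _, hQ, ⟨π s, hQS ▸ ⟨_, s.2, rfl⟩⟩, ⟨π t, hQS ▸ ⟨_, t.2, rfl⟩⟩, fun he => hne ?_⟩
  set Z : Subgroup G := (U : Subgroup G) ⊓ π.ker with hZ
  have key : ∀ x : P.S, Nat.card ↥(fixU P (U : Subgroup G) (x : G)) =
      Nat.card ↥(fixU Q ((U : Subgroup G).map π) (π x)) * Nat.card ↥Z := by
    intro x
    have hle : Z ≤ fixU P (U : Subgroup G) (x : G) := fun z hz => by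
      rw [mem_fixU]
      refine ⟨hz.1, ?_⟩
      have hc := Subgroup.mem_center_iff.mp (hker hz.2) (x : G)⁻¹
      rw [hc, mul_assoc, inv_mul_cancel, mul_one]
      exact hF.le_B hz.1
    have himg : (fixU P (U : Subgroup G) (x : G)).map π = fixU Q ((U : Subgroup G).map π) (π x) := by
      ext y
      constructor
      · rintro ⟨z, hz, rfl⟩
        rw [SetLike.mem_coe, mem_fixU] at hz
        rw [mem_fixU, hQB]
        exact ⟨⟨z, hz.1, rfl⟩, _, hz.2, by simp⟩
      · intro hy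
        rw [mem_fixU] at hy
        obtain ⟨⟨z, hz, rfl⟩, hy⟩ := hy
        refine ⟨z, mem_fixU.mpr ⟨hz, hmem _ ?_⟩, rfl⟩
        simpa using hy
    let f := π.comp (fixU P (U : Subgroup G) (x : G)).subtype
    rw [← himg, show (fixU P (U : Subgroup G) (x : G)).map π = f.range by
      rw [MonoidHom.range_comp, Subgroup.range_subtype], ← (f.ker).card_mul_index, Subgroup.index_ker,
      mul_comm, show f.ker = Z.subgroupOf (fixU P (U : Subgroup G) (x : G)) from ?_,
      Nat.card_congr (Subgroup.subgroupOfEquivOfLe hle).toEquiv]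
    ext z
    exact ⟨fun hz => ⟨(mem_fixU.mp z.2).1, hz⟩, fun hz => hz.2⟩
  rw [key s, key t]
  have : ((U.mapSurjective hπ : Sylow p H) : Subgroup H) = (U : Subgroup G).map π := Sylow.coe_mapSurjective _ _
  rw [this] at he
  rw [he]

theorem Stuck.of_equiv {H : Type*} [Group H] [Finite G] [Finite H] (e : G ≃* H) (h : Stuck p G) : Stuck p H := by
  obtain ⟨P, U, hF, s, t, hne⟩ := h
  obtain ⟨Q, hQ, hQS, -, -, -, hpar⟩ := hF.exists_map e.toMonoidHom e.surjective fun x hx => by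
    rw [show x = 1 from e.injective (by simpa [MonoidHom.mem_ker] using hx)]
    exact one_mem _
  refine ⟨Q, _, hQ, ⟨e s, hQS ▸ ⟨_, s.2, rfl⟩⟩, ⟨e t, hQS ▸ ⟨_, t.2, rfl⟩⟩, fun β hU hβ => ?_⟩
  change ((U : Subgroup G).map e.toMonoidHom).map β.toMonoidHom = (U : Subgroup G).map e.toMonoidHom at hU
  let α : MulAut G := e.trans (β.trans e.symm)
  have hback : ∀ A B : Subgroup G, (A.map e.toMonoidHom).map β.toMonoidHom = B.map e.toMonoidHom →
      A.map α.toMonoidHom = B := by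
    intro A B h
    refine Subgroup.map_injective (f := e.toMonoidHom) e.injective ?_
    rw [← h, Subgroup.map_map, Subgroup.map_map]
    exact congrArg A.map (MonoidHom.ext fun g => e.apply_symm_apply _)
  refine hne α (hback _ _ hU) (hback _ _ ?_)
  rw [hpar, hpar, Set.image_singleton, Set.image_singleton]
  exact hβ

section Atoms

variable [Finite G] {P : Cfsg.BNPair G}

omit [Fact p.Prime] [Finite G] in
theorem eq_of_B_lt_of_le {M : Subgroup G} {s : P.S} (h1 : P.B ≤ M) (h2 : M ≤ P.parabolic {(s : G)}) :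
    M = P.B ∨ M = P.parabolic {(s : G)} := by
  rw [eq_parabolic P h1]
  have hsub : P.S ∩ (M : Set G) ⊆ {(s : G)} := fun x hx =>
    (inter_parabolic P (Set.singleton_subset_iff.mpr s.2)).subset ⟨hx.1, h2 hx.2⟩
  rcases Set.subset_singleton_iff_eq.mp hsub with h | h <;> rw [h]
  · exact .inl (by simp [Cfsg.BNPair.parabolic])
  · exact .inr rfl

omit [Fact p.Prime] [Finite G] in
theorem above_eq : above P.B = Set.range fun s : P.S => P.parabolic {(s : G)} := by
  have hlt : ∀ s : P.S, P.B < P.parabolic {(s : G)} := fun s => lt_of_le_of_ne le_sup_left fun h =>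
    notMem_B_of_mem_S P s.2 (h ▸ mem_parabolic_gen s)
  have hmin : ∀ s : P.S, P.B ⋖ P.parabolic {(s : G)} := fun s => ⟨hlt s, fun M h1 h2 => by
    rcases eq_of_B_lt_of_le h1.le h2.le with h | h
    · exact h1.ne h.symm
    · exact h2.ne h⟩
  ext A
  refine ⟨fun hA => ?_, by rintro ⟨s, rfl⟩; exact hmin s⟩
  have hne : (P.S ∩ (A : Set G)).Nonempty := by
    by_contra h
    rw [Set.not_nonempty_iff_eq_empty] at h
    refine (CovBy.lt hA).ne ?_
    conv_rhs => rw [eq_parabolic P (CovBy.le hA), h]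
    simp [Cfsg.BNPair.parabolic]
  obtain ⟨x, hxS, hxA⟩ := hne
  refine ⟨⟨x, hxS⟩, ?_⟩
  have hle : P.parabolic {x} ≤ A := sup_le (CovBy.le hA)
    ((Subgroup.closure_le _).mpr (Set.singleton_subset_iff.mpr hxA))
  exact ((CovBy.eq_or_eq hA (hlt ⟨x, hxS⟩).le hle).resolve_left (hlt ⟨x, hxS⟩).ne')

end Atoms

section Main

variable {X : Type*} [Group X] [Finite X] {K : Subgroup X} [K.Normal]

/-- A simple normal subgroup containing its centraliser has no normal Sylow subgroup in a `p`-minimal group. -/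
theorem normalizer_ne_top (hX : Cfsg.IsPMinimal p X) [IsSimpleGroup ↥K]
    (hC : Subgroup.centralizer (K : Set X) ≤ K) (U : Sylow p ↥K) (hne : (U : Subgroup ↥K) ≠ ⊥) :
    NK U ≠ ⊤ := by
  intro h
  haveI : (U : Subgroup ↥K).Normal := Subgroup.normalizer_eq_top_iff.mp h
  have hUtop : (U : Subgroup ↥K) = ⊤ :=
    ((inferInstance : (U : Subgroup ↥K).Normal).eq_bot_or_eq_top).resolve_left hne
  obtain ⟨S, hS, -, -⟩ := exists_sylow_over U
  have hKS : K ≤ (S : Subgroup X) := fun k hk => hS ⟨⟨k, hk⟩, hUtop.symm ▸ Subgroup.mem_top _, rfl⟩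
  haveI : (K.subgroupOf (S : Subgroup X)).Normal := Subgroup.Normal.subgroupOf inferInstance _
  have hmeet : K.subgroupOf (S : Subgroup X) ⊓ Subgroup.center ↥(S : Subgroup X) ≠ ⊥ := by
    haveI : Group.IsNilpotent ↥(S : Subgroup X) := S.2.isNilpotent
    refine CfsgLib.Solvable.FrattiniFitting.inf_center_ne_bot _ ?_
    rw [Ne, Subgroup.subgroupOf_eq_bot, disjoint_iff, inf_eq_left.mpr hKS]
    intro hbot
    exact hne ((Subgroup.eq_bot_iff_forall _).mpr fun x _ => Subtype.ext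
      (Subgroup.mem_bot.mp (hbot.le x.2)))
  let Z : Subgroup ↥K := ((Subgroup.center ↥(S : Subgroup X)).map (S : Subgroup X).subtype).subgroupOf K
  have hZS : ∀ z ∈ Z, ∀ x ∈ (S : Subgroup X), x * (z : X) = z * x := by
    rintro z ⟨w, hw, hwe⟩ x hx
    have := congrArg Subtype.val (Subgroup.mem_center_iff.mp hw ⟨x, hx⟩)
    rw [Subgroup.coe_mul, Subgroup.coe_mul] at this
    rw [show (z : X) = (w : X) from hwe.symm]
    exact this
  haveI : Z.Normal := ⟨fun z hz k => by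
    have h1 := hZS z hz (k : X) (hKS k.2)
    rwa [show k * z * k⁻¹ = z from Subtype.ext (by
      rw [Subgroup.coe_mul, Subgroup.coe_mul, h1, InvMemClass.coe_inv, mul_inv_cancel_right])]⟩
  have hZtop : Z = ⊤ := by
    refine ((inferInstance : Z.Normal).eq_bot_or_eq_top).resolve_left fun hZ => hmeet ?_
    rw [eq_bot_iff]
    rintro ⟨x, hx⟩ ⟨hxK, hxc⟩
    have h1 : (⟨x, hxK⟩ : ↥K) ∈ Z := ⟨⟨x, hx⟩, hxc, rfl⟩
    rw [hZ, Subgroup.mem_bot] at h1
    exact Subgroup.mem_bot.mpr (Subtype.ext (congrArg Subtype.val h1 : x = 1))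
  have hSK : (S : Subgroup X) ≤ K := fun x hx => hC (Subgroup.mem_centralizer_iff.mpr fun k hk =>
    (hZS ⟨k, hk⟩ (hZtop.symm ▸ Subgroup.mem_top _) x hx).symm)
  exact (hX S).1 (le_antisymm hSK hKS ▸ inferInstance)

/-- The conclusions drawn from one frame. -/
theorem of_frame (hX : Cfsg.IsPMinimal p X) [IsSimpleGroup ↥K] {P : Cfsg.BNPair ↥K} {U : Sylow p ↥K}
    (hF : Frame P U) (hne : (U : Subgroup ↥K) ≠ ⊥) (hB : NK U ≠ ⊤) :
    IsCoatom (NX U) ∧ ((∃ a b : P.S, a ≠ b) → p = 2 ∧ K ≠ ⊤) ∧ (∀ a b c : P.S, a = b ∨ b = c ∨ a = c) ∧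
      ∀ s t : P.S, ∃ α : MulAut ↥K, (U : Subgroup ↥K).map α.toMonoidHom = U ∧
        (P.parabolic {(s : ↥K)}).map α.toMonoidHom = P.parabolic {(t : ↥K)} := by
  have hBN : NK U = P.B := hF.normalizer
  have hmem : ∀ s : P.S, P.parabolic {(s : ↥K)} ∈ above (NK U) := fun s => by
    rw [hBN, above_eq]; exact ⟨s, rfl⟩
  obtain ⟨hco, htr⟩ := coatom_and_trans hX U hB (by
    rw [hBN, above_eq]
    refine eq_top_iff.mpr ((parabolic_S P).symm ▸ sup_le le_sup_left ((Subgroup.closure_le _).mpr ?_))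
    exact fun s hs => Subgroup.mem_sup_right ((le_sSup (Set.mem_range_self (⟨s, hs⟩ : P.S)) :
      P.parabolic {s} ≤ sSup (Set.range fun s : P.S => P.parabolic {(s : ↥K)})) (mem_parabolic_gen ⟨s, hs⟩))) (by
    rw [hBN, above_eq]
    intro C hC hne htop
    obtain ⟨A, ⟨s, rfl⟩, hs⟩ := Set.not_subset.mp fun h => hne (Set.Subset.antisymm hC h)
    have hle : P.B ⊔ sSup C ≤ P.parabolic (P.S \ {(s : ↥K)}) := by
      refine sup_le le_sup_left (sSup_le fun A hA => ?_)
      obtain ⟨t, rfl⟩ := hC hA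
      exact parabolic_mono P (Set.singleton_subset_iff.mpr ⟨t.2, fun h => hs (Subtype.ext h ▸ hA)⟩)
    rw [htop, top_le_iff, ← parabolic_S P] at hle
    exact ((parabolic_injective P Set.diff_subset subset_rfl hle).symm.subset s.2).2 rfl)
  have hU : ∀ g ∈ NX U, (U : Subgroup ↥K).map (MulAut.conjNormal g : MulAut ↥K).toMonoidHom = U :=
    fun g hg => map_of_mem_normalizer hg
  have haut : ∀ g ∈ NX U, ∀ u : P.S, ∃ u' : P.S,
      (P.parabolic {(u : ↥K)}).map (MulAut.conjNormal g : MulAut ↥K).toMonoidHom =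
        P.parabolic {(u' : ↥K)} := by
    intro g hg u
    have h := above_map _ (map_normalizer_of_mem U hg) (hmem u)
    rw [hBN, above_eq] at h
    obtain ⟨u', hu'⟩ := h
    exact ⟨u', hu'.symm⟩
  have htr' : ∀ s t : P.S, ∃ g : X, g ∈ NX U ∧ (∃ k : ℕ, g ^ p ^ k = 1) ∧
      (P.parabolic {(s : ↥K)}).map (MulAut.conjNormal g : MulAut ↥K).toMonoidHom = P.parabolic {(t : ↥K)} :=
    fun s t => htr _ (hmem s) _ (hmem t)
  have hrank := card_le_two hF.le_B hF.conj hF.dec hne hF.rigid (fun s t => by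
    obtain ⟨g, hg, -, he⟩ := htr' s t
    exact ⟨_, haut g hg, he⟩)
  have hinjP : ∀ {a b : P.S}, P.parabolic {(a : ↥K)} = P.parabolic {(b : ↥K)} → a = b := fun {a b} h =>
    Subtype.ext (Set.singleton_eq_singleton_iff.mp (parabolic_injective P
      (Set.singleton_subset_iff.mpr a.2) (Set.singleton_subset_iff.mpr b.2) h))
  refine ⟨hco, ?_, hrank, fun s t => ?_⟩
  · rintro ⟨a, b, hab⟩
    obtain ⟨g, hg, ⟨k, hk⟩, he⟩ := htr' a b
    set A := fun h : X => (P.parabolic {(a : ↥K)}).map (MulAut.conjNormal h : MulAut ↥K).toMonoidHom with hA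
    refine ⟨?_, fun hK => hab (hinjP ?_)⟩
    · by_contra hp
      obtain ⟨g2, hg2⟩ := haut g hg b
      have hg2a : g2 = a := by
        rcases hrank a b g2 with h | h | h
        · exact absurd h hab
        · exfalso
          subst h
          exact hab (hinjP (Subgroup.map_injective (f := (MulAut.conjNormal g : MulAut ↥K).toMonoidHom)
            (MulEquiv.injective _) (he.trans hg2.symm)))
        · exact h.symm
      rw [hg2a] at hg2
      have hodd : ∀ n : ℕ, A (g ^ (2 * n + 1)) = P.parabolic {(b : ↥K)} := by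
        intro n
        induction n with
        | zero => simpa [hA] using he
        | succ n ih =>
          have h2 : A (g ^ (2 * (n + 1) + 1)) = ((A (g ^ (2 * n + 1))).map
              (MulAut.conjNormal g : MulAut ↥K).toMonoidHom).map
                (MulAut.conjNormal g : MulAut ↥K).toMonoidHom := by
            simp only [hA, Subgroup.map_map]
            refine congrArg (fun f : ↥K →* ↥K => (P.parabolic {(a : ↥K)}).map f) ?_
            ext x
            simp [pow_succ', mul_assoc, Nat.mul_succ]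
          rw [h2, ih, hg2, he]
      obtain ⟨n, hn⟩ := ((Nat.Prime.odd_of_ne_two (Fact.out : p.Prime) hp).pow : Odd (p ^ k))
      have := hodd n
      rw [← hn, hk] at this
      refine hab (hinjP ?_)
      rw [← this]
      simp only [hA, map_one]
      exact (Subgroup.map_id _).symm
    · have hgK : g ∈ K := hK ▸ Subgroup.mem_top g
      have hgB : (⟨g, hgK⟩ : ↥K) ∈ P.B := by
        rw [← hBN]
        refine Subgroup.mem_normalizer_iff.mpr fun u => ?_
        have h1 := Subgroup.mem_normalizer_iff.mp hg (u : X)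
        rw [show g * (u : X) * g⁻¹ = ((⟨g, hgK⟩ * u * ⟨g, hgK⟩⁻¹ : ↥K) : X) from rfl] at h1
        exact ⟨fun hu => (Subgroup.mem_map_iff_mem K.subtype_injective).mp (h1.mp ⟨u, hu, rfl⟩),
          fun hu => (Subgroup.mem_map_iff_mem K.subtype_injective).mp (h1.mpr ⟨_, hu, rfl⟩)⟩
      rw [← he]
      refine (map_of_mem_normalizer ?_).symm
      refine Subgroup.mem_normalizer_iff.mpr fun x => ?_
      constructor
      · rintro ⟨y, hy, rfl⟩
        exact ⟨⟨g, hgK⟩ * y * ⟨g, hgK⟩⁻¹, mul_mem (mul_mem (Subgroup.mem_sup_left hgB) hy)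
          (inv_mem (Subgroup.mem_sup_left hgB)), rfl⟩
      · rintro ⟨y, hy, hye⟩
        refine ⟨⟨g, hgK⟩⁻¹ * y * ⟨g, hgK⟩, mul_mem (mul_mem (inv_mem (Subgroup.mem_sup_left hgB)) hy)
          (Subgroup.mem_sup_left hgB), ?_⟩
        have hye : (y : X) = g * x * g⁻¹ := hye
        show g⁻¹ * (y : X) * g = x
        rw [hye]; group
  · obtain ⟨g, hg, -, he⟩ := htr' s t
    exact ⟨_, hU g hg, he⟩

/-- A coatom for one Sylow subgroup is one for all. -/
theorem isCoatom_conj (U₀ U : Sylow p ↥K) (h : IsCoatom (NX U₀)) : IsCoatom (NX U) := by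
  obtain ⟨k, rfl⟩ := MulAction.exists_smul_eq ↥K U₀ U
  have e : NX (k • U₀) = (NX U₀).map (MulAut.conj (k : X)).toMonoidHom := by
    rw [NX, NX, Subgroup.map_equiv_normalizer_eq, Sylow.coe_subgroup_smul]
    refine congrArg (fun A : Subgroup X => Subgroup.normalizer (A : Set X)) ?_
    ext x
    constructor
    · rintro ⟨_, ⟨u, hu, rfl⟩, rfl⟩
      exact ⟨u, ⟨u, hu, rfl⟩, rfl⟩
    · rintro ⟨_, ⟨u, hu, rfl⟩, rfl⟩
      exact ⟨_, ⟨u, hu, rfl⟩, rfl⟩
  rw [e]
  exact ((MulEquiv.mapSubgroup (MulAut.conj (k : X))).isCoatom_iff _).mpr h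

variable (hX : Cfsg.IsPMinimal p X) [IsSimpleGroup ↥K] (hC : Subgroup.centralizer (K : Set X) ≤ K)
  (hdvd : p ∣ Nat.card ↥K)
include hX hC hdvd

theorem coatom_of_srigid (h : SRigid p ↥K) (U : Sylow p ↥K) : IsCoatom (NX U) := by
  obtain ⟨P, U₀, h1, h2, h3, h4⟩ := h
  have hne := U₀.ne_bot_of_dvd_card hdvd
  exact isCoatom_conj U₀ U (of_frame hX ⟨h1, h2, h3, h4⟩ hne (normalizer_ne_top hX hC U₀ hne)).1

theorem two_of_rank (h : RankGE 2 p ↥K) : p = 2 ∧ K ≠ ⊤ := by
  obtain ⟨P, U₀, hF, f, hf⟩ := h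
  have hne := U₀.ne_bot_of_dvd_card hdvd
  exact (of_frame hX hF hne (normalizer_ne_top hX hC U₀ hne)).2.1 ⟨f 0, f 1, hf.ne (by decide)⟩

theorem false_of_rank (h : RankGE 3 p ↥K) : False := by
  obtain ⟨P, U₀, hF, f, hf⟩ := h
  have hne := U₀.ne_bot_of_dvd_card hdvd
  rcases (of_frame hX hF hne (normalizer_ne_top hX hC U₀ hne)).2.2.1 (f 0) (f 1) (f 2) with h | h | h <;>
    exact absurd (hf h) (by decide)

theorem false_of_stuck (h : Stuck p ↥K) : False := by
  obtain ⟨P, U₀, hF, s, t, hst⟩ := h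
  have hne := U₀.ne_bot_of_dvd_card hdvd
  obtain ⟨α, hU, hα⟩ := (of_frame hX hF hne (normalizer_ne_top hX hC U₀ hne)).2.2.2 s t
  exact hst α hU hα

end Main

end CfsgLib.BNPair.PMinimal
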