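import Cfsg.Agent.Lib.BNPair.PMinimalExceptional
import Cfsg.Agent.Lib.BNPair.OvergroupSmall
import Mathlib.GroupTheory.SpecificGroups.Alternating.Simple

/-!
`p`-minimal groups with socle `A₆` or `L₂(8)`.
-/

set_option autoImplicit false
set_option maxRecDepth 20000

namespace CfsgLib.BNPair.PMinimal

open CfsgLib.BNPair.OvergroupSmall

section Max

variable {p : ℕ} [Fact p.Prime] {X : Type*} [Group X] [Finite X] {K : Subgroup X} [K.Normal]

/-- A maximal Sylow normaliser. -/
theorem coatom_of_coatom (hX : Cfsg.IsPMinimal p X) (U₀ U : Sylow p ↥K) (h : IsCoatom (NK U₀)) :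
    IsCoatom (NX U) := by
  have habove : above (NK U₀) = {⊤} := by
    ext A
    exact ⟨fun hA => h.2 A (CovBy.lt hA), by rintro rfl; exact covBy_top_iff.mpr h⟩
  refine isCoatom_conj U₀ U (coatom_and_trans hX U₀ h.1 (by rw [habove, sSup_singleton, sup_top_eq]) ?_).1
  intro C hC hne
  rw [habove] at hC hne
  rw [(Set.subset_singleton_iff_eq.mp hC).resolve_right hne, sSup_empty, sup_bot_eq]
  exact h.1

/-- Two overgroups of the Sylow subgroup. -/
theorem two_overgroups (hX : Cfsg.IsPMinimal 2 X) [Fact (Nat.Prime 2)] (U₀ U : Sylow 2 ↥K) (A A' : Subgroup ↥K)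
    (hN : NK U₀ = (U₀ : Subgroup ↥K)) (hne : A ≠ A') (hA : IsCoatom A) (hA' : IsCoatom A')
    (hlt : (U₀ : Subgroup ↥K) < A) (hlt' : (U₀ : Subgroup ↥K) < A')
    (hall : ∀ M, (U₀ : Subgroup ↥K) < M → M = ⊤ ∨ M = A ∨ M = A') : IsCoatom (NX U) ∧ K ≠ ⊤ := by
  have habove : above (NK U₀) = {A, A'} := by
    rw [hN]
    ext M
    constructor
    · intro hM
      rcases hall M (CovBy.lt hM) with rfl | h | h
      · exact absurd hA.1 (not_not.mpr ((CovBy.eq_or_eq hM hlt.le le_top).resolve_left hlt.ne'))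
      · exact .inl h
      · exact .inr h
    · rintro (rfl | rfl)
      · refine ⟨hlt, fun N h1 h2 => ?_⟩
        rcases hall N h1 with rfl | rfl | rfl
        · exact not_top_lt h2
        · exact lt_irrefl _ h2
        · exact hA.1 (hA'.2 _ h2)
      · refine ⟨hlt', fun N h1 h2 => ?_⟩
        rcases hall N h1 with rfl | rfl | rfl
        · exact not_top_lt h2
        · exact hA'.1 (hA.2 _ h2)
        · exact lt_irrefl _ h2
  have hB : NK U₀ ≠ ⊤ := hN ▸ (lt_top_iff_ne_top.mp (hlt.trans (lt_top_iff_ne_top.mpr hA.1)))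
  obtain ⟨hco, htr⟩ := coatom_and_trans hX U₀ hB (by
    rw [habove, sSup_pair]
    refine top_le_iff.mp (le_trans (le_of_eq ?_) le_sup_right)
    rcases lt_or_eq_of_le (le_sup_left : A ≤ A ⊔ A') with h | h
    · exact (hA.2 _ h).symm
    · exact absurd (hA'.2 A (lt_of_le_of_ne (h ▸ le_sup_right) (Ne.symm hne))) hA.1) (by
    intro C hC hCne htop
    rw [habove] at hC hCne
    obtain ⟨B, hB, hBC⟩ := Set.not_subset.mp fun h => hCne (Set.Subset.antisymm hC h)
    rw [hN] at htop
    rcases hB with rfl | rfl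
    · refine hA'.1 (top_le_iff.mp (htop ▸ sup_le hlt'.le (sSup_le fun D hD => ?_)))
      rcases hC hD with rfl | rfl
      · exact absurd hD hBC
      · exact le_rfl
    · refine hA.1 (top_le_iff.mp (htop ▸ sup_le hlt.le (sSup_le fun D hD => ?_)))
      rcases hC hD with rfl | rfl
      · exact le_rfl
      · exact absurd hD hBC)
  refine ⟨isCoatom_conj U₀ U hco, fun hK => hne ?_⟩
  obtain ⟨g, hg, -, he⟩ := htr A (habove.symm ▸ .inl rfl) A' (habove.symm ▸ .inr rfl)
  have hgK : g ∈ K := hK ▸ Subgroup.mem_top g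
  have hgN : (⟨g, hgK⟩ : ↥K) ∈ NK U₀ := by
    refine Subgroup.mem_normalizer_iff.mpr fun u => ?_
    have h1 := Subgroup.mem_normalizer_iff.mp hg (u : X)
    rw [show g * (u : X) * g⁻¹ = ((⟨g, hgK⟩ * u * ⟨g, hgK⟩⁻¹ : ↥K) : X) from rfl] at h1
    exact ⟨fun hu => (Subgroup.mem_map_iff_mem K.subtype_injective).mp (h1.mp ⟨u, hu, rfl⟩),
      fun hu => (Subgroup.mem_map_iff_mem K.subtype_injective).mp (h1.mpr ⟨_, hu, rfl⟩)⟩
  rw [hN] at hgN
  have hmem := hlt.le hgN
  refine le_antisymm ?_ ?_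
  · intro a ha
    rw [← he]
    refine ⟨⟨g, hgK⟩⁻¹ * a * ⟨g, hgK⟩, mul_mem (mul_mem (inv_mem hmem) ha) hmem, Subtype.ext ?_⟩
    show ((MulAut.conjNormal g (⟨g, hgK⟩⁻¹ * a * ⟨g, hgK⟩) : ↥K) : X) = a
    rw [coe_conjNormal]
    show g * (g⁻¹ * (a : X) * g) * g⁻¹ = a
    group
  · rw [← he]
    rintro _ ⟨a, ha, rfl⟩
    rw [show (MulAut.conjNormal g : MulAut ↥K).toMonoidHom a = ⟨g, hgK⟩ * a * ⟨g, hgK⟩⁻¹ from
      Subtype.ext (coe_conjNormal g a)]
    exact mul_mem (mul_mem hmem ha) (inv_mem hmem)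

end Max

section Alt6

/-- The alternating group of degree six. -/
abbrev Alt6 : Type := ↥(alternatingGroup (Fin 6))

/-- The setwise stabiliser of `{4, 5}`. -/
def stabPair : Subgroup Alt6 where
  carrier := {σ | ∀ i : Fin 6, (σ.1 i).val / 4 = i.val / 4}
  one_mem' _ := rfl
  mul_mem' {a b} ha hb i := (ha (b.1 i)).trans (hb i)
  inv_mem' {a} ha i := by
    have := ha (a.1⁻¹ i)
    rw [← Equiv.Perm.mul_apply, mul_inv_cancel, Equiv.Perm.one_apply] at this
    exact this.symm

/-- The stabiliser of the partition into consecutive pairs. -/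
def stabPart : Subgroup Alt6 where
  carrier := {σ | ∀ i j : Fin 6, (σ.1 i).val / 2 = (σ.1 j).val / 2 ↔ i.val / 2 = j.val / 2}
  one_mem' _ _ := Iff.rfl
  mul_mem' {a b} ha hb i j := (ha (b.1 i) (b.1 j)).trans (hb i j)
  inv_mem' {a} ha i j := by
    have := ha (a.1⁻¹ i) (a.1⁻¹ j)
    rw [← Equiv.Perm.mul_apply, ← Equiv.Perm.mul_apply, mul_inv_cancel, Equiv.Perm.one_apply,
      Equiv.Perm.one_apply] at this
    exact this.symm

instance (σ : Alt6) : Decidable (σ ∈ stabPair) :=
  inferInstanceAs (Decidable (∀ i : Fin 6, (σ.1 i).val / 4 = i.val / 4))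

instance (σ : Alt6) : Decidable (σ ∈ stabPart) :=
  inferInstanceAs (Decidable (∀ i j : Fin 6, (σ.1 i).val / 2 = (σ.1 j).val / 2 ↔ i.val / 2 = j.val / 2))

/-- The central involution. -/
def zA6 : Alt6 := ⟨Equiv.swap 0 1 * Equiv.swap 2 3, Equiv.Perm.mem_alternatingGroup.mpr (by decide)⟩

/-- An element of order four. -/
def fourA6 : Alt6 := ⟨Equiv.swap 0 2 * Equiv.swap 2 1 * Equiv.swap 1 3 * Equiv.swap 4 5,
  Equiv.Perm.mem_alternatingGroup.mpr (by decide)⟩

theorem cards_A6 : Fintype.card {x : Alt6 // x ∈ stabPair} = 24 ∧ Fintype.card {x : Alt6 // x ∈ stabPart} = 24 ∧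
    Fintype.card {x : Alt6 // x ∈ stabPair ∧ x ∈ stabPart} = 8 := by
  decide +kernel

theorem four_mem : fourA6 ∈ stabPair ∧ fourA6 ∈ stabPart ∧ zA6 ∈ stabPair ∧ zA6 ∈ stabPart ∧ zA6 ≠ 1 := by
  decide +kernel

theorem conj_z : ∀ x : Alt6, (x * zA6 * x⁻¹ ∈ stabPair ∧ x * zA6 * x⁻¹ ∈ stabPart) →
    x ∈ stabPair ∨ x ∈ stabPart := by
  decide +kernel

theorem conj_four : ∀ x : Alt6, (x * fourA6 * x⁻¹ ∈ stabPair ∧ x * fourA6 * x⁻¹ ∈ stabPart) →
    x ∈ stabPair ∧ x ∈ stabPart := by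
  decide +kernel

theorem comm_z : ∀ v : {x : Alt6 // x ∈ stabPair ∧ x ∈ stabPart}, v.1 ≠ 1 → v.1 = zA6 ∨
    ∃ u : {x : Alt6 // x ∈ stabPair ∧ x ∈ stabPart}, u.1 * v.1 * u.1⁻¹ * v.1⁻¹ = zA6 := by
  decide +kernel

theorem overgroups_A6 : ∃ (U : Sylow 2 Alt6) (A A' : Subgroup Alt6),
    Subgroup.normalizer ((U : Subgroup Alt6) : Set Alt6) = U ∧ A ≠ A' ∧ IsCoatom A ∧ IsCoatom A' ∧
      (U : Subgroup Alt6) < A ∧ (U : Subgroup Alt6) < A' ∧
        ∀ M, (U : Subgroup Alt6) < M → M = ⊤ ∨ M = A ∨ M = A' := by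
  haveI : Fact (Nat.Prime 2) := ⟨Nat.prime_two⟩
  haveI : IsSimpleGroup Alt6 := alternatingGroup.isSimpleGroup (by simp)
  obtain ⟨c1, c2, c3⟩ := cards_A6
  obtain ⟨f1, f2, z1, z2, hz⟩ := four_mem
  have hG : Nat.card Alt6 = 360 := by rw [nat_card_alternatingGroup, Nat.card_fin]; rfl
  have hA : Nat.card ↥stabPair = 24 := Nat.card_eq_fintype_card.trans c1
  have hA' : Nat.card ↥stabPart = 24 := Nat.card_eq_fintype_card.trans c2
  have hU : Nat.card ↥(stabPair ⊓ stabPart) = 2 ^ 3 :=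
    (Nat.card_congr (Equiv.subtypeEquivRight fun x : Alt6 => Subgroup.mem_inf)).trans
      (Nat.card_eq_fintype_card.trans c3)
  have hidxU : ¬ 2 ∣ (stabPair ⊓ stabPart).index := by
    have h := (stabPair ⊓ stabPart).card_mul_index
    rw [hU, hG] at h
    omega
  let U : Sylow 2 Alt6 := (IsPGroup.of_card hU).toSylow hidxU
  have hUcoe : (U : Subgroup Alt6) = stabPair ⊓ stabPart := rfl
  have hlt : (U : Subgroup Alt6) < stabPair := lt_of_le_of_ne inf_le_left fun h => by
    rw [hUcoe] at h; rw [h, hA] at hU; norm_num at hU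
  have hlt' : (U : Subgroup Alt6) < stabPart := lt_of_le_of_ne inf_le_right fun h => by
    rw [hUcoe] at h; rw [h, hA'] at hU; norm_num at hU
  have hne : stabPair ≠ stabPart := fun h => hlt.ne (by rw [hUcoe, ← h, inf_idem])
  have hN : ∀ x ∈ Subgroup.normalizer ((U : Subgroup Alt6) : Set Alt6), x ∈ (U : Subgroup Alt6) := by
    intro x hx
    have h := (Subgroup.mem_normalizer_iff.mp hx fourA6).mp ⟨f1, f2⟩
    exact conj_four x ⟨h.1, h.2⟩
  have hall : ∀ M, (U : Subgroup Alt6) < M → M = ⊤ ∨ M = stabPair ∨ M = stabPart := by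
    intro M hM
    by_cases hMtop : M = ⊤
    · exact .inl hMtop
    right
    have hdvd : Nat.card ↥(U : Subgroup Alt6) ∣ Nat.card ↥M := Subgroup.card_dvd_of_le hM.le
    have hidx : ¬ 2 ∣ M.index := fun h => hidxU (h.trans (Subgroup.index_dvd_of_le hM.le))
    have hcore : Cfsg.pCore 2 ↥M ≠ ⊥ := fun h => hMtop (eq_top_360 hG M h hidx)
    set V := (Cfsg.pCore 2 ↥M).map M.subtype with hV
    have hVM : ∀ x ∈ M, ∀ v ∈ V, x * v * x⁻¹ ∈ V := by
      rintro x hx _ ⟨v, hv, rfl⟩
      exact ⟨⟨x, hx⟩ * v * ⟨x, hx⟩⁻¹, (CfsgLib.Solvable.Cores.pCore_normal (G := ↥M) 2).conj_mem v hv _, rfl⟩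
    have hVU : V ≤ (U : Subgroup Alt6) := by
      have h1 : IsPGroup 2 ↥(V ⊔ (U : Subgroup Alt6)) := by
        refine ((CfsgLib.Solvable.Cores.isPGroup_pCore (G := ↥M) 2).map M.subtype).to_sup_of_normal_left' U.2 ?_
        intro u hu
        refine Subgroup.mem_normalizer_iff.mpr fun v => ⟨fun hv => hVM u (hM.le hu) v hv, fun hv => ?_⟩
        have := hVM u⁻¹ (inv_mem (hM.le hu)) _ hv
        rwa [show u⁻¹ * (u * v * u⁻¹) * u⁻¹⁻¹ = v by group] at this
      exact le_sup_left.trans (U.3 h1 le_sup_right).le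
    have hzV : zA6 ∈ V := by
      obtain ⟨⟨v, hv⟩, hv1⟩ : ∃ v : ↥V, v ≠ 1 := by
        have : Nontrivial ↥V := V.nontrivial_iff_ne_bot.mpr fun h =>
          hcore ((Subgroup.map_eq_bot_iff_of_injective _ M.subtype_injective).mp h)
        exact exists_ne 1
      rcases comm_z ⟨v, hVU hv⟩ (fun h => hv1 (Subtype.ext h)) with h | ⟨u, hu⟩
      · exact h ▸ hv
      · rw [← hu]
        exact mul_mem (hVM u.1 (hM.le u.2) v hv) (inv_mem hv)
    have hsub : ∀ x ∈ M, x ∈ stabPair ∨ x ∈ stabPart := fun x hx => by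
      have := hVU (hVM x hx _ hzV)
      exact conj_z x ⟨this.1, this.2⟩
    have hle : M ≤ stabPair ∨ M ≤ stabPart := by
      by_contra hcon
      rw [not_or] at hcon
      obtain ⟨a, ha, ha'⟩ := SetLike.not_le_iff_exists.mp hcon.1
      obtain ⟨b, hb, hb'⟩ := SetLike.not_le_iff_exists.mp hcon.2
      have ha2 := (hsub a ha).resolve_left ha'
      have hb2 := (hsub b hb).resolve_right hb'
      rcases hsub (a * b) (mul_mem ha hb) with h | h
      · exact ha' ((stabPair.mul_mem_cancel_right hb2).mp h)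
      · exact hb' ((stabPart.mul_mem_cancel_left ha2).mp h)
    have key : ∀ T : Subgroup Alt6, Nat.card ↥T = 24 → M ≤ T → M = T := by
      intro T hT hMT
      refine Subgroup.eq_of_le_of_card_ge hMT ?_
      have h1 : Nat.card ↥M ∣ 24 := hT ▸ Subgroup.card_dvd_of_le hMT
      have h2 : 8 < Nat.card ↥M := by
        by_contra h
        exact hM.ne (Subgroup.eq_of_le_of_card_ge hM.le (by rw [hUcoe, hU]; omega))
      rw [hUcoe, hU] at hdvd
      obtain ⟨k, hk⟩ := hdvd
      rw [hk] at h1 h2 ⊢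
      have := Nat.le_of_dvd (by norm_num) h1
      rw [hT]
      have : k = 2 ∨ k = 3 := by omega
      rcases this with rfl | rfl <;> omega
    exact hle.imp (key _ hA) (key _ hA')
  have hco : ∀ T T' : Subgroup Alt6, Nat.card ↥T = 24 → Nat.card ↥T' = 24 → (U : Subgroup Alt6) < T →
      (∀ M, (U : Subgroup Alt6) < M → M = ⊤ ∨ M = T ∨ M = T') → IsCoatom T := by
    intro T T' hT hT' hUT h
    refine ⟨fun e => by rw [e, Subgroup.card_top, hG] at hT; omega, fun M hM => ?_⟩
    rcases h M (hUT.trans hM) with e | rfl | rfl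
    · exact e
    · exact absurd hM (lt_irrefl _)
    · exact absurd (Subgroup.eq_of_le_of_card_ge hM.le (by omega)) hM.ne
  refine ⟨U, stabPair, stabPart, le_antisymm hN Subgroup.le_normalizer, hne, hco _ _ hA hA' hlt hall,
    hco _ _ hA' hA hlt' (fun M h => (hall M h).imp_right Or.symm), hlt, hlt', hall⟩

theorem case_A6 {X : Type*} [Group X] [Finite X] [Fact (Nat.Prime 2)] {K : Subgroup X} [K.Normal]
    (hX : Cfsg.IsPMinimal 2 X) (e : ↥K ≃* Alt6) (U : Sylow 2 ↥K) : IsCoatom (NX U) ∧ K ≠ ⊤ := by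
  obtain ⟨U₀, A, A', hN, hne, hA, hA', hlt, hlt', hall⟩ := overgroups_A6
  let f : Subgroup Alt6 ≃o Subgroup ↥K := MulEquiv.mapSubgroup e.symm
  have hU : ((U₀.mapSurjective (f := e.symm.toMonoidHom) e.symm.surjective : Sylow 2 ↥K) : Subgroup ↥K) = f U₀ :=
    Sylow.coe_mapSurjective _ _
  refine two_overgroups hX (U₀.mapSurjective (f := e.symm.toMonoidHom) e.symm.surjective) U (f A) (f A')
    ?_ (f.injective.ne hne) ((f.isCoatom_iff A).mpr hA) ((f.isCoatom_iff A').mpr hA') ?_ ?_ ?_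
  · show Subgroup.normalizer _ = _
    rw [hU]
    show Subgroup.normalizer (((U₀ : Subgroup Alt6).map e.symm.toMonoidHom : Subgroup ↥K) : Set ↥K) =
      (U₀ : Subgroup Alt6).map e.symm.toMonoidHom
    rw [← Subgroup.map_equiv_normalizer_eq, hN]
  · rw [hU]; exact f.lt_iff_lt.mpr hlt
  · rw [hU]; exact f.lt_iff_lt.mpr hlt'
  · intro M hM
    obtain ⟨N, rfl⟩ := f.surjective M
    rw [hU, f.lt_iff_lt] at hM
    rcases hall N hM with h | h | h
    · exact .inl (by rw [h, map_top])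
    · exact .inr (.inl (by rw [h]))
    · exact .inr (.inr (by rw [h]))

end Alt6

section Order504

variable {K : Type*} [Group K] [Finite K] [IsSimpleGroup K]

theorem coatom_504 [Fact (Nat.Prime 3)] (hK : Nat.card K = 504) (U : Sylow 3 K) :
    IsCoatom (Subgroup.normalizer ((U : Subgroup K) : Set K)) := by
  set N := Subgroup.normalizer ((U : Subgroup K) : Set K) with hN
  have hcardU : Nat.card ↥(U : Subgroup K) = 9 := card_sylow U (a := 2) (m := 56) (by omega) (by norm_num)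
  have hni : N.index = Nat.card (Sylow 3 K) := (U.card_eq_index_normalizer).symm
  obtain ⟨h1, h2, h3⟩ := sylow_cases (G := K) 3
  have hdvd : N.index ∣ 56 := by
    have h := U.card_dvd_index
    have h4 := (U : Subgroup K).card_mul_index
    rw [hcardU, hK] at h4
    rw [hni]
    rwa [show (U : Subgroup K).index = 56 by omega] at h
  have hntop : N ≠ ⊤ := by
    intro h
    haveI : (U : Subgroup K).Normal := Subgroup.normalizer_eq_top_iff.mp h
    rcases (inferInstance : (U : Subgroup K).Normal).eq_bot_or_eq_top with e | e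
    · rw [e, Subgroup.card_bot] at hcardU; omega
    · rw [e, Subgroup.card_top, hK] at hcardU; omega
  refine ⟨hntop, fun M hM => ?_⟩
  by_contra hne
  have hmod : N.index % 3 = 1 := hni ▸ card_sylow_modEq_one 3 K
  have hMd : M.index ∣ N.index := Subgroup.index_dvd_of_le hM.le
  obtain ⟨hinj, hf⟩ := card_dvd_of_simple hne
  rw [hK] at hf
  have hlt : M.index ≠ N.index := fun h => hM.ne
    (Subgroup.eq_of_le_of_card_ge hM.le (by
      have a := M.card_mul_index
      have b := N.card_mul_index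
      rw [h] at a
      have : 0 < N.index := Nat.pos_of_ne_zero Subgroup.index_ne_zero_of_finite
      exact le_of_eq (Nat.eq_of_mul_eq_mul_right this (a.trans b.symm))))
  have h1' : 1 < M.index := Subgroup.one_lt_index_of_ne_top hne
  have key : ∀ n ∈ (56 : ℕ).divisors, n % 3 = 1 → ∀ j ∈ n.divisors, j ≠ n → 1 < j →
      (j ≤ 8 → 504 ∣ j.factorial) → j = 7 ∨ n = 2 * j := by decide +kernel
  rcases key _ (mem_divisors_dvd (by norm_num) hdvd) hmod _
      (mem_divisors_dvd Subgroup.index_ne_zero_of_finite hMd) hlt h1' (fun _ => hf) with h7 | h2j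
  · -- a subgroup of index five of `A₇`
    let e : K ⧸ M ≃ Fin 7 := (Finite.equivFin _).trans (finCongr h7)
    let f : K →* Equiv.Perm (Fin 7) := e.permCongrHom.toMonoidHom.comp (MulAction.toPermHom K (K ⧸ M))
    have hfi : Function.Injective f := e.permCongrHom.injective.comp hinj
    have hker : (Equiv.Perm.sign.comp f).ker = ⊤ := by
      refine (Equiv.Perm.sign.comp f).normal_ker.eq_bot_or_eq_top.resolve_left fun hb => ?_
      have := Nat.card_le_card_of_injective _ ((MonoidHom.ker_eq_bot_iff _).mp hb)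
      rw [Nat.card_eq_fintype_card (α := ℤˣ), Fintype.card_units_int, hK] at this
      omega
    have hle : f.range ≤ alternatingGroup (Fin 7) := by
      rintro _ ⟨g, rfl⟩
      have h : g ∈ (Equiv.Perm.sign.comp f).ker := by rw [hker]; exact Subgroup.mem_top g
      exact Equiv.Perm.mem_alternatingGroup.mpr (MonoidHom.mem_ker.mp h)
    let R := f.range.subgroupOf (alternatingGroup (Fin 7))
    have hR : Nat.card ↥R = 504 := by
      rw [Nat.card_congr (Subgroup.subgroupOfEquivOfLe hle).toEquiv,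
        ← Nat.card_congr (MonoidHom.ofInjective hfi).toEquiv, hK]
    haveI : IsSimpleGroup ↥(alternatingGroup (Fin 7)) := alternatingGroup.isSimpleGroup (by simp)
    have hA7 : Nat.card ↥(alternatingGroup (Fin 7)) = 2520 := by
      rw [nat_card_alternatingGroup, Nat.card_fin]; rfl
    have hidx := R.card_mul_index
    rw [hR, hA7] at hidx
    have hRne : R ≠ ⊤ := fun h => by rw [h, Subgroup.card_top, hA7] at hR; omega
    have h := (card_dvd_of_simple hRne).2
    rw [hA7, show R.index = 5 by omega] at h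
    exact absurd h (by decide)
  · -- index two over the normaliser
    have hrel : (N.subgroupOf M).index = 2 := by
      have h := Subgroup.relIndex_mul_index hM.le
      rw [h2j] at h
      exact Nat.eq_of_mul_eq_mul_right (by omega) h
    have hnormal : (N.subgroupOf M).Normal := Subgroup.normal_of_index_eq_two hrel
    have hMN : M ≤ Subgroup.normalizer (N : Set K) := Subgroup.normal_subgroupOf_iff_le_normalizer hM.le |>.mp hnormal
    exact not_le_of_gt hM (hMN.trans (le_of_eq (Sylow.normalizer_normalizer U)))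

end Order504

end CfsgLib.BNPair.PMinimal
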