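import Cfsg.Agent.Lib.BNPair.PMinimalExceptional
import Cfsg.Agent.Lib.BNPair.OvergroupTits
import Cfsg.Agent.Lib.BNPair.AutFixUSmall

/-!
`p`-minimal groups whose socle has index two in a group with a (B,N)-pair: `U₃(3)` and the Tits group.
-/

set_option autoImplicit false
set_option maxRecDepth 20000

namespace CfsgLib.BNPair.PMinimal

open CfsgLib.BNPair.Exchange CfsgLib.BNPair.Basic CfsgLib.BNPair.Parabolic CfsgLib.BNPair.SylowFixed
  CfsgLib.BNPair.Overgroup

section Generic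

variable {G : Type*} [Group G] [Finite G] {P : Cfsg.BNPair G} {H : Subgroup G}

/-- The part in `H` of a minimal parabolic subgroup. -/
def panelIn (P : Cfsg.BNPair G) (H : Subgroup G) (s : P.S) : Subgroup ↥H :=
  (P.parabolic {(s : G)}).subgroupOf H

omit [Finite G] in
theorem le_panelIn (s : P.S) : P.B.subgroupOf H ≤ panelIn P H s := fun _ h => Subgroup.mem_sup_left h

omit [Finite G] in
theorem letter_eq {s t : P.S} {c : G} (hc : c ∈ P.B) (h : (t : G) * c ∈ P.parabolic {(s : G)}) : t = s := by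
  have h1 : (t : G) ∈ P.parabolic {(s : G)} := by
    have := mul_mem h (Subgroup.mem_sup_left (P.B.inv_mem hc) : c⁻¹ ∈ P.parabolic {(s : G)})
    simpa using this
  exact Subtype.ext (Set.mem_singleton_iff.mp
    ((inter_parabolic P (Set.singleton_subset_iff.mpr s.2)).subset ⟨t.2, h1⟩))

theorem panelIn_ne_top (hH : H.index = 2) {s t : P.S} (hst : s ≠ t)
    (hy : ∀ x : P.S, ∃ y ∈ P.B, y ∉ H ∧ (x : G)⁻¹ * y * x ∈ P.B) : panelIn P H s ≠ ⊤ := by
  intro h
  obtain ⟨y, hyB, hyH, -⟩ := hy s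
  refine hst (letter_eq (P.B.one_mem) (?_ : (t : G) * 1 ∈ _)).symm
  rw [mul_one]
  have hle : H ≤ P.parabolic {(s : G)} := Subgroup.subgroupOf_eq_top.mp h
  by_cases ht : (t : G) ∈ H
  · exact hle ht
  · have := mul_mem (hle ((Subgroup.mul_mem_iff_of_index_two hH).mpr (iff_of_false ht hyH)))
      (inv_mem (show y ∈ P.parabolic {(s : G)} from Subgroup.mem_sup_left hyB))
    simpa using this

theorem panelIn_sup (hH : H.index = 2) {s t : P.S} (hall : ∀ x : P.S, x = s ∨ x = t)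
    (hy : ∀ x : P.S, ∃ y ∈ P.B, y ∉ H ∧ (x : G)⁻¹ * y * x ∈ P.B) : panelIn P H s ⊔ panelIn P H t = ⊤ := by
  have hn : H.Normal := Subgroup.normal_of_index_eq_two hH
  set M : Subgroup G := P.parabolic {(s : G)} ⊓ H ⊔ P.parabolic {(t : G)} ⊓ H with hM
  have hnorm : P.B ≤ Subgroup.normalizer (M : Set G) := by
    have key : ∀ x : P.S, ∀ b ∈ P.B, ∀ m ∈ P.parabolic {(x : G)} ⊓ H, b * m * b⁻¹ ∈ P.parabolic {(x : G)} ⊓ H :=
      fun x b hb m hm => ⟨(P.parabolic {(x : G)}).mul_mem ((P.parabolic {(x : G)}).mul_mem (Subgroup.mem_sup_left hb) hm.1)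
        ((P.parabolic {(x : G)}).inv_mem (Subgroup.mem_sup_left hb)),
        hn.conj_mem m hm.2 b⟩
    have key2 : ∀ b ∈ P.B, M.map (MulAut.conj b).toMonoidHom ≤ M := by
      intro b hb
      rw [hM, Subgroup.map_sup]
      refine sup_le ?_ ?_
      · rintro _ ⟨m, hm, rfl⟩; exact Subgroup.mem_sup_left (key s b hb m hm)
      · rintro _ ⟨m, hm, rfl⟩; exact Subgroup.mem_sup_right (key t b hb m hm)
    intro b hb
    refine Subgroup.mem_normalizer_iff.mpr fun m => ⟨fun hm => key2 b hb ⟨m, hm, rfl⟩, fun hm => ?_⟩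
    have := key2 b⁻¹ (inv_mem hb) ⟨_, hm, rfl⟩
    simpa [mul_assoc] using this
  have hgen : ∀ x : P.S, (x : G) ∈ M ⊔ P.B := by
    intro x
    obtain ⟨c, hc, hxc⟩ : ∃ c ∈ P.B, (x : G) * c ∈ H := by
      by_cases hx : (x : G) ∈ H
      · exact ⟨1, P.B.one_mem, by simpa using hx⟩
      · obtain ⟨y, hyB, hyH, -⟩ := hy x
        exact ⟨y, hyB, (Subgroup.mul_mem_iff_of_index_two hH).mpr (iff_of_false hx hyH)⟩
    have hmem : (x : G) * c ∈ M := by
      have hP : (x : G) * c ∈ P.parabolic {(x : G)} := mul_mem (mem_parabolic_gen x) (Subgroup.mem_sup_left hc)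
      rcases hall x with rfl | rfl
      · exact Subgroup.mem_sup_left ⟨hP, hxc⟩
      · exact Subgroup.mem_sup_right ⟨hP, hxc⟩
    simpa using mul_mem (Subgroup.mem_sup_left hmem) (inv_mem (Subgroup.mem_sup_right hc : c ∈ M ⊔ P.B))
  have htop : M ⊔ P.B = ⊤ := by
    rw [eq_top_iff, ← parabolic_S P]
    exact sup_le le_sup_right ((Subgroup.closure_le _).mpr fun x hx => hgen ⟨x, hx⟩)
  have hMle : M ≤ H := sup_le inf_le_right inf_le_right
  have hMeq : ∀ g ∈ H, g ∈ M := by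
    intro g hg
    have h : g ∈ (↑(M ⊔ P.B) : Set G) := by rw [htop]; trivial
    rw [Subgroup.coe_mul_of_right_le_normalizer_left _ _ hnorm] at h
    obtain ⟨m, hm, b, hb, he⟩ := Set.mem_mul.mp h
    have hbH : b ∈ H := by
      rw [eq_inv_mul_of_mul_eq he]
      exact mul_mem (inv_mem (hMle hm)) hg
    rw [← he]
    exact mul_mem hm (Subgroup.mem_sup_left ⟨Subgroup.mem_sup_left hb, hbH⟩)
  refine eq_top_iff.mpr fun g _ => ?_
  have hle : M ≤ (panelIn P H s ⊔ panelIn P H t).map H.subtype := by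
    rw [Subgroup.map_sup]
    exact sup_le_sup (fun m hm => ⟨⟨m, hm.2⟩, hm.1, rfl⟩) (fun m hm => ⟨⟨m, hm.2⟩, hm.1, rfl⟩)
  exact (Subgroup.mem_map_iff_mem H.subtype_injective).mp (hle (hMeq g g.2))

/-- A socle of index two in a group with a rank two pair, whose automorphisms keep both panels, is impossible. -/
theorem false_of_index_two {X : Type*} [Group X] [Finite X] {K : Subgroup X} [K.Normal] [IsSimpleGroup ↥K]
    [Fact (Nat.Prime 2)] (hX : Cfsg.IsPMinimal 2 X) (hC : Subgroup.centralizer (K : Set X) ≤ K)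
    (e : ↥K ≃* ↥H) (hH : H.index = 2) (hB : IsPGroup 2 P.B) (hidx : ¬ 2 ∣ P.B.index) {s t : P.S} (hst : s ≠ t)
    (hall : ∀ x : P.S, x = s ∨ x = t) (hy : ∀ x : P.S, ∃ y ∈ P.B, y ∉ H ∧ (x : G)⁻¹ * y * x ∈ P.B)
    (hdvd : 2 ∣ Nat.card ↥K)
    (haut : ∀ α : MulAut ↥H, (P.B.subgroupOf H).map α.toMonoidHom = P.B.subgroupOf H →
      ∀ x : P.S, (panelIn P H x).map α.toMonoidHom = panelIn P H x) : False := by
  have hp : IsPGroup 2 ↥(P.B.subgroupOf H) := hB.comap_subtype
  have hi : ¬ 2 ∣ (P.B.subgroupOf H).index := by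
    intro h
    haveI : H.Normal := Subgroup.normal_of_index_eq_two hH
    have h1 : (P.B ⊓ H).relIndex H * H.index = (P.B ⊓ H).index := Subgroup.relIndex_mul_index inf_le_right
    have h2 : (P.B ⊓ H).relIndex P.B * P.B.index = (P.B ⊓ H).index := Subgroup.relIndex_mul_index inf_le_left
    rw [Subgroup.inf_relIndex_right, hH] at h1
    rw [Subgroup.inf_relIndex_left, ← h1] at h2
    have h3 : H.relIndex P.B ∣ 2 := hH ▸ Subgroup.relIndex_dvd_index_of_normal H P.B
    have h4 : 2 ^ 2 ∣ H.relIndex P.B * P.B.index := by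
      rw [h2, pow_two]
      exact Nat.mul_dvd_mul h dvd_rfl
    exact hidx (Nat.dvd_of_mul_dvd_mul_left (show 0 < 2 by norm_num)
      (pow_two 2 ▸ h4.trans (Nat.mul_dvd_mul h3 dvd_rfl)))
  let UH : Sylow 2 ↥H := hp.toSylow hi
  let U₀ : Sylow 2 ↥K := UH.mapSurjective (f := e.symm.toMonoidHom) e.symm.surjective
  have hU : (U₀ : Subgroup ↥K) = (P.B.subgroupOf H).map e.symm.toMonoidHom := Sylow.coe_mapSurjective _ _
  let f : Subgroup ↥H ≃o Subgroup ↥K := MulEquiv.mapSubgroup e.symm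
  refine false_of_two hX U₀ (normalizer_ne_top hX hC U₀ (U₀.ne_bot_of_dvd_card hdvd)) (f (panelIn P H s))
    (f (panelIn P H t)) (hU.le.trans (Subgroup.map_mono (le_panelIn s)))
    (hU.le.trans (Subgroup.map_mono (le_panelIn t)))
    (fun h => panelIn_ne_top hH hst hy (f.injective (h.trans (map_top f).symm)))
    (fun h => panelIn_ne_top hH hst.symm hy (f.injective (h.trans (map_top f).symm)))
    (by rw [← map_sup, panelIn_sup hH hall hy, map_top]) ?_
  intro g _ hg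
  set a : MulAut ↥K := MulAut.conjNormal g with ha
  set α : MulAut ↥H := e.symm.trans (a.trans e) with hα
  have hback : ∀ A : Subgroup ↥H, (f A).map a.toMonoidHom = f (A.map α.toMonoidHom) := by
    intro A
    show (A.map e.symm.toMonoidHom).map a.toMonoidHom = (A.map α.toMonoidHom).map e.symm.toMonoidHom
    rw [Subgroup.map_map, Subgroup.map_map]
    exact congrArg A.map (MonoidHom.ext fun x => (e.symm_apply_apply _).symm)
  have hαU : (P.B.subgroupOf H).map α.toMonoidHom = P.B.subgroupOf H := by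
    refine f.injective ((hback _).symm.trans ?_)
    show ((P.B.subgroupOf H).map e.symm.toMonoidHom).map a.toMonoidHom = (P.B.subgroupOf H).map e.symm.toMonoidHom
    rw [← hU]
    exact map_of_mem_normalizer hg
  exact ⟨by rw [hback, haut α hαU], by rw [hback, haut α hαU]⟩

/-- Automorphisms induced from the group keep the panels. -/
theorem aut_of_induced (hH : H.index = 2) (hy : ∀ x : P.S, ∃ y ∈ P.B, y ∉ H ∧ (x : G)⁻¹ * y * x ∈ P.B)
    (hind : ∀ α : MulAut ↥H, ∃ g : G, ∀ h : ↥H, ((α h : ↥H) : G) = g * h * g⁻¹) (α : MulAut ↥H)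
    (hα : (P.B.subgroupOf H).map α.toMonoidHom = P.B.subgroupOf H) (x : P.S) :
    (panelIn P H x).map α.toMonoidHom = panelIn P H x := by
  obtain ⟨g, hg⟩ := hind α
  have hn : H.Normal := Subgroup.normal_of_index_eq_two hH
  set N := Subgroup.normalizer ((P.B ⊓ H : Subgroup G) : Set G) with hN
  have hBN : P.B ≤ N := fun b hb => Subgroup.mem_normalizer_iff.mpr fun u =>
    ⟨fun hu => ⟨P.B.mul_mem (P.B.mul_mem hb hu.1) (P.B.inv_mem hb), hn.conj_mem u hu.2 b⟩, fun hu => ⟨by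
      have := mul_mem (mul_mem (inv_mem hb) hu.1) hb
      simpa [mul_assoc] using this, by
      have := hn.conj_mem _ hu.2 b⁻¹
      simpa [mul_assoc] using this⟩⟩
  have hS : P.S ∩ (N : Set G) = ∅ := by
    rw [Set.eq_empty_iff_forall_notMem]
    rintro s ⟨hsS, hsN⟩
    obtain ⟨y, hyB, hyH, hys⟩ := hy ⟨s, hsS⟩
    have hin : ∀ u : G, u ∈ P.B ⊓ H → s⁻¹ * u * s ∈ P.B := fun u hu => by
      have := (Subgroup.mem_normalizer_iff.mp (inv_mem hsN) u).mp hu
      simpa using this.1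
    have hb : ∀ b ∈ P.B, s⁻¹ * b * s ∈ P.B := fun b hb => by
      by_cases hbH : b ∈ H
      · exact hin b ⟨hb, hbH⟩
      · have h := mul_mem (hin (b * y⁻¹) ⟨P.B.mul_mem hb (P.B.inv_mem hyB), (Subgroup.mul_mem_iff_of_index_two hH).mpr
          (iff_of_false hbH fun h => hyH (inv_mem_iff.mp h))⟩) hys
        simpa [mul_assoc] using h
    have hb' : ∀ b ∈ P.B, s * b * s⁻¹ ∈ P.B := fun b hb0 => by
      have := mul_mem (mul_mem (P.sq_mem s hsS) (hb b hb0)) (inv_mem (P.sq_mem s hsS))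
      simpa [mul_assoc] using this
    refine P.conj_ne s hsS (Set.Subset.antisymm ?_ fun b hb0 => ?_)
    · rintro _ ⟨b, hb0, rfl⟩
      have := mul_mem (hb' b hb0) (P.sq_mem s hsS)
      simpa [mul_assoc] using this
    · refine ⟨s⁻¹ * b * s * (s * s)⁻¹, mul_mem (hb b hb0) (inv_mem (P.sq_mem s hsS)), ?_⟩
      show s * (s⁻¹ * b * s * (s * s)⁻¹) * s = b
      group
  have hgN : g ∈ N := Subgroup.mem_normalizer_iff.mpr fun u => by
    constructor
    · intro hu
      have : α ⟨u, hu.2⟩ ∈ P.B.subgroupOf H := hα.le ⟨_, hu.1, rfl⟩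
      rw [Subgroup.mem_subgroupOf, hg] at this
      exact ⟨this, hn.conj_mem u hu.2 g⟩
    · intro hu
      obtain ⟨v, hv, hve⟩ := hα.ge (show (⟨g * u * g⁻¹, hu.2⟩ : ↥H) ∈ P.B.subgroupOf H from hu.1)
      have h1 : g * (v : G) * g⁻¹ = g * u * g⁻¹ := by
        rw [← hg]; exact congrArg Subtype.val hve
      rw [← mul_left_cancel (mul_right_cancel h1)]
      exact ⟨hv, v.2⟩
  have hgB : g ∈ P.B := by
    rw [eq_parabolic P hBN, hS] at hgN
    simpa [Cfsg.BNPair.parabolic] using hgN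
  have key : ∀ (b : G), b ∈ P.B → ∀ h ∈ P.parabolic {(x : G)}, b * h * b⁻¹ ∈ P.parabolic {(x : G)} :=
    fun b hb h hh => mul_mem (mul_mem (Subgroup.mem_sup_left hb) hh) (inv_mem (show b ∈ P.parabolic {(x : G)} from Subgroup.mem_sup_left hb))
  ext h
  constructor
  · rintro ⟨a, ha, rfl⟩
    show ((α a : ↥H) : G) ∈ P.parabolic {(x : G)}
    rw [hg]
    exact key g hgB _ ha
  · intro hh
    refine ⟨α.symm h, ?_, α.apply_symm_apply h⟩
    have h1 := hg (α.symm h)
    rw [α.apply_symm_apply] at h1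
    show ((α.symm h : ↥H) : G) ∈ P.parabolic {(x : G)}
    have := key g⁻¹ (inv_mem hgB) (h : G) hh
    rw [h1] at this
    simpa [mul_assoc] using this

section Card

variable (hH : H.index = 2) (hR : Rigid P P.B) (wit : ∀ s : P.S, Witness P H s)
include hH hR wit

theorem panelIn_le_of_notMem {M : Subgroup ↥H} (hUM : P.B.subgroupOf H ≤ M) {m : ↥H} (hm : m ∈ M)
    (hmB : (m : G) ∉ P.B) : ∃ x : P.S, panelIn P H x ≤ M := by
  set M₀ := M.map H.subtype with hM₀
  have hM₀H : M₀ ≤ H := Subgroup.map_subtype_le M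
  have hUM₀ : P.B ⊓ H ≤ M₀ := fun b hb => ⟨⟨b, hb.2⟩, hUM hb.1, rfl⟩
  have hmM₀ : (m : G) ∈ M₀ := ⟨m, hm, rfl⟩
  obtain ⟨w, hw⟩ := exists_mem_cell P (m : G)
  obtain ⟨l, hl, rfl⟩ := exists_reduced (isInvGen P) w
  rcases l with _ | ⟨x, l⟩
  · exfalso
    refine hmB ?_
    have := (parabolic_eq P (Set.empty_subset P.S) (m : G)).mpr ⟨_, ?_, hw⟩
    · simpa [Cfsg.BNPair.parabolic] using this
    · simp
  obtain ⟨c, hc, hxc⟩ := letters_of_mem hH hR wit hM₀H hUM₀ (x :: l) hl hmM₀ hw x List.mem_cons_self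
  refine ⟨x, fun h hh => (Subgroup.mem_map_iff_mem H.subtype_injective).mp ?_⟩
  show (h : G) ∈ M₀
  rcases parabolic_singleton (s := x) (g := (h : G)) hh with hb | hcell
  · exact hUM₀ ⟨hb, h.2⟩
  rw [show σ P x = proj P (sN P x) from rfl, cell_proj, DoubleCoset.mem_doubleCoset] at hcell
  obtain ⟨a, ha, c1, hc1, he⟩ := hcell
  obtain ⟨u, hu, hua⟩ := exists_lift hH wit x ha
  have h1 : ((x : G) * c)⁻¹ * (u⁻¹ * h) ∈ P.B ⊓ H := by
    refine ⟨?_, H.mul_mem (H.inv_mem (hM₀H hxc)) (H.mul_mem (H.inv_mem hu.2) h.2)⟩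
    show ((x : G) * c)⁻¹ * (u⁻¹ * h) ∈ P.B
    rw [he, show ((x : G) * c)⁻¹ * (u⁻¹ * (a * ((sN P x : P.N) : G) * c1)) =
      c⁻¹ * ((x : G)⁻¹ * (u⁻¹ * a) * (sN P x : P.N)) * c1 by group]
    exact P.B.mul_mem (P.B.mul_mem (P.B.inv_mem hc) hua) hc1
  have := mul_mem (mul_mem (hUM₀ hu) hxc) (hUM₀ h1)
  simpa [mul_assoc] using this

omit hR in
theorem exists_gen (x : P.S) : ∃ c ∈ P.B, (x : G) * c ∈ H := by
  by_cases hx : (x : G) ∈ H
  · exact ⟨1, P.B.one_mem, by simpa using hx⟩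
  · exact ⟨(wit x).y, (wit x).yB, (Subgroup.mul_mem_iff_of_index_two hH).mpr (iff_of_false hx (wit x).yH)⟩

theorem map_panelIn {s t : P.S} (hst : s ≠ t) (hall : ∀ x : P.S, x = s ∨ x = t) [Fact (Nat.Prime 2)]
    (hcard : Nat.card ↥(fixU P P.B (s : G)) ≠ Nat.card ↥(fixU P P.B (t : G))) (α : MulAut ↥H)
    (hα : (P.B.subgroupOf H).map α.toMonoidHom = P.B.subgroupOf H) (x : P.S) :
    (panelIn P H x).map α.toMonoidHom = panelIn P H x := by
  have hn : H.Normal := Subgroup.normal_of_index_eq_two hH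
  have hinv : ∀ {A A' : Subgroup ↥H}, A.map α.toMonoidHom = A' → A'.map (α⁻¹).toMonoidHom = A := by
    rintro A _ rfl
    rw [Subgroup.map_map, show (α⁻¹).toMonoidHom.comp α.toMonoidHom = MonoidHom.id _ from
      MonoidHom.ext fun g => α.symm_apply_apply g, Subgroup.map_id]
  -- every panel is mapped onto a panel
  have himg : ∀ (β : MulAut ↥H), (P.B.subgroupOf H).map β.toMonoidHom = P.B.subgroupOf H → ∀ y : P.S,
      ∃ w, panelIn P H w ≤ (panelIn P H y).map β.toMonoidHom := by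
    intro β hβ y
    obtain ⟨c, hc, hyc⟩ := exists_gen hH wit y
    refine panelIn_le_of_notMem hH hR wit (hβ ▸ Subgroup.map_mono (le_panelIn y))
      (m := β ⟨_, hyc⟩) ⟨⟨_, hyc⟩, mul_mem (mem_parabolic_gen y) (Subgroup.mem_sup_left hc), rfl⟩ fun hB => ?_
    obtain ⟨v, hv, hve⟩ := hβ.ge (show β ⟨_, hyc⟩ ∈ P.B.subgroupOf H from hB)
    have hv' : (y : G) * c ∈ P.B := by rw [show v = ⟨_, hyc⟩ from β.injective hve] at hv; exact hv
    refine notMem_B_of_mem_S P y.2 ?_
    simpa using P.B.mul_mem hv' (P.B.inv_mem hc)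
  obtain ⟨w, hw⟩ := himg α hα x
  obtain ⟨r, hr⟩ := himg α⁻¹ (hinv hα) w
  have hrx : panelIn P H r ≤ panelIn P H x := by
    refine hr.trans (Subgroup.map_le_iff_le_comap.mpr fun h hh => ?_)
    obtain ⟨v, hv, rfl⟩ := hw hh
    show α.symm (α v) ∈ panelIn P H x
    rwa [α.symm_apply_apply]
  obtain rfl : r = x := by
    obtain ⟨c, hc, hrc⟩ := exists_gen hH wit r
    refine letter_eq hc (hrx (show (⟨_, hrc⟩ : ↥H) ∈ panelIn P H r from ?_))
    exact mul_mem (mem_parabolic_gen r) (Subgroup.mem_sup_left hc)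
  have heq : (panelIn P H r).map α.toMonoidHom = panelIn P H w := by
    refine le_antisymm ?_ hw
    rintro _ ⟨v, hv, rfl⟩
    obtain ⟨z, hz, hze⟩ := hr hv
    rw [← hze]
    show α (α.symm z) ∈ panelIn P H w
    rwa [α.apply_symm_apply]
  -- the numbers of fixed elements agree
  have hle : ∀ (β : MulAut ↥H), (P.B.subgroupOf H).map β.toMonoidHom = P.B.subgroupOf H → ∀ y z : P.S,
      (panelIn P H y).map β.toMonoidHom = panelIn P H z →
        Nat.card ↥((fixU P P.B (y : G)).subgroupOf H) ≤ Nat.card ↥((fixU P P.B (z : G)).subgroupOf H) := by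
    intro β hβ y z he
    obtain ⟨c, hc, hyc⟩ := exists_gen hH wit y
    set g : ↥H := ⟨_, hyc⟩ with hg
    have hgz : (β g : G) ∈ P.parabolic {(z : G)} :=
      he.le ⟨g, mul_mem (mem_parabolic_gen y) (Subgroup.mem_sup_left hc), rfl⟩
    rcases parabolic_singleton hgz with hb | hcell
    · exfalso
      obtain ⟨v, hv, hve⟩ := hβ.ge (show β g ∈ P.B.subgroupOf H from hb)
      have hv' : (y : G) * c ∈ P.B := by
        rw [show v = g from β.injective hve] at hv
        exact hv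
      refine notMem_B_of_mem_S P y.2 ?_
      simpa using P.B.mul_mem hv' (P.B.inv_mem hc)
    rw [show σ P z = proj P (sN P z) from rfl, cell_proj, DoubleCoset.mem_doubleCoset] at hcell
    obtain ⟨a, ha, b, hb, hab⟩ := hcell
    have key : ∀ v : ↥((fixU P P.B (y : G)).subgroupOf H),
        (⟨a⁻¹ * (β v.1 : ↥H) * a, by simpa using hn.conj_mem _ (β v.1).2 a⁻¹⟩ : ↥H) ∈
          (fixU P P.B (z : G)).subgroupOf H := by
      rintro ⟨v, hv⟩
      rw [Subgroup.mem_subgroupOf, mem_fixU] at hv ⊢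
      have h1 : ((β v : ↥H) : G) ∈ P.B := hβ.le ⟨v, hv.1, rfl⟩
      have h2 : ((β (g⁻¹ * v * g) : ↥H) : G) ∈ P.B := by
        refine hβ.le ⟨_, ?_, rfl⟩
        show ((y : G) * c)⁻¹ * (v : G) * ((y : G) * c) ∈ P.B
        have := P.B.mul_mem (P.B.mul_mem (P.B.inv_mem hc) hv.2) hc
        simpa [mul_assoc] using this
      refine ⟨P.B.mul_mem (P.B.mul_mem (P.B.inv_mem ha) h1) ha, ?_⟩
      rw [map_mul, map_mul, map_inv, Subgroup.coe_mul, Subgroup.coe_mul, Subgroup.coe_inv, hab] at h2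
      have := P.B.mul_mem (P.B.mul_mem hb h2) (P.B.inv_mem hb)
      simpa [mul_assoc] using this
    refine Nat.card_le_card_of_injective (fun v => ⟨_, key v⟩) fun v v' hvv => Subtype.ext (β.injective ?_)
    have := congrArg (fun u => ((u : ↥H) : G)) (congrArg Subtype.val hvv)
    simp only [mul_left_inj, mul_right_inj] at this
    exact Subtype.ext this
  have hdouble : ∀ y : P.S,
      Nat.card ↥((fixU P P.B (y : G)).subgroupOf H) * 2 = Nat.card ↥(fixU P P.B (y : G)) := by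
    intro y
    set A := fixU P P.B (y : G)
    have h1 : (H.subgroupOf A).index = 2 := Subgroup.index_eq_two_iff.mpr
      ⟨⟨(wit y).y, mem_fixU.mpr ⟨(wit y).yB, (wit y).fix⟩⟩, fun b => by
        show Xor ((b : G) * (wit y).y ∈ H) ((b : G) ∈ H)
        rw [Subgroup.mul_mem_iff_of_index_two hH]
        have := (wit y).yH
        rw [xor_iff_iff_not]
        tauto⟩
    have e : ↥(A.subgroupOf H) ≃ ↥(H.subgroupOf A) :=
      { toFun := fun v => ⟨⟨v.1.1, v.2⟩, v.1.2⟩
        invFun := fun v => ⟨⟨v.1.1, v.2⟩, v.1.2⟩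
        left_inv := fun _ => rfl
        right_inv := fun _ => rfl }
    rw [Nat.card_congr e]
    conv_rhs => rw [← (H.subgroupOf A).card_mul_index, h1]
  by_cases hwr : w = r
  · rw [heq, hwr]
  exfalso
  have h1 := le_antisymm (hle α hα r w heq) (hle α⁻¹ (hinv hα) w r (hinv heq))
  have h2 : Nat.card ↥(fixU P P.B (r : G)) = Nat.card ↥(fixU P P.B (w : G)) := by
    rw [← hdouble, ← hdouble, h1]
  rcases hall r with rfl | rfl <;> rcases hall w with rfl | rfl
  · exact hwr rfl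
  · exact hcard h2
  · exact hcard h2.symm
  · exact hwr rfl

end Card

end Generic

section U33

open CfsgLib.Chevalley CfsgLib.Chevalley.Tbl CfsgLib.Chevalley.G2Two CfsgLib.BNPair.AutFixU

local notation "T2" => Data.G2.tbl

set_option maxHeartbeats 1000000 in
/-- The pair of `G₂(2)`, for any datum equal to that of the table. -/
theorem g2_pair : ∀ D : Cfsg.Lie.ChevalleyDatum, (T2).datum = D →
    ∃ (P : Cfsg.BNPair ↥(D.group (ZMod 2))) (s t : P.S), s ≠ t ∧ (∀ x : P.S, x = s ∨ x = t) ∧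
      IsPGroup 2 P.B ∧ ¬ 2 ∣ P.B.index ∧
      (∀ g, g ∈ P.B ↔ (g : GL D.Idx (ZMod 2)) ∈ D.posUnipotent (ZMod 2)) ∧
      ∃ y ∈ P.B, ((y : GL D.Idx (ZMod 2)) : Matrix D.Idx D.Idx (ZMod 2)) = D.x (ZMod 2) 8 1 ∧
        ∀ x : P.S, (x : ↥(D.group (ZMod 2)))⁻¹ * y * x ∈ P.B := by
  rintro _ rfl
  haveI : Fact (Nat.Prime 2) := ⟨Nat.prime_two⟩
  have hT := Data.G2.valid
  have hC := Data.G2.chkComm
  obtain ⟨U, hF, hU⟩ := frame_chev (p := 2) (F := ZMod 2) hT hC
  set P := bnPair hT hC (ZMod 2)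
  have hBU : P.B = U := by
    refine le_antisymm (fun b hb => ?_) hF.le_B
    obtain ⟨u, hu, t, ⟨htB, htN⟩, rfl⟩ := hF.dec b hb
    have htd : (t : GL (T2).I (ZMod 2)) ∈ (T2).datum.diagonalSubgroup (ZMod 2) :=
      borel_inf_monomial (T := T2) (F := ZMod 2) hT ▸ (⟨htB, htN⟩ : (t : GL (T2).I (ZMod 2)) ∈
        (T2).datum.borelSubgroup (ZMod 2) ⊓ (T2).datum.monomialSubgroup (ZMod 2))
    obtain ⟨χ, -, hχ⟩ := diag_exists_char hT htd
    have ht1 : t = 1 := Subtype.ext (hχ ▸ Units.ext (by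
      show Matrix.diagonal (fun i => ((T2).scale χ i : ZMod 2)) = 1
      rw [← Matrix.diagonal_one]
      congr 1
      funext i
      exact congrArg Units.val (Subsingleton.elim ((T2).scale χ i) 1)))
    rw [ht1, mul_one]
    exact hu
  let n : Fin (T2).rank → P.S := fun i =>
    ⟨⟨(T2).nU (ZMod 2) ((T2).simple i) 1, nU_mem_group hT (simple_lt hT i.2) 1⟩, simple_mem_S hT hC i⟩
  have h8 : (8 : ℕ) < (T2).n := by decide +kernel
  let y : ↥((T2).datum.group (ZMod 2)) := ⟨(T2).xU (ZMod 2) 8 1, xU_mem_group hT h8 1⟩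
  have hmem : ∀ {g : ↥((T2).datum.group (ZMod 2))},
      (g : GL (T2).I (ZMod 2)) ∈ (T2).datum.posUnipotent (ZMod 2) → g ∈ P.B := fun hg => by
    rw [hBU, hU]; exact hg
  have hxU : ∀ r : ℕ, r < (T2).n → (T2).half ≤ r → ∀ c : ZMod 2,
      (T2).xU (ZMod 2) r c ∈ (T2).datum.posUnipotent (ZMod 2) := fun r hr hp c => by
    rw [posUnipotent_rootGen hT]; exact xU_mem_rootGen (P := fun r => (T2).half ≤ r) hr hp c
  have hy : y ∈ P.B := hmem (hxU 8 h8 (by decide +kernel) 1)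
  have hS : ∀ x : P.S, ∃ i, x = n i := by
    rintro ⟨x, i, hi, hx⟩
    exact ⟨⟨i, hi⟩, Subtype.ext (Subtype.ext ((eq_nMat_simple_iff hT hi _).mp hx))⟩
  refine ⟨P, n ⟨0, by decide +kernel⟩, n ⟨1, by decide +kernel⟩, fun h => ?_, fun x => ?_, ?_, ?_,
    fun g => by rw [hBU, hU]; rfl, y, hy, (x_eq_val hT h8 1).symm, fun x => ?_⟩
  · have h1 : (T2).nU (ZMod 2) ((T2).simple 0) 1 = (T2).nU (ZMod 2) ((T2).simple 1) 1 :=
      congrArg (fun z : P.S => ((z : ↥((T2).datum.group (ZMod 2))) : GL (T2).I (ZMod 2))) h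
    have h2 := simple_inv_mul_mem (F := ZMod 2) hT (i := ⟨0, by decide +kernel⟩) (j := ⟨1, by decide +kernel⟩)
      (by show (_ : GL (T2).I (ZMod 2))⁻¹ * _ ∈ _; rw [h1, inv_mul_cancel]; exact one_mem _)
    exact absurd (congrArg Fin.val h2) (by decide)
  · obtain ⟨i, rfl⟩ := hS x
    rcases (by decide +kernel : ∀ i : Fin (T2).rank, i.val = 0 ∨ i.val = 1) i with h | h
    · exact .inl (congrArg n (Fin.ext h))
    · exact .inr (congrArg n (Fin.ext h))
  · rw [hBU]; exact U.2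
  · rw [hBU]; exact U.not_dvd_index
  · obtain ⟨i, rfl⟩ := hS x
    obtain ⟨k, hk⟩ := (mono_nU_simple (F := ZMod 2) hT i).conj ⟨8, h8⟩
    have hpos : (T2).half ≤ ((T2).refP hT i ⟨8, h8⟩).val := by
      have key : ∀ i : Fin (T2).rank, (T2).half ≤ (T2).refl i 8 := by decide +kernel
      exact key i
    have hconj : (n i : ↥((T2).datum.group (ZMod 2))) * y * (n i : ↥((T2).datum.group (ZMod 2)))⁻¹ ∈ P.B := by
      refine hmem ?_
      have h1 := (hk 1).1
      show (T2).nU (ZMod 2) ((T2).simple i) 1 * (T2).xU (ZMod 2) 8 1 *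
        ((T2).nU (ZMod 2) ((T2).simple i) 1)⁻¹ ∈ _
      rw [h1, mul_inv_cancel_right]
      exact hxU _ (Fin.is_lt _) hpos _
    have hsq := P.sq_mem _ (n i).2
    have := P.B.mul_mem (P.B.mul_mem (P.B.inv_mem hsq) hconj) hsq
    simpa [mul_assoc] using this

theorem x8_notMem {g : G2F2}
    (hg : ((g : GL Cfsg.Lie.chevG2.Idx (ZMod 2)) : Matrix Cfsg.Lie.chevG2.Idx Cfsg.Lie.chevG2.Idx (ZMod 2)) =
      Cfsg.Lie.chevG2.x (ZMod 2) 8 1) : g ∉ commutator G2F2 := by
  intro h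
  obtain ⟨a, ha, -, hpa⟩ := exists_root (show 8 < 12 by norm_num)
  obtain rfl : g = a := Subtype.ext (Units.ext (hg.trans ha.symm))
  have h1 : psi g ∈ N := G2Two.map_commutator_eq ▸ Subgroup.mem_map_of_mem psi h
  have hf : rootFrob 8 = true := by decide +kernel
  have e : psi g = phi (rootU 8) * sigma := Equiv.ext fun i => gv_inj (by
    have := phi_root 8 i
    rw [rootSrc, hf] at this
    rw [hpa]
    exact congrArg gv this.symm)
  rw [e, Subgroup.mul_mem_cancel_left _ (show phi (rootU 8) ∈ N from ⟨_, rfl⟩)] at h1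
  have hT : T ≤ N := by
    rintro p (hp | hp)
    · exact hp
    · exact (N.mul_mem_cancel_right h1).mp hp
  have := Subgroup.card_le_of_le hT
  rw [card_T, card_N] at this
  omega

set_option maxHeartbeats 1000000 in
theorem case_U33 {X : Type*} [Group X] [Finite X] {K : Subgroup X} [K.Normal] [IsSimpleGroup ↥K]
    [Fact (Nat.Prime 2)] (hX : Cfsg.IsPMinimal 2 X) (hC : Subgroup.centralizer (K : Set X) ≤ K)
    (hdvd : 2 ∣ Nat.card ↥K) (e : ↥K ≃* ↥(commutator G2F2)) : False := by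
  obtain ⟨P, s, t, hst, hall, hB, hidx, hmemB, y, hyB, hy8, hys⟩ :=
    g2_pair Cfsg.Lie.chevG2 Data.G2.datum_eq
  have hidx2 : (commutator G2F2).index = 2 := by
    have := (commutator G2F2).card_mul_index
    rw [card_derived, card_G2F2] at this
    omega
  have hyD : y ∉ commutator G2F2 := x8_notMem hy8
  set D := commutator G2F2 with hD
  haveI : D.Normal := Subgroup.normal_of_index_eq_two hidx2
  have hy : ∀ x : P.S, ∃ y ∈ P.B, y ∉ D ∧ (x : G2F2)⁻¹ * y * x ∈ P.B := fun x => ⟨y, hyB, hyD, hys x⟩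
  refine false_of_index_two hX hC e hidx2 hB hidx hst hall hy hdvd
    (aut_of_induced hidx2 hy fun α => ?_)
  let c : G2F2 →* MulAut ↥D := MulAut.conjNormal
  have hc : ∀ (g : G2F2) (d : ↥D), ((c g d : ↥D) : G2F2) = g * d * g⁻¹ := fun g d => MulAut.conjNormal_apply g d
  haveI := simple_U3
  have hcD : Subgroup.center ↥D = ⊥ := by
    refine (Subgroup.eq_bot_iff_forall _).mpr fun x hx => isoTwo.injective ?_
    have h2 : isoTwo x ∈ Subgroup.center U3 := Subgroup.mem_center_iff.mpr fun z => by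
      have := congrArg isoTwo (Subgroup.mem_center_iff.mp hx (isoTwo.symm z))
      simpa using this
    rw [center_U3, Subgroup.mem_bot] at h2
    rw [h2, map_one]
  have hK : ∀ k ∈ c.ker, k ∈ D → k = 1 := fun k hk hkD => by
    have : (⟨k, hkD⟩ : ↥D) ∈ Subgroup.center ↥D := Subgroup.mem_center_iff.mpr fun d => by
      refine Subtype.ext ?_
      have h := congrArg Subtype.val (DFunLike.congr_fun (MonoidHom.mem_ker.mp hk) d)
      rw [hc, MulAut.one_apply] at h
      exact (mul_inv_eq_iff_eq_mul.mp h).symm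
    rw [hcD, Subgroup.mem_bot] at this
    exact congrArg Subtype.val this
  have hkB : c.ker ≤ P.B := by
    have h2 : IsPGroup 2 c.ker := fun k => ⟨1, Subtype.ext (by
      rw [pow_one, pow_two, Subgroup.coe_mul, OneMemClass.coe_one]
      exact hK _ (mul_mem k.2 k.2) ((Subgroup.mul_mem_iff_of_index_two hidx2).mpr Iff.rfl))⟩
    let S : Sylow 2 G2F2 := hB.toSylow hidx
    exact le_sup_left.trans (S.3 (h2.to_sup_of_normal_left S.2) le_sup_right).le
  have hinj : Function.Injective c := by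
    refine (injective_iff_map_eq_one c).mpr fun k hk => ?_
    refine hK k hk (center_sylow_G2 ((hmemB k).mp (hkB hk)) fun x _ => ?_)
    have h1 : k * x * k⁻¹ * x⁻¹ ∈ D := by
      have := hidx2
      simp only [Subgroup.mul_mem_iff_of_index_two hidx2, inv_mem_iff]
      tauto
    have h2 : k * x * k⁻¹ * x⁻¹ ∈ c.ker := by
      rw [mul_assoc k, mul_assoc k]
      exact mul_mem hk ((MonoidHom.normal_ker c).conj_mem _ (inv_mem hk) x)
    exact mul_inv_eq_iff_eq_mul.mp (mul_inv_eq_one.mp (hK _ h2 h1))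
  have hcard : Nat.card (MulAut ↥D) ≤ Nat.card G2F2 := by
    have e := isoTwo.trans toPSU
    rw [Nat.card_congr (MulAut.congr e).toEquiv, card_G2F2]
    have h := Cfsg.Agent.S0815.result (F := F9) (q := 3) 3 1 le_rfl (by norm_num)
      (F9.card_F9.trans (by norm_num)) 3 le_rfl (by norm_num)
    rw [← Nat.card_congr toPSU.toEquiv, card_U3] at h
    haveI : Fact (Nat.Prime 3) := ⟨Nat.prime_three⟩
    norm_num at h
    omega
  obtain ⟨g, hg⟩ := ((Nat.bijective_iff_injective_and_card c).mpr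
    ⟨hinj, le_antisymm (Nat.card_le_card_of_injective c hinj) hcard⟩).2 α
  exact ⟨g, fun d => hg ▸ hc g d⟩

end U33

section Tits

open CfsgLib.Chevalley CfsgLib.Chevalley.Tbl CfsgLib.Chevalley.TitsGroup CfsgLib.Chevalley.Twist.F4

theorem case_tits {X : Type*} [Group X] [Finite X] {K : Subgroup X} [K.Normal] [IsSimpleGroup ↥K]
    [Fact (Nat.Prime 2)] (hX : Cfsg.IsPMinimal 2 X) (hC : Subgroup.centralizer (K : Set X) ≤ K)
    (hdvd : 2 ∣ Nat.card ↥K) (e : ↥K ≃* ↥(commutator TG)) : False := by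
  let w : Fin 2 → BN.S := fun j => ⟨gRep (hV hK2) j, gRep_mem (hV hK2) j⟩
  have hw : ∀ x : BN.S, x = w 0 ∨ x = w 1 := by
    intro x
    obtain ⟨j, hj⟩ := exists_gRep (hV hK2) x
    rcases (by decide : ∀ j : Fin 2, j = 0 ∨ j = 1) j with rfl | rfl
    · exact .inl (Subtype.ext hj)
    · exact .inr (Subtype.ext hj)
  have hidx : ¬ 2 ∣ BN.B.index := by
    intro h
    have h1 := BN.B.card_mul_index
    rw [card_BN_B, card_TG] at h1
    omega
  have hd : Data.F4.tbl.datum.diagonalSubgroup (ZMod 2) = ⊥ := by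
    rw [Subgroup.eq_bot_iff_card]
    have h := Tbl.diag_order Data.F4.valid (F := ZMod 2) (q := 2) (ZMod.card 2) Data.F4.chkSmith
    simp only [show (2 : ℕ) - 1 = 1 from rfl, one_pow] at h
    exact Nat.eq_one_of_mul_eq_one_left h
  have hBU : BN.B = (Data.F4.tbl.datum.posUnipotent (ZMod 2) ⊓ (Twist.F4.S hK2).fix).subgroupOf
      (Twist.F4.S hK2).fix := by
    show (Data.F4.tbl.datum.borelSubgroup (ZMod 2) ⊓ (Twist.F4.S hK2).fix).subgroupOf _ = _
    rw [Cfsg.Lie.ChevalleyDatum.borelSubgroup, hd, sup_bot_eq]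
  have hne : Nat.card ↥(fixU BN BN.B (w 0 : TG)) ≠ Nat.card ↥(fixU BN BN.B (w 1 : TG)) := by
    intro he
    rw [hBU] at he
    have a := card_fix_mul (hV hK2) (0 : Fin 2)
    have b := card_fix_mul (hV hK2) (1 : Fin 2)
    have e' := Nat.eq_of_mul_eq_mul_left Nat.card_pos ((congrArg (· * _) he.symm).trans (a.trans b.symm))
    have h0 := (Twist.F4.card_Uw hK2 ((Twist.F4.S hK2).wJ (Twist.F4.O hK2) (0 : Fin 2)) (Twist.wJ_mem _ _ _)).2
    have h1 := (Twist.F4.card_Uw hK2 ((Twist.F4.S hK2).wJ (Twist.F4.O hK2) (1 : Fin 2)) (Twist.wJ_mem _ _ _)).2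
    have e'' := (h0.symm.trans (e'.trans h1))
    rw [Twist.F4.invN_wJ hK2 0 Twist.F4.negList0 (by decide),
      Twist.F4.invN_wJ hK2 1 Twist.F4.negList1 (by decide)] at e''
    norm_num at e''
  have hwne : w 0 ≠ w 1 := fun h => hne (by rw [h])
  have wit : ∀ x : BN.S, Witness BN (commutator TG) x := fun x => Classical.choice (by
    obtain ⟨j, hj⟩ := exists_gRep (hV hK2) x
    rw [show x = ⟨gRep (hV hK2) j, gRep_mem (hV hK2) j⟩ from Subtype.ext hj]
    exact exists_witness j)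
  exact false_of_index_two hX hC e (index_commutator crit) (IsPGroup.of_card card_BN_B) hidx hwne hw
    (fun x => ⟨(wit x).y, (wit x).yB, (wit x).yH, (wit x).fix⟩) hdvd
    (map_panelIn (index_commutator crit) rigid_TG wit hwne hw hne)

end Tits

end CfsgLib.BNPair.PMinimal
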