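import Cfsg.Agent.Lib.BNPair.PMinimalLie

/-!
The two distinguished generators of the four and five dimensional unitary groups fix different numbers of
elements of the Sylow subgroup.
-/

set_option autoImplicit false
set_option maxRecDepth 10000

namespace CfsgLib.BNPair.PMinimal

open CfsgLib.BNPair.Overgroup CfsgLib.PGroup CfsgLib.PGroup.SteinbergModule

variable {p : ℕ} [Fact p.Prime]

section Generic

variable {G : Type*} [Group G] {N : Type*} [Group N] {ν : N →* G} {ε : N →* ℤˣ} {B U : Subgroup G} {ι : Type*}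
  {s : ι → N} {R : ι → Set G}

/-- Two root groups of different orders. -/
theorem asym_of_splitData [Finite G] (hd : SplitData ν ε B U s R) (S : Sylow p G) (hS : (S : Subgroup G) = U)
    (hker : Kernels ν U s R) {i j : ι} (hmul : ∀ k, (k = i ∨ k = j) → ∀ x ∈ R k, ∀ y ∈ R k, x * y⁻¹ ∈ R k)
    (hne : Nat.card ↥(R i) ≠ Nat.card ↥(R j)) : Asym p G := by
  obtain ⟨K, hK, hKU, hKR⟩ := hker
  obtain ⟨P, h1, h2, h3, h4, -, hfull, -, hPB⟩ := exists_rigid_full hd S hS K hK hKU hKR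
  choose x hx hxe using hfull
  have hfix : ∀ k y, y ∈ fixU P (S : Subgroup G) (x k) ↔ y ∈ U ∧ (ν (s k))⁻¹ * y * ν (s k) ∈ B := by
    intro k y
    rw [mem_fixU, hS, hPB]
    have hb : (x k)⁻¹ * ν (s k) ∈ B := hPB ▸ hxe k
    refine and_congr_right fun _ => ⟨fun h => ?_, fun h => ?_⟩
    · simpa [mul_assoc] using B.mul_mem (B.mul_mem (B.inv_mem hb) h) hb
    · simpa [mul_assoc] using B.mul_mem (B.mul_mem hb h) (B.inv_mem hb)
  have key : ∀ k, (k = i ∨ k = j) →
      Nat.card ↥(fixU P (S : Subgroup G) (x k)) * Nat.card ↥(R k) = Nat.card ↥U := by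
    intro k hk
    rw [← Nat.card_prod]
    refine Nat.card_eq_of_bijective (fun z => (⟨z.1.1 * z.2.1,
      U.mul_mem ((hfix k _).mp z.1.2).1 (hd.root_le k _ z.2.2)⟩ : ↥U)) ⟨?_, ?_⟩
    · rintro ⟨⟨a, ha⟩, ⟨r, hr⟩⟩ ⟨⟨a', ha'⟩, ⟨r', hr'⟩⟩ he
      have he : a * r = a' * r' := congrArg Subtype.val he
      have hmemf : r * r'⁻¹ ∈ fixU P (S : Subgroup G) (x k) := by
        have e2 : r * r'⁻¹ = a⁻¹ * a' := by
          calc r * r'⁻¹ = a⁻¹ * (a * r) * r'⁻¹ := by group
            _ = a⁻¹ * (a' * r') * r'⁻¹ := by rw [he]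
            _ = a⁻¹ * a' := by group
        rw [e2]
        exact mul_mem (inv_mem ha) ha'
      have hr1 : r * r'⁻¹ = 1 := by
        by_contra hne1
        set T := ν (s k) with hT
        have hTT : T * T ∈ B := hd.sq k
        obtain ⟨a, ha, t, ht, b, hb, he⟩ := hd.rank_one k _ (hmul k hk r hr r' hr') hne1
        have hTB : T ∉ B := fun h => by
          have h1 := (hd.torus _ h).1
          rw [hd.sign] at h1
          exact absurd h1 (by decide)
        apply hTB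
        have h1 : T * (r * r'⁻¹) * T ∈ B := by
          have := B.mul_mem hTT ((hfix k _).mp hmemf).2
          simpa [hT, mul_assoc] using this
        rw [hT, he] at h1
        have := B.mul_mem (B.mul_mem (B.inv_mem (B.mul_mem (hd.U_le (hd.root_le k a ha)) ht)) h1)
          (B.inv_mem (hd.U_le (hd.root_le k b hb)))
        simpa [hT, mul_assoc] using this
      obtain rfl : r = r' := mul_inv_eq_one.mp hr1
      obtain rfl : a = a' := mul_right_cancel he
      rfl
    · rintro ⟨u, hu⟩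
      obtain ⟨r, hr, hy⟩ := hKR k u hu
      refine ⟨(⟨u * r⁻¹, (hfix k _).mpr ⟨U.mul_mem hu (U.inv_mem (hd.root_le k r hr)), ?_⟩⟩, ⟨r, hr⟩),
        Subtype.ext (by simp)⟩
      have hTT : ν (s k) * ν (s k) ∈ B := hd.sq k
      have h5 := B.mul_mem (B.mul_mem (B.inv_mem hTT) (hd.U_le (hK k _ hy))) hTT
      simpa [mul_assoc] using h5
  refine ⟨P, S, ⟨h1, h2, h3, h4⟩, ⟨x i, hx i⟩, ⟨x j, hx j⟩, fun he => hne ?_⟩
  have he : Nat.card ↥(fixU P (S : Subgroup G) (x i)) = Nat.card ↥(fixU P (S : Subgroup G) (x j)) := he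
  have e := (key i (.inl rfl)).trans (key j (.inr rfl)).symm
  rw [he] at e
  exact Nat.eq_of_mul_eq_mul_left Nat.card_pos e

end Generic

section Unitary

open CfsgLib.PGroup.SUModel CfsgLib.PGroup.SURoots

variable {F : Type*} [Field F] [Fintype F] {σ : F →+* F} {n : ℕ} (D : Datum σ)

theorem short_root_mul (k : Short n) : ∀ x ∈ R D (.inl k : ι n), ∀ y ∈ R D (.inl k : ι n),
    x * y⁻¹ ∈ R D (.inl k : ι n) := by
  rintro _ ⟨c, rfl⟩ _ ⟨d, rfl⟩
  refine ⟨c - d, ?_⟩
  simp only [eq_mul_inv_iff_mul_eq, ← map_mul]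
  refine congrArg _ (ext' ?_)
  rw [coe_mul, x4_coe, x4_coe, x4_coe]
  ext a b
  fin_cases a <;> fin_cases b <;> simp [Matrix.mul_apply, Fin.sum_univ_four] <;> ring

theorem mid2_root_mul (a : Mid2 n) : ∀ x ∈ R D (.inr (.inl a) : ι n), ∀ y ∈ R D (.inr (.inl a) : ι n),
    x * y⁻¹ ∈ R D (.inr (.inl a) : ι n) := by
  rintro _ ⟨b, hb, rfl⟩ _ ⟨c, hc, rfl⟩
  have h : (b - c) + σ (b - c) = 0 := by rw [map_sub]; linear_combination hb - hc
  refine ⟨b - c, h, ?_⟩
  rw [mul_inv_eq_iff_eq_mul, ← map_mul]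
  refine congrArg _ (ext' ?_)
  rw [coe_mul]
  show !![1, b; 0, 1] = !![1, b - c; 0, 1] * !![1, c; 0, 1]
  ext i j
  fin_cases i <;> fin_cases j <;> simp [Matrix.mul_apply, Fin.sum_univ_two]

theorem mid3_root_mul (a : Mid3 n) : ∀ x ∈ R D (.inr (.inr a) : ι n), ∀ y ∈ R D (.inr (.inr a) : ι n),
    x * y⁻¹ ∈ R D (.inr (.inr a) : ι n) := by
  rintro _ ⟨v, b, hb, rfl⟩ _ ⟨w, c, hc, rfl⟩
  have h : (b - c + (v - w) * σ w) + σ (b - c + (v - w) * σ w) + (v - w) * σ (v - w) = 0 := by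
    simp only [map_add, map_sub, map_mul, D.conj.invol]
    linear_combination hb - hc
  refine ⟨v - w, _, h, ?_⟩
  rw [mul_inv_eq_iff_eq_mul, ← map_mul]
  refine congrArg _ (ext' ?_)
  rw [coe_mul]
  show !![1, v, b; 0, 1, -σ v; 0, 0, 1] =
    !![1, v - w, b - c + (v - w) * σ w; 0, 1, -σ (v - w); 0, 0, 1] * !![1, w, c; 0, 1, -σ w; 0, 0, 1]
  ext i j
  fin_cases i <;> fin_cases j <;> simp [Matrix.mul_apply, Fin.sum_univ_three] <;> ring

theorem card_short (k : Short n) : Nat.card ↥(R D (.inl k : ι n)) = Nat.card F := by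
  refine Nat.card_range_of_injective fun c d h => ?_
  have h := congrArg (fun g : SUJ σ n => g.1.1 (f4 k 0) (f4 k 1)) h
  simp only [e4, embU_apply_image, x4_coe] at h
  simpa using h

theorem card_mid2_lt (a : Mid2 n) : Nat.card ↥(R D (.inr (.inl a) : ι n)) < Nat.card F := by
  classical
  refine lt_of_le_of_lt (Nat.card_le_card_of_surjective (fun b : {b : F // b + σ b = 0} =>
    (⟨e2 a (x2 b.1 b.2), b.1, b.2, rfl⟩ : ↥(R D (.inr (.inl a) : ι n)))) ?_) ?_
  · rintro ⟨_, b, hb, rfl⟩; exact ⟨⟨b, hb⟩, rfl⟩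
  · obtain ⟨c, hc⟩ := D.conj.exists_trace_ne_zero
    rw [Nat.card_eq_fintype_card, Nat.card_eq_fintype_card]
    exact Fintype.card_subtype_lt hc

theorem lt_card_mid3 (a : Mid3 n) : Nat.card F < Nat.card ↥(R D (.inr (.inr a) : ι n)) := by
  choose b hb using fun x : F => D.conj.exists_trace_eq (a := -(x * σ x)) (by
    rw [map_neg, D.conj.norm_fixed])
  have hmem : ∀ z : F × Bool, (b z.1 + cond z.2 D.δ 0) + σ (b z.1 + cond z.2 D.δ 0) + z.1 * σ z.1 = 0 := by
    rintro ⟨x, z⟩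
    cases z <;> simp only [cond_true, cond_false, map_add, map_zero, add_zero]
    · linear_combination hb x
    · linear_combination hb x + D.δ_skew
  let f : F × Bool → ↥(R D (.inr (.inr a) : ι n)) := fun z => ⟨e3 a (x3 D.conj _ _ (hmem z)), _, _, _, rfl⟩
  have hinj : Function.Injective f := by
    rintro ⟨x, z⟩ ⟨y, z'⟩ h
    have h1 := congrArg (fun g : ↥(R D (.inr (.inr a) : ι n)) => g.1.1.1 (f3 a 0) (f3 a 1)) h
    have h2 := congrArg (fun g : ↥(R D (.inr (.inr a) : ι n)) => g.1.1.1 (f3 a 0) (f3 a 2)) h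
    simp only [f, e3, embU_apply_image] at h1 h2
    change (!![1, x, _; 0, 1, _; 0, 0, 1] : Matrix (Fin 3) (Fin 3) F) 0 1 =
      (!![1, y, _; 0, 1, _; 0, 0, 1] : Matrix (Fin 3) (Fin 3) F) 0 1 at h1
    change (!![1, x, b x + cond z D.δ 0; 0, 1, _; 0, 0, 1] : Matrix (Fin 3) (Fin 3) F) 0 2 =
      (!![1, y, b y + cond z' D.δ 0; 0, 1, _; 0, 0, 1] : Matrix (Fin 3) (Fin 3) F) 0 2 at h2
    simp at h1 h2
    subst h1
    have h3 : cond z D.δ 0 = cond z' D.δ 0 := add_left_cancel h2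
    cases z <;> cases z' <;> simp [D.δ_ne, D.δ_ne.symm] at h3 ⊢
  have h := Nat.card_le_card_of_injective f hinj
  rw [Nat.card_prod, Nat.card_eq_fintype_card (α := Bool), Fintype.card_bool] at h
  have := Nat.card_pos (α := F)
  omega

include D in
theorem asym_suj [CharP F p] (hn : n = 4 ∨ n = 5) : Asym p (SUJ σ n) := by
  obtain ⟨S, hS⟩ := SteinbergSU.exists_sylow D (p := p) (π := MonoidHom.id (SUJ σ n)) Function.surjective_id
  rw [Subgroup.map_id] at hS
  let k : Short n := ⟨⟨0, by omega⟩, by show 2 * (0 + 2) ≤ n; omega⟩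
  rcases hn with rfl | rfl
  · let a : Mid2 4 := ⟨1, rfl⟩
    refine asym_of_splitData (SteinbergSU.splitData D) S hS (kernels_suj D) (i := .inl k) (j := .inr (.inl a))
      ?_ (by rw [card_short]; exact (card_mid2_lt D a).ne')
    rintro _ (rfl | rfl)
    exacts [short_root_mul D k, mid2_root_mul D a]
  · let a : Mid3 5 := ⟨1, rfl⟩
    refine asym_of_splitData (SteinbergSU.splitData D) S hS (kernels_suj D) (i := .inl k) (j := .inr (.inr a))
      ?_ (by rw [card_short]; exact (lt_card_mid3 D a).ne)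
    rintro _ (rfl | rfl)
    exacts [short_root_mul D k, mid3_root_mul D a]

theorem stuck_psu {F : Type*} [Field F] [Fintype F] [CharP F p] {q : ℕ} (hF : Fintype.card F = q ^ 2) {n : ℕ}
    (hn : n = 4 ∨ n = 5) : Stuck p (Cfsg.PSU n F q) := by
  obtain ⟨σ, hσ, ⟨e⟩⟩ := CfsgLib.PGroup.SUModel.exists_model (n := n) hF
  obtain ⟨D⟩ := CfsgLib.PGroup.SURoots.exists_datum hσ
  exact (((asym_suj (p := p) D hn).of_surjective e.toMonoidHom e.surjective (fun x hx => by
      rw [show x = 1 from e.injective (by simpa [MonoidHom.mem_ker] using hx)]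
      exact one_mem _)).of_surjective (QuotientGroup.mk' _) (QuotientGroup.mk'_surjective _)
        (QuotientGroup.ker_mk' _).le).stuck

end Unitary

end CfsgLib.BNPair.PMinimal
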