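import Cfsg.Agent.Lib.BNPair.TameInter

/-!
The blocks of a simple group with a rigid split (B,N)-pair have defect zero or full defect in its defining
characteristic: a defect group is a tame intersection `P ∩ P^y` with `y` centralizing it (Green), and such an
intersection is trivial or a Sylow subgroup.
-/

set_option autoImplicit false
set_option linter.unusedSectionVars false
set_option linter.style.haveILetI false

namespace CfsgLib.BNPair.TameInter

open Cfsg CfsgLib.Blocks CfsgLib.BNPair.Basic CfsgLib.BNPair.SylowFixed CfsgLib.BNPair.Overgroup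
open scoped Classical

variable {G : Type*} [Group G] [Fintype G] {p : ℕ} {M : Ideal AlgInt} {B : Set (IrrCharacter G)}

/-- Green: a defect group is a tame intersection of two Sylow subgroups conjugate by an element centralizing
it. -/
theorem exists_tame_inter (hM : IsPModular p M) (hB : IsPBlock M B) {D : Subgroup G}
    (hD : IsDefectGroup p M B D) :
    ∃ (P : Sylow p G) (y : G), y ∈ Subgroup.centralizer (D : Set G) ∧
      D = (P : Subgroup G) ⊓ (P : Subgroup G).map (MulAut.conj y).toMonoidHom ∧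
      ∀ S : Sylow p G, Nat.card ((S : Subgroup G) ⊓ Subgroup.normalizer (D : Set G) : Subgroup G) ≤
        Nat.card ((P : Subgroup G) ⊓ Subgroup.normalizer (D : Set G) : Subgroup G) := by
  haveI := Fact.mk hM.1
  set N := Subgroup.normalizer (D : Set G)
  haveI : (D.subgroupOf N).Normal := normal_subgroupOf_of_le_normalizer Subgroup.le_normalizer le_rfl
  obtain ⟨b, ⟨hb, hbD, -⟩, -⟩ := existsUnique_correspondent hM hB hD
  obtain ⟨S⟩ : Nonempty (Sylow p N) := inferInstance
  obtain ⟨y, -, hyD, -, hy⟩ := exists_sylow_inter_eq hM hb hbD S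
  obtain ⟨P, hP⟩ := (S.isPGroup'.map N.subtype).exists_le_sylow
  have hPS : (P : Subgroup G).subgroupOf N = (S : Subgroup N) :=
    S.is_maximal' P.isPGroup'.comap_subtype fun x hx => hP ⟨x, hx, rfl⟩
  have hyC : (y : G) ∈ Subgroup.centralizer (D : Set G) := Subgroup.mem_centralizer_iff.mpr fun d hd =>
    congrArg Subtype.val (Subgroup.mem_centralizer_iff.mp hyD ⟨d, Subgroup.le_normalizer hd⟩ hd)
  refine ⟨P, y, hyC, ?_, fun T => ?_⟩
  · set Q := (P : Subgroup G) ⊓ (P : Subgroup G).map (MulAut.conj (y : G)).toMonoidHom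
    have hQN : ∀ x : G, x ∈ Q → x ∈ N → x ∈ D := by
      rintro x ⟨hxP, z, hz, hzx⟩ hxN
      change (y : G) * z * (y : G)⁻¹ = x at hzx
      have hzN : z ∈ N := by
        rw [show z = (y : G)⁻¹ * x * y by rw [← hzx]; group]
        exact N.mul_mem (N.mul_mem (N.inv_mem y.2) hxN) y.2
      have h1 : (⟨x, hxN⟩ : N) ∈ (S : Subgroup N) ⊓ (S : Subgroup N).map (MulAut.conj y).toMonoidHom :=
        ⟨hPS ▸ hxP, ⟨z, hzN⟩, hPS ▸ hz, Subtype.ext hzx⟩
      rw [hy] at h1
      exact h1
    have hDQ : D ≤ Q := by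
      intro x hx
      have hxN : x ∈ N := Subgroup.le_normalizer hx
      have h1 : (⟨x, hxN⟩ : N) ∈ (S : Subgroup N) ⊓ (S : Subgroup N).map (MulAut.conj y).toMonoidHom := by
        rw [hy]; exact hx
      obtain ⟨h2, z, hz, hzx⟩ := h1
      exact ⟨hP ⟨_, h2, rfl⟩, z, hP ⟨z, hz, rfl⟩, congrArg Subtype.val hzx⟩
    refine le_antisymm hDQ ?_
    by_contra hne
    haveI : Group.IsNilpotent Q := (P.isPGroup'.to_le inf_le_left : IsPGroup p Q).isNilpotent
    have hlt : D.subgroupOf Q < ⊤ := lt_top_iff_ne_top.2 fun h => hne (Subgroup.subgroupOf_eq_top.1 h)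
    obtain ⟨x, hxN, hxD⟩ := SetLike.exists_of_lt (Group.normalizerCondition_of_isNilpotent _ hlt)
    refine hxD (hQN x x.2 (Subgroup.mem_normalizer_iff.2 fun d => ⟨fun hd => ?_, fun hd => ?_⟩))
    · exact (Subgroup.mem_normalizer_iff.1 hxN ⟨d, hDQ hd⟩).1 hd
    · have hdQ : d ∈ Q := by
        have h := mul_mem (mul_mem (inv_mem x.2) (hDQ hd)) x.2
        simpa [mul_assoc] using h
      exact (Subgroup.mem_normalizer_iff.1 hxN ⟨d, hdQ⟩).2 hd
  · have hcard : ∀ H : Subgroup G, Nat.card (H ⊓ N : Subgroup G) = Nat.card (H.subgroupOf N) := fun H => by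
      rw [← Subgroup.subgroupOf_map_subtype, Subgroup.card_map_of_injective (Subgroup.subtype_injective N)]
    rw [hcard, hcard, hPS]
    obtain ⟨T', hT'⟩ := (IsPGroup.comap_subtype T.isPGroup' (K := N)).exists_le_sylow
    refine (Nat.le_of_dvd Nat.card_pos (Subgroup.card_dvd_of_le hT')).trans (le_of_eq ?_)
    rw [Sylow.card_eq_multiplicity, Sylow.card_eq_multiplicity]

variable [IsSimpleGroup G] [Fact p.Prime]

/-- Defect zero or full defect. -/
theorem defect_zero_or_full (hG : SRigid p G) (hM : IsPModular p M) (hB : IsPBlock M B) :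
    blockDefect p B = 0 ∨ blockDefect p B = (Nat.card G).factorization p := by
  obtain ⟨BN, U, hUB, hconj, hdec, hR⟩ := hG
  obtain ⟨D, hD⟩ := exists_isDefectGroup hM hB
  obtain ⟨P, y, hyC, hDP, htame⟩ := exists_tame_inter hM hB hD
  obtain ⟨x, hx⟩ := MulAction.exists_smul_eq G P U
  obtain ⟨w, hw⟩ := exists_mem_cell BN (x * y * x⁻¹)
  obtain ⟨n₀, rfl⟩ := QuotientGroup.mk'_surjective (T BN) w
  obtain ⟨u, hu, c, hc, huc⟩ := cell_form hdec n₀ hw
  obtain ⟨u₃, hu₃, t, ht, rfl⟩ := hdec c hc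
  set n : BN.N := n₀ * ⟨t, ht.2⟩ with hn
  set g := u⁻¹ * x with hg
  set v := t⁻¹ * u₃ * t * u with hv
  have hvU : v ∈ (U : Subgroup G) := mul_mem (by simpa using hconj t⁻¹ (BN.B.inv_mem ht.1) u₃ hu₃) hu
  have hgy : g * y * g⁻¹ = (n : G) * v := by
    rw [show g * y * g⁻¹ = u⁻¹ * (x * y * x⁻¹) * u by rw [hg]; group, huc, hn, hv, Subgroup.coe_mul]
    group
  have hPU : ∀ z, z ∈ (P : Subgroup G) ↔ g * z * g⁻¹ ∈ (U : Subgroup G) := by
    intro z
    have h1 : z ∈ (P : Subgroup G) ↔ x * z * x⁻¹ ∈ (U : Subgroup G) := by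
      rw [← hx, Sylow.coe_subgroup_smul, Subgroup.mem_pointwise_smul_iff_inv_smul_mem]
      simp [MulAut.smul_def, mul_assoc]
    rw [h1, show g * z * g⁻¹ = u⁻¹ * (x * z * x⁻¹) * u by rw [hg]; group]
    rw [Subgroup.mul_mem_cancel_right _ hu, Subgroup.mul_mem_cancel_left _ (inv_mem hu)]
  set f := (MulAut.conj g).toMonoidHom with hf
  have hfapp : ∀ z, f z = g * z * g⁻¹ := fun z => rfl
  set D' := D.map f with hD'
  have hmem : ∀ z, f z ∈ D' ↔ z ∈ D := fun z => Subgroup.mem_map_iff_mem (MulAut.conj g).injective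
  have hsurj : ∀ z, ∃ z', f z' = z := fun z => ⟨(MulAut.conj g).symm z, (MulAut.conj g).apply_symm_apply z⟩
  have hN : (Subgroup.normalizer (D : Set G)).map f = Subgroup.normalizer (D' : Set G) := by
    ext z
    obtain ⟨z, rfl⟩ := hsurj z
    rw [Subgroup.mem_map_iff_mem (f := f) (MulAut.conj g).injective, Subgroup.mem_normalizer_iff,
      Subgroup.mem_normalizer_iff]
    constructor
    · intro h d
      obtain ⟨d, rfl⟩ := hsurj d
      rw [← map_inv, ← map_mul, ← map_mul, hmem, hmem]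
      exact h d
    · intro h d
      have := h (f d)
      rwa [← map_inv, ← map_mul, ← map_mul, hmem, hmem] at this
  have hDU : ∀ z, z ∈ D' ↔ z ∈ (U : Subgroup G) ∧ (n : G)⁻¹ * z * n ∈ (U : Subgroup G) := by
    intro z
    obtain ⟨z, rfl⟩ := hsurj z
    rw [hmem, hDP, Subgroup.mem_inf, hPU, hfapp, Subgroup.mem_map]
    have key : (∃ a ∈ (P : Subgroup G), (MulAut.conj y).toMonoidHom a = z) ↔
        (n : G)⁻¹ * (g * z * g⁻¹) * n ∈ (U : Subgroup G) := by
      have e : (n : G)⁻¹ * (g * z * g⁻¹) * n = v * (g * (y⁻¹ * z * y) * g⁻¹) * v⁻¹ := by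
        rw [show (n : G) = g * y * g⁻¹ * v⁻¹ by rw [hgy]; group]
        group
      rw [e, Subgroup.mul_mem_cancel_right _ (inv_mem hvU), Subgroup.mul_mem_cancel_left _ hvU, ← hPU]
      constructor
      · rintro ⟨a, ha, rfl⟩
        simpa [mul_assoc] using ha
      · intro h
        exact ⟨_, h, by simp [mul_assoc]⟩
    rw [key]
  have hc' : ∀ z ∈ D', z * ((n : G) * v) = (n : G) * v * z := by
    intro z hz
    obtain ⟨z, rfl⟩ := hsurj z
    rw [← hgy, show g * y * g⁻¹ = f y from rfl, ← map_mul, ← map_mul,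
      Subgroup.mem_centralizer_iff.mp hyC z ((hmem z).mp hz)]
  have hUmap : (P : Subgroup G).map f = (U : Subgroup G) := by
    ext z
    obtain ⟨z, rfl⟩ := hsurj z
    rw [Subgroup.mem_map_iff_mem (f := f) (MulAut.conj g).injective, hPU, hfapp]
  have htame' : ∀ S : Sylow p G, Nat.card ((S : Subgroup G) ⊓ Subgroup.normalizer (D' : Set G) : Subgroup G) ≤
      Nat.card ((U : Subgroup G) ⊓ Subgroup.normalizer (D' : Set G) : Subgroup G) := by
    intro S
    have h1 := htame (g⁻¹ • S)
    have hS : ((g⁻¹ • S : Sylow p G) : Subgroup G).map f = (S : Subgroup G) := by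
      ext z
      obtain ⟨z, rfl⟩ := hsurj z
      rw [Subgroup.mem_map_iff_mem (f := f) (MulAut.conj g).injective, Sylow.coe_subgroup_smul,
        Subgroup.mem_pointwise_smul_iff_inv_smul_mem, hfapp]
      simp [MulAut.smul_def, mul_assoc]
    rw [← Subgroup.card_map_of_injective (f := f) (MulAut.conj g).injective,
      ← Subgroup.card_map_of_injective (f := f) (MulAut.conj g).injective
        (K := (P : Subgroup G) ⊓ _),
      Subgroup.map_inf _ _ _ (MulAut.conj g).injective, Subgroup.map_inf _ _ _ (MulAut.conj g).injective,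
      hS, hUmap, hN] at h1
    exact h1
  have hcard : Nat.card D' = p ^ blockDefect p B := by
    rw [hD', Subgroup.card_map_of_injective (MulAut.conj g).injective, card_defectGroup hM hB hD]
  rcases eq_bot_or_eq hUB hconj hdec hR n hvU hDU hc' htame' with h | h
  · rw [h, Subgroup.card_bot] at hcard
    exact .inl (Nat.pow_right_injective hM.1.two_le (hcard.symm.trans (pow_zero p).symm))
  · rw [h, Sylow.card_eq_multiplicity] at hcard
    exact .inr (Nat.pow_right_injective hM.1.two_le hcard.symm)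

end CfsgLib.BNPair.TameInter
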