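import Cfsg.Agent.Lib.BNPair.LocalBlocks
import Cfsg.Agent.Lib.PGroup.GreenInter

/-!
In a simple group with a rigid split (B,N)-pair let `D = U ∩ n U n⁻¹` be such that some `n v`, `v ∈ U`, centralizes
`D` and such that `U ∩ N(D)` is a Sylow subgroup of `N(D)`. Then `D` is trivial or equal to `U`.

A generator `t` with `ℓ (t w) > ℓ w` commutes with `w`, as the element fixing the half apartment of `t` lies in
`D`. For a generator `s` with `ℓ (s w) < ℓ w` the tameness gives an element of `N(D)` mapping `B` to `s B`.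
If `s` and `t` do not commute, the two facts contradict each other, and so simplicity leaves the two extremes.

With the theorem of Green on defect groups this gives that the blocks of such a group have defect zero or full
defect.
-/

set_option autoImplicit false
set_option linter.unusedSectionVars false
set_option linter.style.haveILetI false

namespace CfsgLib.BNPair.TameInter

open CfsgLib.BNPair.Basic CfsgLib.BNPair.Parabolic CfsgLib.BNPair.SylowFixed CfsgLib.BNPair.Exchange
open CfsgLib.BNPair.Overgroup CfsgLib.BNPair.LocalBlocks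

variable {p : ℕ} [Fact p.Prime] {G : Type*} [Group G] [Finite G] {P : Cfsg.BNPair G}

omit [Fact p.Prime] [Finite G] in
/-- A shortest element of a coset `W_J m` is left reduced. -/
theorem len_add_of_min {J : Set G} {m : W P} (hmin : ∀ a ∈ WJ P J, ℓ P m ≤ ℓ P (a * m)) :
    ∀ l : List P.S, Reduced (isInvGen P) l → (∀ s ∈ l, (s : G) ∈ J) →
      ℓ P ((l.map (σ P)).prod * m) = l.length + ℓ P m := by
  intro l
  induction l with
  | nil => simp
  | cons s l ih =>
    intro hl hJ
    rw [List.forall_mem_cons] at hJ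
    have hr := reduced_tail (isInvGen P) hl
    have ih := ih hr hJ.2
    obtain ⟨k, hk, hke⟩ := exists_reduced (isInvGen P) m
    have hklen : ℓ P m = k.length := by rw [← hke]; exact hk
    have hprod : ((l ++ k).map (σ P)).prod = (l.map (σ P)).prod * m := by
      rw [List.map_append, List.prod_append, hke]
    have hred : Reduced (isInvGen P) (l ++ k) := by
      show len (isInvGen P) _ = _
      rw [hprod, List.length_append, ← hklen]
      exact ih
    rw [List.map_cons, List.prod_cons, mul_assoc, List.length_cons]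
    have h0 := len_gen_mul_le (isInvGen P) s ((l.map (σ P)).prod * m)
    by_contra hne
    obtain ⟨j, hj, hje⟩ := hasExchange P s _ hred (by
      rw [hprod, List.length_append]
      simp only [ℓ] at *
      omega)
    have h1 := prod_eraseIdx_of_exchange s (l ++ k) j hje
    rcases Nat.lt_or_ge j l.length with hjl | hjl
    · rw [List.eraseIdx_append_of_lt_length hjl, List.map_append, List.map_append, List.prod_append,
        List.prod_append, ← mul_assoc, mul_left_inj] at h1
      have hl' : ℓ P (σ P s * (l.map (σ P)).prod) = l.length + 1 := hl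
      rw [h1, mul_mul (isInvGen P)] at hl'
      have := len_le (isInvGen P) (l.eraseIdx j)
      rw [List.length_eraseIdx_of_lt hjl] at this
      simp only [ℓ] at hl'
      omega
    · rw [List.eraseIdx_append_of_length_le hjl, hprod, List.map_append, List.prod_append] at h1
      set a : W P := (l.map (σ P)).prod with ha
      have haJ : a ∈ WJ P J := list_prod_mem fun y hy => by
        obtain ⟨t, ht, rfl⟩ := List.mem_map.mp hy
        exact Subgroup.subset_closure ⟨t, hJ.2 t ht, rfl⟩
      have hsJ : σ P s ∈ WJ P J := Subgroup.subset_closure ⟨s, hJ.1, rfl⟩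
      have he : ((k.eraseIdx (j - l.length)).map (σ P)).prod = a⁻¹ * σ P s * a * m := by
        rw [mul_assoc (a⁻¹ * σ P s), h1, mul_assoc a⁻¹, mul_mul (isInvGen P), inv_mul_cancel_left]
      have h2 := len_le (isInvGen P) (k.eraseIdx (j - l.length))
      rw [List.length_append] at hj
      rw [List.length_eraseIdx_of_lt (by omega), he] at h2
      have h3 := hmin _ (mul_mem (mul_mem (inv_mem haJ) hsJ) haJ)
      simp only [ℓ] at *
      omega

omit [Fact p.Prime] in
/-- An element without descents in `J` is shortest in its coset. -/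
theorem len_add_of_no_descent {J : Set G} {m : W P}
    (hno : ∀ s : P.S, (s : G) ∈ J → ℓ P m < ℓ P (σ P s * m)) {a : W P} (ha : a ∈ WJ P J) :
    ℓ P (a * m) = ℓ P a + ℓ P m := by
  obtain ⟨a₀, ha₀, hmin⟩ := Set.exists_min_image (WJ P J : Set (W P)) (fun b => ℓ P (b * m)) (Set.toFinite _)
    ⟨1, one_mem _⟩
  have hmin' : ∀ b ∈ WJ P J, ℓ P (a₀ * m) ≤ ℓ P (b * (a₀ * m)) := fun b hb => by
    rw [← mul_assoc]; exact hmin _ (mul_mem hb ha₀)
  have key := len_add_of_min hmin'
  obtain ⟨l, hl, hle, hlJ⟩ := exists_reduced_WJ P (inv_mem ha₀)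
  have hm : ℓ P m = l.length + ℓ P (a₀ * m) := by
    rw [← key l hl hlJ, hle, inv_mul_cancel_left]
  cases l with
  | nil =>
    rw [List.map_nil, List.prod_nil] at hle
    have : a₀ = 1 := inv_eq_one.mp hle.symm
    subst this
    simp only [one_mul] at key
    obtain ⟨l', hl', hle', hlJ'⟩ := exists_reduced_WJ P ha
    have := key l' hl' hlJ'
    rw [hle'] at this
    rw [this, ← hle']
    exact congrArg (· + _) hl'.symm
  | cons s l =>
    exfalso
    rw [List.forall_mem_cons] at hlJ
    have h1 := hno s hlJ.1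
    have h2 : σ P s * m = (l.map (σ P)).prod * (a₀ * m) := by
      have : (l.map (σ P)).prod = σ P s * a₀⁻¹ := by
        rw [← hle, List.map_cons, List.prod_cons, mul_mul (isInvGen P)]
      rw [this, mul_assoc, inv_mul_cancel_left]
    rw [h2, key l (reduced_tail (isInvGen P) hl) hlJ.2, hm, List.length_cons] at h1
    omega

omit [Fact p.Prime] in
/-- If `t` commutes with `w` and `s` with `ℓ (s w) < ℓ w` does not commute with `t`, then `ℓ (t s w) ≤ ℓ (s w)`. -/
theorem len_le_of_commute {s t : P.S} (hst : σ P s * σ P t ≠ σ P t * σ P s) {w : W P}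
    (hs : ℓ P (σ P s * w) < ℓ P w) (hc : σ P t * w = w * σ P t) :
    ℓ P (σ P t * (σ P s * w)) ≤ ℓ P (σ P s * w) := by
  by_contra hlt
  set m := σ P s * w with hm
  set J : Set G := {(s : G), (t : G)} with hJ
  have hno : ∀ u : P.S, (u : G) ∈ J → ℓ P m < ℓ P (σ P u * m) := by
    intro u hu
    rcases hu with hu | hu
    · obtain rfl : u = s := Subtype.ext hu
      rwa [hm, mul_mul (isInvGen P)]
    · obtain rfl : u = t := Subtype.ext hu
      omega
  have hsJ : σ P s ∈ WJ P J := Subgroup.subset_closure ⟨s, .inl rfl, rfl⟩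
  have htJ : σ P t ∈ WJ P J := Subgroup.subset_closure ⟨t, .inr rfl, rfl⟩
  have h1 := len_add_of_no_descent hno (mul_mem (mul_mem hsJ htJ) hsJ)
  have h2 : σ P s * σ P t * σ P s * m = m * σ P t := by
    rw [hm, mul_assoc (σ P s * σ P t), mul_mul (isInvGen P), mul_assoc, hc, mul_assoc]
  rw [h2] at h1
  have h3 := len_mul_le (isInvGen P) m (σ P t)
  have h4 := len_gen_le (isInvGen P) t
  obtain ⟨l, hl, hle, hlJ⟩ := exists_reduced_WJ P (mul_mem (mul_mem hsJ htJ) hsJ)
  have hlen : ℓ P (σ P s * σ P t * σ P s) = l.length := by rw [← hle]; exact hl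
  simp only [ℓ] at *
  match l, hlen, hle, hlJ with
  | [], _, e, _ =>
    simp only [List.map_nil, List.prod_nil] at e
    refine σ_ne_one P t ?_
    calc σ P t = σ P s * (σ P s * σ P t * σ P s) * σ P s := by
          simp only [← mul_assoc, σ_mul_self, one_mul]
          rw [mul_assoc, σ_mul_self, mul_one]
      _ = 1 := by rw [← e, mul_one, σ_mul_self]
  | [u], _, e, hu =>
    simp only [List.map_cons, List.map_nil, List.prod_cons, List.prod_nil, mul_one] at e
    have he : σ P s * σ P t = σ P u * σ P s := by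
      rw [e, mul_assoc, mul_assoc, σ_mul_self, mul_one]
    rcases hu u (by simp) with hu | hu
    · obtain rfl : u = s := Subtype.ext hu
      exact hst (by rw [he, ← mul_left_cancel he])
    · obtain rfl : u = t := Subtype.ext hu
      exact hst he
  | _ :: _ :: _, hlen, _, _ =>
    simp only [List.length_cons] at hlen
    omega

omit [Fact p.Prime] in
/-- If every generator shortens `w`, then `w` is longest. -/
theorem len_le_of_descents {w : W P} (h : ∀ s : P.S, ℓ P (σ P s * w) < ℓ P w) (x : W P) : ℓ P x ≤ ℓ P w := by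
  obtain ⟨v, hv, hmax⟩ := exists_longest (P := P) P.S
  have hS : ∀ y, y ∈ WJ P P.S := fun y => by rw [WJ_S]; exact Subgroup.mem_top y
  obtain ⟨l, hl, hle⟩ := exists_reduced (isInvGen P) w⁻¹
  have h1 := len_add_of_max (v := (proj P v)⁻¹) (hS _) (fun y hy => by
    simp only [ℓ]; rw [len_inv (isInvGen P) (proj P v)]; exact hmax y hy) l hl (fun s _ => s.2)
  have hlw : ℓ P w = l.length := by
    simp only [ℓ]; rw [← len_inv (isInvGen P) w, ← hle]; exact hl
  rw [hle, inv_inv, ← hlw] at h1
  have h2 : ℓ P (w * (proj P v)⁻¹) = ℓ P (proj P v * w⁻¹) := by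
    simp only [ℓ]; rw [← len_inv (isInvGen P) (w * (proj P v)⁻¹), mul_inv_rev, inv_inv]
  have h3 : ℓ P (proj P v)⁻¹ = ℓ P (proj P v) := len_inv (isInvGen P) _
  have hx := hmax x (hS x)
  obtain ⟨k, hk, hke⟩ := exists_reduced (isInvGen P) (proj P v * w⁻¹)
  have hk' : ℓ P (proj P v * w⁻¹) = k.length := by rw [← hke]; exact hk
  rcases List.eq_nil_or_concat k with rfl | ⟨k', s, rfl⟩
  · simp only [ℓ, List.length_nil] at *
    omega
  · exfalso
    rw [List.concat_eq_append] at hke hk'
    have hv' : proj P v = (k'.map (σ P)).prod * (σ P s * w) := by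
      rw [List.map_append, List.prod_append, List.map_singleton, List.prod_singleton] at hke
      rw [← mul_assoc, hke, inv_mul_cancel_right]
    have h4 := len_mul_le (isInvGen P) (k'.map (σ P)).prod (σ P s * w)
    have h5 := len_le (isInvGen P) k'
    have h6 := h s
    rw [← hv'] at h4
    simp only [ℓ, List.length_append, List.length_singleton] at *
    omega

omit [Fact p.Prime] [Finite G] in
/-- If no generator shortens `w`, then `w = 1`. -/
theorem eq_one_of_no_descents {w : W P} (h : ∀ s : P.S, ℓ P w < ℓ P (σ P s * w)) : w = 1 := by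
  obtain ⟨l, hl, rfl⟩ := exists_reduced (isInvGen P) w
  cases l with
  | nil => rfl
  | cons s l =>
    exfalso
    have h1 := h s
    have h2 : ℓ P ((s :: l).map (σ P)).prod = (s :: l).length := hl
    have h3 := len_le (isInvGen P) l
    rw [List.map_cons, List.prod_cons, mul_mul (isInvGen P)] at h1
    simp only [List.map_cons, List.prod_cons, ℓ, List.length_cons] at *
    omega

variable {U : Sylow p G} (hUB : (U : Subgroup G) ≤ P.B)
  (hconj : ∀ b ∈ P.B, ∀ u ∈ (U : Subgroup G), b * u * b⁻¹ ∈ (U : Subgroup G))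
  (hdec : ∀ b ∈ P.B, ∃ u ∈ (U : Subgroup G), ∃ t ∈ P.B ⊓ P.N, b = u * t)

include hUB hconj hdec in
/-- An element of `U` fixing `s B` fixes all the chambers of `P_s`. -/
theorem mem_rad_single (hR : Rigid P (U : Subgroup G)) {s : P.S} {e : G} (he : e ∈ (U : Subgroup G))
    (hes : (s : G)⁻¹ * e * s ∈ P.B) : e ∈ rad P U {(s : G)} := by
  have hσ : σ P s ∈ WJ P {(s : G)} := Subgroup.subset_closure ⟨s, rfl, rfl⟩
  refine mem_rad_of_fix hUB hconj hdec hR (Set.singleton_subset_iff.mpr s.2) (v := sN P s) hσ (fun w hw => ?_)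
    he hes
  have : w = 1 ∨ w = σ P s := by
    unfold WJ at hw
    induction hw using Subgroup.closure_induction with
    | mem x hx =>
      obtain ⟨t, ht, rfl⟩ := hx
      exact .inr (congrArg (σ P) (Subtype.ext ht))
    | one => exact .inl rfl
    | mul x y _ _ hx hy =>
      rcases hx with rfl | rfl <;> rcases hy with rfl | rfl
      · exact .inl (one_mul 1)
      · exact .inr (one_mul _)
      · exact .inr (mul_one _)
      · exact .inl (σ_mul_self P s)
    | inv x _ hx =>
      rcases hx with rfl | rfl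
      · exact .inl inv_one
      · exact .inr (inv_eq_of_mul_eq_one_left (σ_mul_self P s))
  rcases this with rfl | rfl
  · simp only [ℓ]; rw [len_one (isInvGen P)]; exact Nat.zero_le _
  · exact le_rfl

omit [Fact p.Prime] [Finite G] in
theorem fix_of_mem_rad {s : P.S} {e : G} (he : e ∈ rad P U {(s : G)}) : (s : G)⁻¹ * e * s ∈ P.B :=
  he.2 _ (mem_parabolic_gen s)

include hUB hconj hdec in
/-- `U = rad_s (U ∩ m U m⁻¹)` if `ℓ m < ℓ (s m)`. -/
theorem exists_factor (hR : Rigid P (U : Subgroup G)) {s : P.S} {m : P.N}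
    (hlt : ℓ P (proj P m) < ℓ P (σ P s * proj P m)) {u : G} (hu : u ∈ (U : Subgroup G)) :
    ∃ r ∈ rad P U {(s : G)}, ∃ k ∈ (U : Subgroup G), (m : G)⁻¹ * k * m ∈ (U : Subgroup G) ∧ u = r * k := by
  have hum : u * (m : G) ∈ cell P (proj P m) := mul_cell P (mem_cell_proj P m) (hUB hu)
  have hsum : (s : G) * (u * m) ∈ cell P (proj P (sN P s * m)) := by
    rw [map_mul]; exact gen_mul_cell_of_le P hlt.le hum
  obtain ⟨a, ha, b, hb, hab⟩ := cell_form hdec _ hsum
  rw [Subgroup.coe_mul] at hab
  change (s : G) * (u * m) = a * ((s : G) * m) * b at hab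
  set r := (s : G)⁻¹ * a * s with hr
  have humr : u * (m : G) = r * m * b := by
    calc u * (m : G) = (s : G)⁻¹ * ((s : G) * (u * m)) := by group
      _ = _ := by rw [hab, hr]; group
  have hrB : r ∈ P.B := gallery hlt.le
    (mul_mem (mul_mem (inv_mem (mem_parabolic_gen s)) (Subgroup.mem_sup_left (hUB ha))) (mem_parabolic_gen s))
    (mem_cell_proj P m) (by
      rw [show r * (m : G) = u * m * b⁻¹ by rw [humr]; group]
      exact cell_mul P hum (P.B.inv_mem hb))
  have hrU : r ∈ (U : Subgroup G) := conj_mem_U hUB hconj hdec ha hrB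
  have hss : (s : G) * s ∈ P.B := P.sq_mem _ s.2
  have hrR : r ∈ rad P U {(s : G)} := mem_rad_single hUB hconj hdec hR hrU (by
    rw [show (s : G)⁻¹ * r * s = ((s : G) * s)⁻¹ * a * ((s : G) * s) by rw [hr]; group]
    exact P.B.mul_mem (P.B.mul_mem (P.B.inv_mem hss) (hUB ha)) hss)
  refine ⟨r, hrR, r⁻¹ * u, mul_mem (inv_mem hrU) hu, conj_mem_U hUB hconj hdec (mul_mem (inv_mem hrU) hu) ?_,
    by group⟩
  rw [show (m : G)⁻¹ * (r⁻¹ * u) * m = (m : G)⁻¹ * r⁻¹ * (u * m) by group, humr,
    show (m : G)⁻¹ * r⁻¹ * (r * m * b) = b by group]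
  exact hb

omit [Fact p.Prime] [Finite G] in
theorem relIndex_le_of_le {K H H' : Subgroup G} [Finite H'] (h : H ≤ H') : K.relIndex H ≤ K.relIndex H' :=
  Nat.card_le_card_of_injective _ (Subgroup.quotientSubgroupOfEmbeddingOfLE K h).injective

omit [Fact p.Prime] in
/-- Equal relative indices mean that `H` meets all cosets. -/
theorem exists_mem_coset {K H H' : Subgroup G} (h : H ≤ H') (heq : K.relIndex H' ≤ K.relIndex H) {x : G}
    (hx : x ∈ H') : ∃ a ∈ H, a⁻¹ * x ∈ K := by
  have hbij := ((Nat.bijective_iff_injective_and_card (Subgroup.quotientSubgroupOfEmbeddingOfLE K h)).mpr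
    ⟨(Subgroup.quotientSubgroupOfEmbeddingOfLE K h).injective, le_antisymm (relIndex_le_of_le h) heq⟩).2
  obtain ⟨q, hq⟩ := hbij (QuotientGroup.mk (⟨x, hx⟩ : H'))
  induction q using Quotient.inductionOn' with
  | h a =>
    refine ⟨a, a.2, ?_⟩
    have := QuotientGroup.eq.mp hq
    simpa [Subgroup.mem_subgroupOf] using this

omit [Fact p.Prime] in
theorem relIndex_eq_of_exists {K H H' : Subgroup G} (h : H ≤ H') (hs : ∀ x ∈ H', ∃ a ∈ H, a⁻¹ * x ∈ K) :
    K.relIndex H = K.relIndex H' := by
  refine Nat.card_congr (Equiv.ofBijective _ ⟨(Subgroup.quotientSubgroupOfEmbeddingOfLE K h).injective, ?_⟩)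
  intro q
  induction q using Quotient.inductionOn' with
  | h x =>
    obtain ⟨a, ha, hax⟩ := hs x x.2
    refine ⟨QuotientGroup.mk (⟨a, ha⟩ : H), ?_⟩
    exact QuotientGroup.eq.mpr (by simpa [Subgroup.mem_subgroupOf] using hax)

omit [Fact p.Prime] in
theorem card_eq_relIndex_mul (K H : Subgroup G) :
    Nat.card H = Nat.card (H ⊓ K : Subgroup G) * K.relIndex H := by
  rw [← Subgroup.card_mul_index (K.subgroupOf H), Subgroup.relIndex]
  congr 1
  rw [← Subgroup.card_map_of_injective (f := H.subtype) (Subgroup.subtype_injective H),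
    Subgroup.subgroupOf_map_subtype, inf_comm]

variable [IsSimpleGroup G]

include hUB hconj hdec in
/-- The tame intersections with a centralizing double coset representative are trivial or full. -/
theorem eq_bot_or_eq (hR : Rigid P (U : Subgroup G)) (n : P.N) {v : G} (hv : v ∈ (U : Subgroup G))
    {D : Subgroup G} (hD : ∀ x, x ∈ D ↔ x ∈ (U : Subgroup G) ∧ (n : G)⁻¹ * x * n ∈ (U : Subgroup G))
    (hc : ∀ x ∈ D, x * ((n : G) * v) = (n : G) * v * x)
    (htame : ∀ S : Sylow p G, Nat.card ((S : Subgroup G) ⊓ Subgroup.normalizer (D : Set G) : Subgroup G) ≤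
      Nat.card ((U : Subgroup G) ⊓ Subgroup.normalizer (D : Set G) : Subgroup G)) :
    D = ⊥ ∨ D = (U : Subgroup G) := by
  set w := proj P n with hw
  have hmemD : ∀ x ∈ (U : Subgroup G), (n : G)⁻¹ * x * n ∈ P.B → x ∈ D := fun x hx hxn =>
    (hD x).mpr ⟨hx, conj_mem_U hUB hconj hdec hx hxn⟩
  have hDU : D ≤ (U : Subgroup G) := fun x hx => ((hD x).mp hx).1
  have hDn : ∀ x ∈ D, (n : G)⁻¹ * x * n ∈ P.B := fun x hx => hUB ((hD x).mp hx).2
  have hconj_rad : ∀ (t : P.S) (b : G), b ∈ P.B → ∀ e, b * e * b⁻¹ ∈ rad P U {(t : G)} →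
      e ∈ rad P U {(t : G)} := fun t b hb e he =>
    (Subgroup.mem_normalizer_iff.mp (parabolic_le_normalizer hUB hconj hdec _
      (Subgroup.mem_sup_left hb)) e).mpr he
  -- a generator lengthening `w` commutes with it
  have hcomm : ∀ t : P.S, ℓ P w < ℓ P (σ P t * w) → σ P t * w = w * σ P t := by
    intro t ht
    obtain ⟨e, heU, het, hef⟩ := exists_half hUB hconj hdec hR t
    have heD : e ∈ D := hmemD e heU (hef n ht)
    have hx : v * e * v⁻¹ = (n : G)⁻¹ * e * n := by
      calc v * e * v⁻¹ = (n : G)⁻¹ * ((n : G) * v * e) * v⁻¹ := by group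
        _ = (n : G)⁻¹ * (e * ((n : G) * v)) * v⁻¹ := by rw [hc e heD]
        _ = _ := by group
    have h1 : ¬ ℓ P (proj P (n * sN P t)) < ℓ P (σ P t * proj P (n * sN P t)) := by
      intro hlt
      refine het (fix_of_mem_rad (U := U) (hconj_rad t v (hUB hv) e ?_))
      refine mem_rad_single hUB hconj hdec hR (mul_mem (mul_mem hv heU) (inv_mem hv)) ?_
      rw [hx]
      have := hef _ hlt
      simpa [mul_assoc] using this
    rw [map_mul, show proj P (sN P t) = σ P t from rfl, ← hw, not_lt] at h1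
    have h2 := len_lt_of_le (isInvGen P) (hasExchange P) h1
    by_cases h3 : ℓ P (w * σ P t) ≤ ℓ P w
    · exfalso
      have h4 := len_mul_le (isInvGen P) (σ P t * (w * σ P t)) (σ P t)
      have h5 := len_gen_le (isInvGen P) t
      rw [show σ P t * (w * σ P t) * σ P t = σ P t * w by
        rw [mul_assoc, mul_assoc, σ_mul_self, mul_one]] at h4
      simp only [ℓ] at *
      omega
    · obtain ⟨l, hl, hle⟩ := exists_reduced (isInvGen P) w
      have hlen : ℓ P w = l.length := by rw [← hle]; exact hl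
      have hprod : ((l ++ [t]).map (σ P)).prod = w * σ P t := by
        rw [List.map_append, List.prod_append, hle, List.map_singleton, List.prod_singleton]
      have h5 := len_gen_le (isInvGen P) t
      have h6 := len_mul_le (isInvGen P) w (σ P t)
      have hred : Reduced (isInvGen P) (l ++ [t]) := by
        show len (isInvGen P) _ = _
        rw [hprod, List.length_append, List.length_singleton]
        simp only [ℓ] at *
        omega
      obtain ⟨j, hj, hje⟩ := hasExchange P t _ hred (by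
        rw [hprod, List.length_append, List.length_singleton]
        simp only [ℓ] at *
        omega)
      have h7 := prod_eraseIdx_of_exchange t _ j hje
      rw [hprod] at h7
      rcases Nat.lt_or_ge j l.length with hjl | hjl
      · exfalso
        rw [List.eraseIdx_append_of_lt_length hjl, List.map_append, List.prod_append, List.map_singleton,
          List.prod_singleton, ← mul_assoc, mul_left_inj] at h7
        have h8 := len_le (isInvGen P) (l.eraseIdx j)
        rw [List.length_eraseIdx_of_lt hjl, show ((l.eraseIdx j).map (σ P)).prod = σ P t * w by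
          rw [h7, mul_mul (isInvGen P)]] at h8
        simp only [ℓ] at *
        omega
      · have hjl' : j = l.length := by simp at hj; omega
        rw [List.eraseIdx_append_of_length_le hjl, hjl', Nat.sub_self, List.eraseIdx_cons_zero,
          List.append_nil, hle] at h7
        exact h7.symm
  -- the extreme cases
  by_cases hnone : ∀ s : P.S, ℓ P w < ℓ P (σ P s * w)
  · refine .inr (le_antisymm hDU fun x hx => hmemD x hx ?_)
    have hnB : (n : G) ∈ P.B := (proj_eq_one P).mp (eq_one_of_no_descents hnone)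
    exact P.B.mul_mem (P.B.mul_mem (P.B.inv_mem hnB) (hUB hx)) hnB
  have hdesc : ∀ s : P.S, ¬ ℓ P w < ℓ P (σ P s * w) → ℓ P (σ P s * w) + 1 = ℓ P w := fun s hs =>
    len_lt_of_le (isInvGen P) (hasExchange P) (not_lt.mp hs)
  push Not at hnone
  obtain ⟨s₀, hs₀⟩ := hnone
  by_cases hall : ∀ s : P.S, ¬ ℓ P w < ℓ P (σ P s * w)
  · refine .inl ((Subgroup.eq_bot_iff_forall D).mpr fun x hx => ?_)
    have hmax := len_le_of_descents (w := w) fun s => by
      have := hdesc s (hall s); omega
    have hmem := mem_rad_of_fix hUB hconj hdec hR (le_refl P.S) (v := n)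
      (by rw [WJ_S]; exact Subgroup.mem_top _) (fun y _ => hmax y) (hDU hx) (hDn x hx)
    rwa [rad_top_eq_bot hUB hconj hdec s₀, Subgroup.mem_bot] at hmem
  push Not at hall
  obtain ⟨t₁, ht₁⟩ := hall
  exfalso
  -- a descent not commuting with a non-descent
  set L : Set G := {y | ∃ h : y ∈ P.S, ℓ P w < ℓ P (σ P ⟨y, h⟩ * w)} with hL
  obtain ⟨s, t, ⟨_, htw⟩, hsL, hst⟩ := exists_not_commute hUB hconj hdec hR (L := L) (fun y hy => hy.1)
    (t₀ := t₁) ⟨t₁.2, ht₁⟩ (s₀ := s₀) (fun ⟨_, h⟩ => absurd h (not_lt.mpr hs₀))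
  have hsw := hdesc s fun h => hsL ⟨s.2, h⟩
  set m : P.N := (sN P s)⁻¹ * n with hm
  have hpm : proj P m = σ P s * w := by
    rw [hm, map_mul, map_inv, show proj P (sN P s) = σ P s from rfl, inv_eq (isInvGen P)]
  have hmlt : ℓ P (proj P m) < ℓ P (σ P s * proj P m) := by
    rw [hpm, mul_mul (isInvGen P)]; omega
  set R := rad P U {(s : G)} with hRdef
  have hRU : R ≤ (U : Subgroup G) := rad_le _
  have hPN : P.parabolic {(s : G)} ≤ Subgroup.normalizer (R : Set G) := parabolic_le_normalizer hUB hconj hdec _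
  have hDR : D ≤ R := fun x hx => mem_rad_single hUB hconj hdec hR (hDU hx)
    (fix_prefix (hUB (hDU hx)) (hDn x hx) [s] (by
      simp only [List.map_singleton, List.prod_singleton, List.length_singleton, inv_eq (isInvGen P)]
      rw [← hw]
      omega) (sN P s) (by simp; rfl))
  set S₁ : Sylow p G := (s : G) • U with hS₁
  have hmemS : ∀ x, x ∈ (S₁ : Subgroup G) ↔ (s : G)⁻¹ * x * s ∈ (U : Subgroup G) := fun x => by
    rw [hS₁, Sylow.coe_subgroup_smul, Subgroup.mem_pointwise_smul_iff_inv_smul_mem]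
    simp [MulAut.smul_def]
  have hRS : R ≤ (S₁ : Subgroup G) := fun x hx => (hmemS x).mpr (hRU
    ((Subgroup.mem_normalizer_iff''.mp (hPN (mem_parabolic_gen s)) x).mp hx))
  set A := (U : Subgroup G) ⊓ Subgroup.normalizer (D : Set G) with hA
  set N₁ := (S₁ : Subgroup G) ⊓ Subgroup.normalizer (D : Set G) with hN₁
  have hmk : ∀ k ∈ (U : Subgroup G), (m : G)⁻¹ * k * m ∈ (U : Subgroup G) → (s : G) * k * (s : G)⁻¹ ∈ N₁ := by
    intro k hk hkm
    refine ⟨(hmemS _).mpr (by simpa [mul_assoc] using hk), mem_normalizer_of_conj_mem fun x hx => ?_⟩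
    have hy : (s : G) * k * (s : G)⁻¹ ∈ P.parabolic {(s : G)} :=
      mul_mem (mul_mem (mem_parabolic_gen s) (Subgroup.mem_sup_left (hUB hk))) (inv_mem (mem_parabolic_gen s))
    refine (hD _).mpr ⟨hRU ((Subgroup.mem_normalizer_iff.mp (hPN hy) x).mp (hDR hx)), ?_⟩
    have hn : (n : G)⁻¹ * ((s : G) * k * (s : G)⁻¹) * n = (m : G)⁻¹ * k * m := by
      rw [hm, Subgroup.coe_mul, Subgroup.coe_inv]; group
    rw [show (n : G)⁻¹ * ((s : G) * k * (s : G)⁻¹ * x * ((s : G) * k * (s : G)⁻¹)⁻¹) * n =
      ((n : G)⁻¹ * ((s : G) * k * (s : G)⁻¹) * n) * ((n : G)⁻¹ * x * n) *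
        ((n : G)⁻¹ * ((s : G) * k * (s : G)⁻¹) * n)⁻¹ by group, hn]
    exact mul_mem (mul_mem hkm ((hD x).mp hx).2) (inv_mem hkm)
  have hcov : ∀ x ∈ (S₁ : Subgroup G), ∃ a ∈ N₁, a⁻¹ * x ∈ R := by
    intro x hx
    obtain ⟨r, hr, k, hk, hkm, hrk⟩ := exists_factor hUB hconj hdec hR hmlt ((hmemS x).mp hx)
    refine ⟨_, hmk k hk hkm, ?_⟩
    have hy : ((s : G) * k)⁻¹ * (s : G) ∈ P.parabolic {(s : G)} := mul_mem (inv_mem (mul_mem (mem_parabolic_gen s)
      (Subgroup.mem_sup_left (hUB hk)))) (mem_parabolic_gen s)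
    have hx' : x = (s : G) * (r * k) * (s : G)⁻¹ := by rw [← hrk]; group
    rw [hx', show ((s : G) * k * (s : G)⁻¹)⁻¹ * ((s : G) * (r * k) * (s : G)⁻¹) =
      (s : G) * (k⁻¹ * r * k) * (s : G)⁻¹ by group]
    exact (Subgroup.mem_normalizer_iff.mp (hPN (mem_parabolic_gen s)) _).mp
      ((Subgroup.mem_normalizer_iff''.mp (hPN (Subgroup.mem_sup_left (hUB hk))) r).mp hr)
  have hrA : R.relIndex (U : Subgroup G) ≤ R.relIndex A := by
    have h1 := htame S₁
    rw [card_eq_relIndex_mul R N₁, card_eq_relIndex_mul R A] at h1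
    have h2 : N₁ ⊓ R = A ⊓ R := by
      rw [hN₁, hA, inf_right_comm, inf_eq_right.mpr hRS, inf_right_comm (U : Subgroup G), inf_eq_right.mpr hRU]
    rw [h2, relIndex_eq_of_exists (inf_le_left : N₁ ≤ _) hcov] at h1
    have h3 : R.relIndex (S₁ : Subgroup G) = R.relIndex (U : Subgroup G) := by
      have e1 := card_eq_relIndex_mul R (S₁ : Subgroup G)
      rw [inf_eq_right.mpr hRS, show Nat.card (S₁ : Subgroup G) = Nat.card (U : Subgroup G) by
        rw [Sylow.card_eq_multiplicity, Sylow.card_eq_multiplicity], card_eq_relIndex_mul R (U : Subgroup G),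
        inf_eq_right.mpr hRU] at e1
      exact (Nat.eq_of_mul_eq_mul_left Nat.card_pos e1).symm
    rw [← h3]
    exact Nat.le_of_mul_le_mul_left h1 Nat.card_pos
  -- an element of `N(D)` mapping `B` to `s B`
  obtain ⟨k, hkU, hks, hkf⟩ := exists_half hUB hconj hdec hR s
  have hyN := hmk k hkU (conj_mem_U hUB hconj hdec hkU (hkf m hmlt))
  have hss : (s : G) * s ∈ P.B := P.sq_mem _ s.2
  have hyB : (s : G) * k * (s : G)⁻¹ ∉ P.B := fun h => hks (by
    rw [show (s : G)⁻¹ * k * s = ((s : G) * s)⁻¹ * ((s : G) * k * (s : G)⁻¹) * ((s : G) * s) by group]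
    exact P.B.mul_mem (P.B.mul_mem (P.B.inv_mem hss) h) hss)
  have hys : (s : G) * k * (s : G)⁻¹ ∈ cell P (σ P s) := (parabolic_singleton (mul_mem (mul_mem
    (mem_parabolic_gen s) (Subgroup.mem_sup_left (hUB hkU))) (inv_mem (mem_parabolic_gen s)))).resolve_left hyB
  obtain ⟨u, hu, b₁, hb₁, hub⟩ := cell_form hdec (sN P s) hys
  obtain ⟨a, ha, har⟩ := exists_mem_coset (inf_le_left : A ≤ _) hrA hu
  set b := (s : G)⁻¹ * (a⁻¹ * u) * s * b₁ with hb
  have hbB : b ∈ P.B := P.B.mul_mem (fix_of_mem_rad har) hb₁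
  have hh : (s : G) * b ∈ Subgroup.normalizer (D : Set G) := by
    have h1 : a⁻¹ * ((s : G) * k * (s : G)⁻¹) = (s : G) * b := by
      rw [hub, hb]; simp only [mul_assoc, mul_inv_cancel_left]
    rw [← h1]
    exact mul_mem (inv_mem ha.2) hyN.2
  -- the half apartment element of `t` gives the contradiction
  obtain ⟨e, heU, het, hef⟩ := exists_half hUB hconj hdec hR t
  have hf := hDn _ ((Subgroup.mem_normalizer_iff.mp hh e).mp (hmemD e heU (hef n htw)))
  have hfm : (m : G)⁻¹ * (b * e * b⁻¹) * m ∈ P.B := by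
    rw [hm, Subgroup.coe_mul, Subgroup.coe_inv]
    simpa [mul_assoc] using hf
  have hle := len_le_of_commute hst (by omega) (hcomm t htw)
  have hlt' := len_lt_of_le (isInvGen P) (hasExchange P) hle
  have hfU : b * e * b⁻¹ ∈ (U : Subgroup G) := hconj b hbB e heU
  refine het (fix_of_mem_rad (U := U) (hconj_rad t b hbB e (mem_rad_single hUB hconj hdec hR hfU
    (fix_prefix (hUB hfU) hfm [t] ?_ (sN P t) (by simp; rfl)))))
  simp only [List.map_singleton, List.prod_singleton, List.length_singleton, inv_eq (isInvGen P)]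
  rw [hpm]
  simp only [ℓ] at *
  omega

end CfsgLib.BNPair.TameInter
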